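import Groth.Prelude.Def_ArtFun3
import Mathlib.RingTheory.Nakayama
import Mathlib.Order.Atoms
import Mathlib.RingTheory.HopkinsLevitzki
import Mathlib.RingTheory.LocalRing.ResidueField.Basic

/-!
# Small extensions from covering pairs of ideals

For an object `C` of `Art Λ k` and ideals `J' ⋖ J ≤ 𝔪` the map `C/J' → C/J` is a small extension; every nonzero
ideal covers some ideal.  Induction over small extensions.
-/

set_option autoImplicit false
set_option linter.unusedSectionVars false
set_option linter.style.haveILetI false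
set_option linter.unusedVariables false
universe u v
open CategoryTheory

namespace K726.Basic

section Ring

variable {R : Type u} [CommRing R] [IsLocalRing R] [IsNoetherianRing R]

/-- If `J'` is covered by `J`, then the maximal ideal multiplies `J` into `J'`. -/
lemma mul_le_of_covBy {J' J : Ideal R} (h : J' ⋖ J) : IsLocalRing.maximalIdeal R * J ≤ J' := by
  have h1 : J' ≤ J' ⊔ IsLocalRing.maximalIdeal R * J := le_sup_left
  have h2 : J' ⊔ IsLocalRing.maximalIdeal R * J ≤ J := sup_le h.le Ideal.mul_le_right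
  rcases h.eq_or_eq h1 h2 with h3 | h3
  · rw [← h3]; exact le_sup_right
  · exfalso
    have h4 : J ≤ J' := by
      have hfg : (J : Submodule R R).FG := IsNoetherian.noetherian J
      exact Submodule.le_of_le_smul_of_le_jacobson_bot (I := IsLocalRing.maximalIdeal R)
        (N := J') (N' := J) hfg (by
          rw [IsLocalRing.jacobson_eq_maximalIdeal ⊥ bot_ne_top]) (by
          rw [smul_eq_mul]; exact h3.ge)
    exact absurd h4 h.lt.not_ge

/-- If `J'` is covered by `J`, then `J = J' + (c)` for any `c ∈ J` outside `J'`. -/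
lemma sup_span_eq_of_covBy {J' J : Ideal R} (h : J' ⋖ J) {c : R} (hc : c ∈ J) (hc' : c ∉ J') :
    J' ⊔ Ideal.span {c} = J := by
  have h1 : J' ≤ J' ⊔ Ideal.span {c} := le_sup_left
  have h2 : J' ⊔ Ideal.span {c} ≤ J :=
    sup_le h.le ((Ideal.span_singleton_le_iff_mem _).2 hc)
  rcases h.eq_or_eq h1 h2 with h3 | h3
  · exfalso
    apply hc'
    rw [← h3]
    exact Ideal.mem_sup_right (Ideal.mem_span_singleton_self c)
  · exact h3

/-- In a Noetherian ring every ideal strictly containing another one covers an ideal in between. -/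
lemma exists_covBy {J₀ J : Ideal R} (h : J₀ < J) : ∃ J' : Ideal R, J₀ ≤ J' ∧ J' ⋖ J := by
  haveI : IsStronglyCoatomic (Ideal R) :=
    IsStronglyCoatomic.of_wellFounded_gt (wellFounded_gt)
  exact exists_le_covBy_of_lt h

end Ring

/-- The action of the residue field on a module killed by the maximal ideal. -/
lemma exists_residueField_act (R : Type u) [CommRing R] [IsLocalRing R] (I : Type v) [AddCommGroup I] [Module R I]
    (h : ∀ r ∈ IsLocalRing.maximalIdeal R, ∀ y : I, r • y = 0) :
    ∃ ψ : IsLocalRing.ResidueField R →ₗ[R] I →ₗ[R] I, ∀ y, ψ 1 y = y := by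
  have hker : (IsLocalRing.maximalIdeal R : Submodule R R) ≤ LinearMap.ker (LinearMap.lsmul R I) := by
    intro r hr
    rw [LinearMap.mem_ker]
    exact LinearMap.ext fun y => h r hr y
  refine ⟨Submodule.liftQ (IsLocalRing.maximalIdeal R : Submodule R R) (LinearMap.lsmul R I) hker, fun y => ?_⟩
  change (1 : R) • y = y
  rw [one_smul]

section Art

open ArtFun ArtFun.Art

variable {Λ : Type u} {k : Type u} [CommRing Λ] [Field k] [Algebra Λ k]

/-- The transition map `C/J' ⟶ C/J` for `J' ≤ J ≤ 𝔪`. -/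
noncomputable def quotMap (C : Art Λ k) {J' J : Ideal C} (hle : J' ≤ J) (hJ : J ≤ IsLocalRing.maximalIdeal C) :
    quot C J' (hle.trans hJ) ⟶ quot C J hJ :=
  quotFactor (hle.trans hJ) (quotMk C J hJ) (fun _ ha => RingHom.mem_ker.2
    (Ideal.Quotient.eq_zero_iff_mem.2 (hle ha)))

lemma quotMap_mk (C : Art Λ k) {J' J : Ideal C} (hle : J' ≤ J) (hJ : J ≤ IsLocalRing.maximalIdeal C) (a : C) :
    quotMap C hle hJ (quotMk C J' (hle.trans hJ) a) = quotMk C J hJ a := rfl

lemma quotMap_surjective (C : Art Λ k) {J' J : Ideal C} (hle : J' ≤ J) (hJ : J ≤ IsLocalRing.maximalIdeal C) :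
    Function.Surjective (quotMap C hle hJ) := by
  intro x
  obtain ⟨a, rfl⟩ := quotMk_surjective C J hJ x
  exact ⟨quotMk C J' (hle.trans hJ) a, rfl⟩

/-- An element of a morphism's kernel. -/
lemma quotMk_mem_ker_quotMap (C : Art Λ k) {J' J : Ideal C} (hle : J' ≤ J) (hJ : J ≤ IsLocalRing.maximalIdeal C)
    (a : C) : quotMk C J' (hle.trans hJ) a ∈ RingHom.ker (quotMap C hle hJ).toAlgHom ↔ a ∈ J := by
  rw [RingHom.mem_ker]
  change quotMk C J hJ a = 0 ↔ a ∈ J
  exact Ideal.Quotient.eq_zero_iff_mem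

lemma isSmallExt_quotMap (C : Art Λ k) {J' J : Ideal C} (h : J' ⋖ J) (hJ : J ≤ IsLocalRing.maximalIdeal C) :
    IsSmallExt (quotMap C h.le hJ) := by
  haveI : IsNoetherianRing C := inferInstance
  obtain ⟨c, hc, hc'⟩ := SetLike.exists_of_lt h.lt
  have hcz : quotMk C J' (h.le.trans hJ) c ≠ 0 := fun h0 => hc' (Ideal.Quotient.eq_zero_iff_mem.1 h0)
  refine ⟨quotMap_surjective C h.le hJ, ?_, ?_, ?_⟩
  · intro hbot
    have := (quotMk_mem_ker_quotMap C h.le hJ c).2 hc
    rw [hbot] at this
    exact hcz this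
  · refine ⟨⟨quotMk C J' (h.le.trans hJ) c, ?_⟩⟩
    apply le_antisymm
    · intro x hx
      obtain ⟨a, rfl⟩ := quotMk_surjective C J' (h.le.trans hJ) x
      rw [quotMk_mem_ker_quotMap, ← sup_span_eq_of_covBy h hc hc'] at hx
      obtain ⟨y, hy, z, hz, rfl⟩ := Submodule.mem_sup.1 hx
      obtain ⟨r, rfl⟩ := Ideal.mem_span_singleton'.1 hz
      have : quotMk C J' (h.le.trans hJ) (y + r * c) =
          quotMk C J' (h.le.trans hJ) r * quotMk C J' (h.le.trans hJ) c := by
        have h0 : quotMk C J' (h.le.trans hJ) y = 0 := Ideal.Quotient.eq_zero_iff_mem.2 hy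
        rw [map_add, map_mul, h0, zero_add]
      rw [this]
      exact Ideal.mul_mem_left _ _ (Ideal.mem_span_singleton_self _)
    · rw [Submodule.span_le, Set.singleton_subset_iff]
      exact (quotMk_mem_ker_quotMap C h.le hJ c).2 hc
  · rw [Submodule.eq_bot_iff]
    intro x hx
    refine Submodule.mul_induction_on hx ?_ ?_
    · intro a ha b hb
      obtain ⟨a, rfl⟩ := quotMk_surjective C J' (h.le.trans hJ) a
      obtain ⟨b, rfl⟩ := quotMk_surjective C J' (h.le.trans hJ) b
      rw [quotMk_mem_ker_quotMap] at hb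
      rw [mem_maximalIdeal_iff, res_app, ← mem_maximalIdeal_iff] at ha
      rw [← map_mul]
      exact Ideal.Quotient.eq_zero_iff_mem.2 (mul_le_of_covBy h (Ideal.mul_mem_mul ha hb))
    · intro a b ha hb
      rw [ha, hb, add_zero]

end Art

end K726.Basic
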