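import Groth.Prelude.Def_ArtFun3

/-!
# Elementary universal properties in `Art Λ k`: descent along surjections, maps into fibre products
-/

set_option autoImplicit false
set_option linter.unusedSectionVars false
universe u v
open CategoryTheory

namespace K726.Desc

open ArtFun ArtFun.Art

variable {Λ : Type u} {k : Type u} [CommRing Λ] [Field k] [Algebra Λ k]

/-- A morphism killing the kernel of a surjection descends. -/
lemma exists_desc {B A C : Art Λ k} (f : B ⟶ A) (hf : Function.Surjective f) (g : B ⟶ C)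
    (h : ∀ b : B, f b = 0 → g b = 0) : ∃ t : A ⟶ C, f ≫ t = g := by
  let s : A → B := Function.surjInv hf
  have hs : ∀ a, f (s a) = a := Function.surjInv_eq hf
  have key : ∀ (b b' : B), f b = f b' → g b = g b' := by
    intro b b' hb
    have : f (b - b') = 0 := by rw [map_sub, hb, sub_self]
    have h2 := h _ this
    rwa [map_sub, sub_eq_zero] at h2
  let t : A →ₐ[Λ] C :=
    { toFun := fun a => g (s a)
      map_one' := by rw [← map_one g.toAlgHom]; exact key _ _ (by rw [hs, map_one])
      map_zero' := by rw [← map_zero g.toAlgHom]; exact key _ _ (by rw [hs, map_zero])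
      map_mul' := fun a a' => by rw [← map_mul]; exact key _ _ (by rw [hs, map_mul, hs, hs])
      map_add' := fun a a' => by rw [← map_add]; exact key _ _ (by rw [hs, map_add, hs, hs])
      commutes' := fun r => by
        rw [← g.toAlgHom.commutes r]; exact key _ _ (by rw [hs, f.toAlgHom.commutes]) }
  have ht : ∀ b, t (f b) = g b := fun b => key _ _ (hs _)
  refine ⟨⟨t, ?_⟩, ?_⟩
  · apply AlgHom.ext
    intro a
    change C.res (g (s a)) = A.res a
    rw [res_app, ← res_app f, hs]
  · apply hom_ext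
    exact AlgHom.ext ht

/-- Maps into a pinned fibre product. -/
lemma exists_lift {B A A' A'' D : Art Λ k} {p' : B ⟶ A'} {p'' : B ⟶ A''} {f' : A' ⟶ A} {f'' : A'' ⟶ A}
    (h : IsFibreProd p' p'' f' f'') (u : D ⟶ A') (w : D ⟶ A'') (huw : u ≫ f' = w ≫ f'') :
    ∃ t : D ⟶ B, t ≫ p' = u ∧ t ≫ p'' = w := by
  have h1 : ∀ d : D, f' (u d) = f'' (w d) := fun d => by
    change (u ≫ f') d = (w ≫ f'') d
    rw [huw]
  choose t ht1 ht2 using fun d : D => h.surj (u d) (w d) (h1 d)
  let t' : D →ₐ[Λ] B :=
    { toFun := t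
      map_one' := h.inj _ _ (by rw [ht1, map_one, map_one]) (by rw [ht2, map_one, map_one])
      map_zero' := h.inj _ _ (by rw [ht1, map_zero, map_zero]) (by rw [ht2, map_zero, map_zero])
      map_mul' := fun a b => h.inj _ _ (by rw [ht1, map_mul, map_mul, ht1, ht1])
        (by rw [ht2, map_mul, map_mul, ht2, ht2])
      map_add' := fun a b => h.inj _ _ (by rw [ht1, map_add, map_add, ht1, ht1])
        (by rw [ht2, map_add, map_add, ht2, ht2])
      commutes' := fun r => h.inj _ _ (by rw [ht1, AlgHom.commutes, AlgHom.commutes])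
        (by rw [ht2, AlgHom.commutes, AlgHom.commutes]) }
  refine ⟨⟨t', ?_⟩, ?_, ?_⟩
  · apply AlgHom.ext
    intro d
    change B.res (t d) = D.res d
    rw [← res_app p', ht1, res_app]
  · apply hom_ext; exact AlgHom.ext ht1
  · apply hom_ext; exact AlgHom.ext ht2

/-- Uniqueness of maps into a pinned fibre product. -/
lemma hom_ext_fib {B A A' A'' D : Art Λ k} {p' : B ⟶ A'} {p'' : B ⟶ A''} {f' : A' ⟶ A} {f'' : A'' ⟶ A}
    (h : IsFibreProd p' p'' f' f'') {s t : D ⟶ B} (h1 : s ≫ p' = t ≫ p') (h2 : s ≫ p'' = t ≫ p'') : s = t := by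
  apply hom_ext
  apply AlgHom.ext
  intro d
  apply h.inj
  · change (s ≫ p') d = (t ≫ p') d
    rw [h1]
  · change (s ≫ p'') d = (t ≫ p'') d
    rw [h2]

/-- Functoriality, elementwise. -/
lemma map_comp_apply (F : Art Λ k ⥤ Type v) {A B C : Art Λ k} (f : A ⟶ B) (g : B ⟶ C) (x : F.obj A) :
    F.map (f ≫ g) x = F.map g (F.map f x) := FunctorToTypes.map_comp_apply F f g x

lemma map_id_apply (F : Art Λ k ⥤ Type v) {A : Art Λ k} (x : F.obj A) :
    F.map (𝟙 A) x = x := FunctorToTypes.map_id_apply F x

end K726.Desc
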