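import Mathlib.RingTheory.Flat.EquationalCriterion
import Mathlib.RingTheory.RingHom.Flat
import Mathlib.RingTheory.LocalRing.MaximalIdeal.Basic
import Mathlib.LinearAlgebra.Basis.Basic

/-!
# The kernel of a flat semismall extension of algebras, in coordinates

`A` local with residue field `k`, `J ≤ A` killed by the maximal ideal with `k`-basis `b`, `σ : A → R` flat,
`π₀ : R → B₀` surjective with kernel `m R`.  Then `(Fin n → B₀) ≅ J R` via `kap`.
-/

set_option autoImplicit false

namespace K726.DobsAlg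

variable {k A R B₀ : Type*} [Field k] [CommRing A] [Algebra k A] [IsLocalRing A] [CommRing R] [CommRing B₀]
  {σ : A →+* R} {π₀ : R →+* B₀}

theorem mul_eq_zero_of_mem {J : Ideal A} (hJ : IsLocalRing.maximalIdeal A * J = ⊥) {j : A} (hj : j ∈ J)
    {r : R} (hr : r ∈ (IsLocalRing.maximalIdeal A).map σ) : σ j * r = 0 := by
  rw [Ideal.map] at hr
  induction hr using Submodule.span_induction with
  | mem x h =>
    obtain ⟨a, ha, rfl⟩ := h
    rw [← map_mul]
    have h1 : a * j ∈ IsLocalRing.maximalIdeal A * J := Ideal.mul_mem_mul ha hj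
    rw [hJ, Ideal.mem_bot] at h1
    rw [mul_comm, h1, map_zero]
  | zero => rw [mul_zero]
  | add x y _ _ hx hy => rw [mul_add, hx, hy, add_zero]
  | smul a x _ hx => rw [smul_eq_mul, mul_left_comm, hx, mul_zero]

theorem mul_eq_mul {J : Ideal A} (hJ : IsLocalRing.maximalIdeal A * J = ⊥)
    (hk : RingHom.ker π₀ = (IsLocalRing.maximalIdeal A).map σ) {j : A} (hj : j ∈ J) {r r' : R}
    (h : π₀ r = π₀ r') : σ j * r = σ j * r' := by
  have h1 : r - r' ∈ RingHom.ker π₀ := by rw [RingHom.mem_ker, map_sub, h, sub_self]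
  rw [hk] at h1
  have h2 := mul_eq_zero_of_mem hJ hj h1
  rwa [mul_sub, sub_eq_zero] at h2

variable (hres : ∀ a : A, ∃ c : k, a - algebraMap k A c ∈ IsLocalRing.maximalIdeal A)
  {J : Ideal A} (hJ : IsLocalRing.maximalIdeal A * J = ⊥) {ι : Type*} [Fintype ι]
  (b : Module.Basis ι k J)

include hres hJ in
/-- Injectivity of `kap`. -/
theorem inj_sum (hσ : σ.Flat) (hk : RingHom.ker π₀ = (IsLocalRing.maximalIdeal A).map σ) (r : ι → R)
    (h : ∑ l, σ (b l : A) * r l = 0) (l : ι) : π₀ (r l) = 0 := by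
  algebraize [σ]
  have hfl : Module.Flat A R := hσ
  have h' : ∑ l, (b l : A) • r l = 0 := by
    rw [← h]
    exact Finset.sum_congr rfl fun i _ => Algebra.smul_def _ _
  obtain ⟨κ, a, y, h1, h2⟩ := Module.Flat.isTrivialRelation_of_sum_smul_eq_zero h'
  have key : ∀ (l : ι) (j : Fin κ), a l j ∈ IsLocalRing.maximalIdeal A := by
    intro l j
    choose c hc using hres
    have h3 : ∀ l, (b l : A) * a l j = algebraMap k A (c (a l j)) * b l := by
      intro l
      have h4 : (a l j - algebraMap k A (c (a l j))) * (b l : A) ∈ IsLocalRing.maximalIdeal A * J :=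
        Ideal.mul_mem_mul (hc (a l j)) (b l).2
      rw [hJ, Ideal.mem_bot, sub_mul, sub_eq_zero] at h4
      rw [mul_comm, h4]
    have h5 : ∑ l, c (a l j) • b l = 0 := by
      apply Subtype.ext
      rw [AddSubmonoidClass.coe_finsetSum]
      refine Eq.trans ?_ (h2 j)
      exact Finset.sum_congr rfl fun l _ => by
        rw [h3]
        exact Algebra.smul_def _ _
    have h6 := Fintype.linearIndependent_iff.1 b.linearIndependent _ h5 l
    have h7 := hc (a l j)
    rwa [h6, map_zero, sub_zero] at h7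
  rw [← RingHom.mem_ker, hk, h1 l]
  refine sum_mem fun j _ => ?_
  rw [Algebra.smul_def]
  exact Ideal.mul_mem_right _ _ (Ideal.mem_map_of_mem _ (key l j))

/-- Surjectivity of `kap` onto `J R`. -/
theorem exists_sum {r : R} (hr : r ∈ J.map σ) : ∃ t : ι → R, r = ∑ l, σ (b l : A) * t l := by
  rw [Ideal.map] at hr
  induction hr using Submodule.span_induction with
  | mem x h =>
    obtain ⟨j, hj, rfl⟩ := h
    refine ⟨fun l => σ (algebraMap k A (b.repr ⟨j, hj⟩ l)), ?_⟩
    have h1 := congrArg (fun z : J => σ (z : A)) (b.sum_repr ⟨j, hj⟩)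
    refine h1.symm.trans ?_
    change σ ((∑ i, b.repr ⟨j, hj⟩ i • b i : J) : A) = _
    rw [AddSubmonoidClass.coe_finsetSum, map_sum]
    refine Finset.sum_congr rfl fun l _ => ?_
    have h2 : ((b.repr ⟨j, hj⟩ l • b l : J) : A) = algebraMap k A (b.repr ⟨j, hj⟩ l) * b l :=
      Algebra.smul_def _ _
    rw [h2, map_mul, mul_comm]
  | zero => exact ⟨0, by simp⟩
  | add x y _ _ hx hy =>
    obtain ⟨t, rfl⟩ := hx
    obtain ⟨t', rfl⟩ := hy
    refine ⟨t + t', ?_⟩
    rw [← Finset.sum_add_distrib]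
    exact Finset.sum_congr rfl fun l _ => by rw [Pi.add_apply, mul_add]
  | smul a x _ hx =>
    obtain ⟨t, rfl⟩ := hx
    refine ⟨fun l => a * t l, ?_⟩
    rw [smul_eq_mul, Finset.mul_sum]
    exact Finset.sum_congr rfl fun l _ => by ring

variable (hs : Function.Surjective π₀) (hk : RingHom.ker π₀ = (IsLocalRing.maximalIdeal A).map σ)

/-- The map `(ι → B₀) → R`, `t ↦ ∑ b l * t l`. -/
noncomputable def kap : (ι → B₀) →+ R where
  toFun t := ∑ l, σ (b l : A) * Function.surjInv hs (t l)
  map_zero' := by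
    refine Finset.sum_eq_zero fun l _ => ?_
    rw [mul_eq_mul hJ hk (b l).2 (r' := 0) (by
      rw [map_zero]
      exact Function.surjInv_eq hs _), mul_zero]
  map_add' t t' := by
    rw [← Finset.sum_add_distrib]
    refine Finset.sum_congr rfl fun l _ => ?_
    rw [← mul_add]
    apply mul_eq_mul hJ hk (b l).2
    rw [map_add, Function.surjInv_eq hs, Function.surjInv_eq hs, Function.surjInv_eq hs]
    rfl

theorem kap_apply (r : ι → R) : kap hJ b hs hk (fun l => π₀ (r l)) = ∑ l, σ (b l : A) * r l :=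
  Finset.sum_congr rfl fun l _ => mul_eq_mul hJ hk (b l).2 (Function.surjInv_eq hs _)

theorem kap_eq {t : ι → B₀} {r : ι → R} (h : ∀ l, π₀ (r l) = t l) :
    kap hJ b hs hk t = ∑ l, σ (b l : A) * r l := by
  have : t = fun l => π₀ (r l) := funext fun l => (h l).symm
  rw [this, kap_apply]

include hres in
theorem kap_injective (hσ : σ.Flat) : Function.Injective (kap hJ b hs hk) := by
  rw [injective_iff_map_eq_zero]
  intro t ht
  choose r hr using fun l => hs (t l)
  rw [kap_eq hJ b hs hk hr] at ht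
  funext l
  rw [← hr l]
  exact inj_sum hres hJ b hσ hk r ht l

theorem exists_kap {r : R} (hr : r ∈ J.map σ) : ∃ t, kap hJ b hs hk t = r := by
  obtain ⟨s, rfl⟩ := exists_sum b hr
  exact ⟨_, kap_apply hJ b hs hk s⟩

theorem kap_mem (t : ι → B₀) : kap hJ b hs hk t ∈ J.map σ :=
  sum_mem fun l _ => Ideal.mul_mem_right _ _ (Ideal.mem_map_of_mem _ (b l).2)

theorem kap_smul (a : R) (t : ι → B₀) : kap hJ b hs hk (fun l => π₀ a * t l) = a * kap hJ b hs hk t := by
  choose r hr using fun l => hs (t l)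
  rw [kap_eq hJ b hs hk hr, kap_eq hJ b hs hk (r := fun l => a * r l) (fun l => by rw [map_mul, hr]),
    Finset.mul_sum]
  exact Finset.sum_congr rfl fun l _ => by ring

end K726.DobsAlg
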