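import Groth.Agent.ArtFun.K726.DobsBand

/-!
# Base change of local lifts and functoriality of the class
-/

set_option autoImplicit false
universe u

open CategoryTheory CategoryTheory.Limits AlgebraicGeometry Opposite TopologicalSpace
open Groth.Agent.Sga67.Sec
open K696.Base K696.Thk K679
open ArtFun ArtFun.Art

namespace K726.Dobs

variable {k : Type u} [Field k] {X₀ : Scheme.{u}} {x : X₀ ⟶ specPt k} {A' B' A : Art k k}
  {p : A' ⟶ A} {g : A' ⟶ B'} {q : B' ⟶ A} {ξ : DefSch (Λ := k) X₀ x A}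

variable (g) in
/-- `a'` is the base change of the local lift `a` along `g`. -/
structure LLb {W : ξ.total.Opens} (a : LL p ξ W) (a' : LL q ξ W) where
  t : a'.Z ⟶ a.Z
  j_t : a'.j ≫ t = a.j
  pb : IsPullback t a'.s a.s (specMap g)

theorem exists_LLb (hgq : g ≫ q = p) {W : ξ.total.Opens} (a : LL p ξ W) :
    ∃ a' : LL q ξ W, Nonempty (LLb g a a') := by
  have hsp : specMap p = specMap q ≫ specMap g := by rw [← specMap_comp, hgq]
  have hpb := a.pb
  rw [hsp] at hpb
  let j' : W.toScheme ⟶ pullback a.s (specMap g) :=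
    pullback.lift a.j ((W.ι ≫ ξ.f) ≫ specMap q) (hpb.w.trans (Category.assoc _ _ _).symm)
  have hj1 : j' ≫ pullback.fst _ _ = a.j := pullback.lift_fst _ _ _
  have hj2 : j' ≫ pullback.snd _ _ = (W.ι ≫ ξ.f) ≫ specMap q := pullback.lift_snd _ _ _
  have hfl := a.flat
  refine ⟨{ Z := pullback a.s (specMap g)
            j := j'
            s := pullback.snd _ _
            flat := inferInstance
            pb := ?_ }, ⟨{ t := pullback.fst _ _
                           j_t := hj1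
                           pb := IsPullback.of_hasPullback _ _ }⟩⟩
  refine IsPullback.of_right ?_ hj2 (IsPullback.of_hasPullback a.s (specMap g))
  rw [hj1]
  exact hpb

theorem sm_of_affine {V : ξ.total.Opens} (hV : IsAffineOpen V) : Sm (p₀ p ξ) V :=
  ⟨hV, ⊤, isAffineOpen_top (Spec (CommRingCat.of A')), le_top⟩

namespace LL

variable {hp : IsSemismallExt p} {W : ξ.total.Opens} (a : LL p ξ W)

variable (hp) in
/-- The structure morphism. -/
def sT : (a.T hp).X ⟶ spec A' := a.s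

theorem π₀_σ {V : ξ.total.Opens} (h : V ≤ W) (c : k) :
    a.π₀ (hp := hp) h (a.σ V (algebraMap k A' c)) = alg (A := k) x (ξ.i ⁻¹ᵁ V) c := by
  rw [π₀_apply, a.π_σ h]
  have h5 : ξ.i.app V (alg (p₀ p ξ) V (algebraMap k A' c)) =
      alg (A := A') (ξ.i ≫ p₀ p ξ) (ξ.i ⁻¹ᵁ V) (algebraMap k A' c) := by
    rw [← ev_eq_app ξ.i _ le_rfl]
    exact ev_alg _ _ _ _
  have h6 : ξ.i ≫ p₀ p ξ = x ≫ Spec.map (CommRingCat.ofHom A'.res.toRingHom) := by
    rw [p₀, ← Category.assoc, ξ.isPullback.w, Category.assoc, specRes_comp]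
  rw [h5, alg_congr h6, alg_specMap (A := A') (B := k)]
  congr 1
  exact A'.res.commutes c

end LL

namespace LLb

variable {W : ξ.total.Opens} {a : LL p ξ W} {a' : LL q ξ W} (m : LLb g a a')
  {hp : IsSemismallExt p} {hq : IsSemismallExt q}

variable (hp hq) in
/-- The morphism of thickenings. -/
def tT : (a'.T hq).X ⟶ (a.T hp).X := m.t

theorem j_tT : (a'.T hq).j ≫ m.tT hp hq = (a.T hp).j := m.j_t

theorem pbT : IsPullback (m.tT hp hq) (a'.sT hq) (a.sT hp) (specMap g) := m.pb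

theorem le_im (V : ξ.total.Opens) : (a'.T hq).im V ≤ m.tT hp hq ⁻¹ᵁ (a.T hp).im V := by
  apply (a'.T hq).le_preimage_of_le (m.tT hp hq)
  rw [m.j_tT]
  exact (a.T hp).le_preimage_im V

theorem im_eq (V : ξ.total.Opens) : (a'.T hq).im V = m.tT hp hq ⁻¹ᵁ (a.T hp).im V := by
  refine le_antisymm (m.le_im V) ?_
  have h1 : (a'.T hq).j ⁻¹ᵁ (m.tT hp hq ⁻¹ᵁ (a.T hp).im V) = W.ι ⁻¹ᵁ V := by
    rw [← Scheme.Hom.comp_preimage, m.j_tT]
    exact preimage_im (a.T hp).j _
  have h2 : K696.Base.im (a'.T hq).j ((a'.T hq).j ⁻¹ᵁ (m.tT hp hq ⁻¹ᵁ (a.T hp).im V)) =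
    m.tT hp hq ⁻¹ᵁ (a.T hp).im V := im_preimage (a'.T hq).j _
  rw [← h2, h1]
  exact le_rfl

variable (hp hq) in
/-- The reduction on sections. -/
noncomputable def r (V : ξ.total.Opens) :
    Γ((a.T hp).X, (a.T hp).im V) →+* Γ((a'.T hq).X, (a'.T hq).im V) :=
  ev (m.tT hp hq) (m.le_im V)

theorem r_res {V V' : ξ.total.Opens} (h : V' ≤ V) (s : Γ((a.T hp).X, (a.T hp).im V)) :
    m.r hp hq V' (resO _ ((a.T hp).im_mono h) s) =
      resO _ ((a'.T hq).im_mono h) (m.r hp hq V s) := by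
  unfold r
  rw [res_ev, ev_res]

theorem isClosedImmersion_t (hg : Function.Surjective g) : IsClosedImmersion (m.tT hp hq) :=
  MorphismProperty.of_isPullback m.pb.flip (K565.DefGlue.isThickening_specMap g hg).1.1

theorem r_surjective (hg : Function.Surjective g) {V : ξ.total.Opens} (hV : IsAffineOpen V)
    (h : V ≤ W) : Function.Surjective (m.r hp hq V) := by
  have hcl := m.isClosedImmersion_t (hp := hp) (hq := hq) hg
  intro s
  obtain ⟨t, ht⟩ := (m.tT hp hq).app_surjective ((a.T hp).im V) (K679.isAffineOpen_im (a.T hp) hV h)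
    (resO _ (m.im_eq (hp := hp) (hq := hq) V).ge s)
  refine ⟨t, ?_⟩
  unfold r
  rw [ev_eq]
  have ht' : (m.tT hp hq).app ((a.T hp).im V) t = resO _ (m.im_eq (hp := hp) (hq := hq) V).ge s := ht
  rw [ht', resO_resO, resO_self]

theorem r_σ (V : ξ.total.Opens) (c : A') : m.r hp hq V (a.σ V c) = a'.σ V (g c) := by
  have h1 : m.r hp hq V (a.σ V c) =
      alg (A := A') (m.tT hp hq ≫ a.sT hp) ((a'.T hq).im V) c :=
    ev_alg (A := A') (a.sT hp) (m.tT hp hq) (m.le_im V) c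
  rw [h1, alg_congr m.pbT.w]
  exact alg_specMap (A := A') (B := B') (a'.sT hq) g.toAlgHom.toRingHom _ c

theorem ker_r (hg : Function.Surjective g) {V : ξ.total.Opens} (hV : IsAffineOpen V) (h : V ≤ W) :
    RingHom.ker (m.r hp hq V) = (RingHom.ker g.toAlgHom).map (a.σ (hp := hp) V) := by
  have h0 := ker_app_of_isPullback (A := A') (B := B') (φ := g.toAlgHom.toRingHom) hg
    (m.pbT (hp := hp) (hq := hq))
    (K679.isAffineOpen_im (a.T hp) hV h)
  refine Eq.trans ?_ h0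
  ext s
  rw [RingHom.mem_ker, RingHom.mem_ker]
  unfold r
  rw [ev_eq]
  constructor
  · intro h1
    have h2 := congrArg (resO _ (m.im_eq (hp := hp) (hq := hq) V).ge) h1
    rw [resO_resO, resO_self, map_zero] at h2
    exact h2
  · intro h1
    have h1' : (m.tT hp hq).app ((a.T hp).im V) s = 0 := h1
    rw [h1', map_zero]

theorem π_r {V : ξ.total.Opens} (h : V ≤ W) (s : Γ((a.T hp).X, (a.T hp).im V)) :
    (a'.T hq).π h (m.r hp hq V s) = (a.T hp).π h s := by
  rw [Th.π_apply, Th.π_apply]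
  congr 1
  have h1 : W.ι ⁻¹ᵁ V ≤ ((a'.T hq).j ≫ m.tT hp hq) ⁻¹ᵁ (a.T hp).im V := by
    rw [m.j_tT]
    exact (a.T hp).le_preimage_im V
  refine (ev_comp (a'.T hq).j (m.tT hp hq) (m.le_im V) _ h1 s).trans ?_
  exact ev_congr m.j_tT h1 _ s

theorem π₀_r {V : ξ.total.Opens} (h : V ≤ W) (s : Γ((a.T hp).X, (a.T hp).im V)) :
    a'.π₀ h (m.r hp hq V s) = a.π₀ h s := by
  rw [LL.π₀_apply, LL.π₀_apply, m.π_r h]

variable {n n' : ℕ} (b : Module.Basis (Fin n) k ↥(RingHom.ker p.toAlgHom))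
  (b' : Module.Basis (Fin n') k ↥(RingHom.ker q.toAlgHom)) (M : Fin n → Fin n' → k)
  (hM : ∀ l, g (b l : A') = ∑ l', algebraMap k B' (M l l') * (b' l' : B'))

variable (x) in
/-- The matrix with values in the global functions. -/
noncomputable def gM (M : Fin n → Fin n' → k) : Fin n → Fin n' → Γ(X₀, ⊤) :=
  fun l l' => alg (A := k) x ⊤ (M l l')

include hM in
theorem r_κ {V : ξ.total.Opens} (hV : IsAffineOpen V) (h : V ≤ W) (z : Sec (Mn ξ.i n) V) :
    m.r hp hq V (a.κ b hV h z) = a'.κ b' hV h (appS (mMat ξ.i (gM x M)) V z) := by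
  obtain ⟨r₀, hr₀⟩ := a.exists_r (hp := hp) hV h z
  rw [a.κ_eq b hV h z hr₀, a'.κ_eq b' hV h _
    (r := fun l' => ∑ l, a'.σ V (algebraMap k B' (M l l')) * m.r hp hq V (r₀ l)) (fun l' => by
      rw [map_sum, crd_mMat]
      refine Finset.sum_congr rfl fun l _ => ?_
      rw [map_mul, LL.π₀_σ, m.π₀_r h, hr₀, gM, res_alg]), map_sum]
  simp only [Finset.mul_sum]
  rw [Finset.sum_comm]
  refine Finset.sum_congr rfl fun l _ => ?_
  rw [map_mul, m.r_σ, hM, map_sum, Finset.sum_mul]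
  refine Finset.sum_congr rfl fun l' _ => ?_
  rw [map_mul]
  ring

end LLb

end K726.Dobs
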