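import Groth.Agent.ArtFun.K726.DobsUniq
import Groth.Agent.Deform.K681.AlgDef

/-!
# Local existence of flat lifts of a deformation of a smooth scheme
-/

set_option autoImplicit false
universe u

open CategoryTheory CategoryTheory.Limits AlgebraicGeometry Opposite TopologicalSpace
open Groth.Agent.Sga67.Sec
open K696.Base K696.Thk
open ArtFun ArtFun.Art
open scoped TensorProduct

namespace K726.Dobs

variable {k : Type u} [Field k]

section triv

variable (B₀ : Type u) [CommRing B₀] [Algebra k B₀] (A : Art k k)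

/-- The reduction of the trivial deformation. -/
noncomputable def trivπ : (A ⊗[k] B₀) →ₐ[k] B₀ :=
  Algebra.TensorProduct.lift ((Algebra.ofId k B₀).comp A.res) (AlgHom.id k B₀) fun _ _ => mul_comm _ _

theorem trivπ_tmul (a : A) (c : B₀) : trivπ B₀ A (a ⊗ₜ c) = algebraMap k B₀ (A.res a) * c :=
  Algebra.TensorProduct.lift_tmul ..

theorem sub_mem_triv (t : A ⊗[k] B₀) :
    t - (1 : A) ⊗ₜ[k] (trivπ B₀ A t) ∈ (IsLocalRing.maximalIdeal A).map (algebraMap A (A ⊗[k] B₀)) := by
  induction t using TensorProduct.induction_on with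
  | zero => rw [map_zero, TensorProduct.tmul_zero, sub_zero]; exact Submodule.zero_mem _
  | tmul a c =>
    have h1 : a - algebraMap k A (A.res a) ∈ IsLocalRing.maximalIdeal A := by
      rw [Art.mem_maximalIdeal_iff, map_sub, A.res.commutes]
      exact sub_self _
    have h2 : a ⊗ₜ[k] c - (1 : A) ⊗ₜ[k] (trivπ B₀ A (a ⊗ₜ c)) =
        algebraMap A (A ⊗[k] B₀) (a - algebraMap k A (A.res a)) * ((1 : A) ⊗ₜ c) := by
      rw [Algebra.TensorProduct.algebraMap_apply, Algebra.TensorProduct.tmul_mul_tmul, trivπ_tmul, one_mul,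
        Algebra.algebraMap_self_apply, mul_one, TensorProduct.sub_tmul, ← Algebra.smul_def,
        ← TensorProduct.smul_tmul, Algebra.smul_def, mul_one]
    rw [h2]
    exact Ideal.mul_mem_right _ _ (Ideal.mem_map_of_mem _ h1)
  | add t t' h h' =>
    rw [map_add, TensorProduct.tmul_add, add_sub_add_comm]
    exact Ideal.add_mem _ h h'

/-- The trivial deformation of an algebra. -/
noncomputable def trivAlg : K681.AlgDef k B₀ A where
  carrier := A ⊗[k] B₀
  flat := inferInstanceAs (Module.Flat A (A ⊗[k] B₀))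
  π := (trivπ B₀ A).toRingHom
  comp a := by
    change trivπ B₀ A (algebraMap A (A ⊗[k] B₀) a) = _
    rw [Algebra.TensorProduct.algebraMap_apply, trivπ_tmul, mul_one]
    rfl
  surj c := ⟨(1 : A) ⊗ₜ c, by
    change trivπ B₀ A _ = c
    rw [trivπ_tmul, map_one, map_one, one_mul]⟩
  ker := by
    apply le_antisymm
    · intro t ht
      have h1 : trivπ B₀ A t = 0 := ht
      have h2 := sub_mem_triv B₀ A t
      rwa [h1, TensorProduct.tmul_zero, sub_zero] at h2
    · rw [Ideal.map_le_iff_le_comap]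
      intro a ha
      change trivπ B₀ A (algebraMap A (A ⊗[k] B₀) a) = 0
      rw [Algebra.TensorProduct.algebraMap_apply, trivπ_tmul, mul_one]
      have h1 : A.res a = 0 := (Art.mem_maximalIdeal_iff A a).1 ha
      have h2 : A.res (algebraMap A A a) = A.res a := rfl
      rw [h2, h1, map_zero]

end triv

variable {X₀ : Scheme.{u}} {x : X₀ ⟶ specPt k} {A' A : Art k k} {p : A' ⟶ A}
  {ξ : DefSch (Λ := k) X₀ x A}

theorem ker_i_app {V : ξ.total.Opens} (hV : IsAffineOpen V) :
    RingHom.ker (ξ.i.app V).hom = (IsLocalRing.maximalIdeal A).map (alg ξ.f V) := by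
  rw [ker_app_of_isPullback (A := A) (B := k) A.res_surjective ξ.isPullback hV, ker_res]

theorem i_app_alg {V : ξ.total.Opens} (a : A) :
    ξ.i.app V (alg ξ.f V a) = alg (A := k) x (ξ.i ⁻¹ᵁ V) (A.res a) := by
  have h1 : ξ.i.app V (alg ξ.f V a) = alg (A := A) (ξ.i ≫ ξ.f) (ξ.i ⁻¹ᵁ V) a := by
    rw [← ev_eq_app ξ.i _ le_rfl]
    exact ev_alg _ _ _ _
  rw [h1, alg_congr ξ.isPullback.w]
  exact alg_specMap (A := A) (B := k) x A.res.toRingHom _ a

theorem formallySmooth_alg [Smooth x] {V₀ : X₀.Opens} (hV₀ : IsAffineOpen V₀) :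
    (alg (A := k) x V₀).FormallySmooth := by
  have h2 := (HasRingHomProperty.appLE @Smooth x inferInstance ⟨⊤, isAffineOpen_top _⟩
    ⟨V₀, hV₀⟩ (le_top : V₀ ≤ x ⁻¹ᵁ ⊤)).formallySmooth
  have h3 : (Scheme.ΓSpecIso (CommRingCat.of k)).inv.hom.FormallySmooth :=
    RingHom.FormallySmooth.of_bijective
      (ConcreteCategory.bijective_of_isIso (Scheme.ΓSpecIso (CommRingCat.of k)).inv)
  exact h3.comp h2

/-- The deformation over an affine open as an algebra deformation. -/
noncomputable def openAlg {V : ξ.total.Opens} (hV : IsAffineOpen V) :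
    @K681.AlgDef k k _ _ _ Γ(X₀, ξ.i ⁻¹ᵁ V) _ (alg (A := k) x (ξ.i ⁻¹ᵁ V)).toAlgebra A :=
  letI : Algebra k Γ(X₀, ξ.i ⁻¹ᵁ V) := (alg (A := k) x (ξ.i ⁻¹ᵁ V)).toAlgebra
  letI : Algebra A Γ(ξ.total, V) := (alg ξ.f V).toAlgebra
  { carrier := Γ(ξ.total, V)
    flat := flat_alg ξ.f hV
    π := (ξ.i.app V).hom
    comp := fun a => i_app_alg a
    surj := by
      have hcl := isClosedImmersion_i (ξ := ξ)
      exact ξ.i.app_surjective V hV
    ker := ker_i_app hV }

/-- Lifts exist over affine opens. -/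
theorem nonempty_LL [Smooth x] {V : ξ.total.Opens} (hV : IsAffineOpen V) : Nonempty (LL p ξ V) := by
  have hcl := isClosedImmersion_i (ξ := ξ)
  let : Algebra k Γ(X₀, ξ.i ⁻¹ᵁ V) := (alg (A := k) x (ξ.i ⁻¹ᵁ V)).toAlgebra
  let D : K681.AlgDef k Γ(X₀, ξ.i ⁻¹ᵁ V) A := openAlg hV
  let D' : K681.AlgDef k Γ(X₀, ξ.i ⁻¹ᵁ V) A' := trivAlg _ A'
  have hsm : Algebra.FormallySmooth k Γ(X₀, ξ.i ⁻¹ᵁ V) := formallySmooth_alg (hV.preimage ξ.i)
  let : Algebra k D.carrier := ((algebraMap A D.carrier).comp (algebraMap k A)).toAlgebra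
  -- the section
  let πk : D.carrier →ₐ[k] Γ(X₀, ξ.i ⁻¹ᵁ V) :=
    { D.π with
      commutes' := fun c => by
        change D.π (algebraMap A D.carrier (algebraMap k A c)) = _
        rw [D.comp, A.res.commutes]
        rfl }
  have hn : IsNilpotent (RingHom.ker πk) := by
    have h1 : RingHom.ker πk = RingHom.ker D.π := rfl
    obtain ⟨n, hn⟩ := K565.ArtTools.isNilpotent_maximalIdeal A
    refine ⟨n, ?_⟩
    rw [h1, D.ker, ← Ideal.map_pow, hn]
    exact Ideal.map_bot
  let s : Γ(X₀, ξ.i ⁻¹ᵁ V) →ₐ[k] D.carrier :=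
    Algebra.FormallySmooth.liftOfSurjective (AlgHom.id k _) πk D.surj hn
  have hs : ∀ c, D.π (s c) = c := fun c =>
    Algebra.FormallySmooth.liftOfSurjective_apply (AlgHom.id k _) πk D.surj hn c
  -- the comparison map
  let : Algebra k A' := inferInstance
  let pk : A' →ₐ[k] D.carrier :=
    { (algebraMap A D.carrier).comp p.toAlgHom.toRingHom with
      commutes' := fun c => by
        change algebraMap A D.carrier (p.toAlgHom (algebraMap k A' c)) = _
        rw [p.toAlgHom.commutes]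
        rfl }
  let φ : (A' ⊗[k] Γ(X₀, ξ.i ⁻¹ᵁ V)) →ₐ[k] D.carrier :=
    Algebra.TensorProduct.lift pk s fun _ _ => mul_comm _ _
  have hφ : ∀ (a : A') (c : Γ(X₀, ξ.i ⁻¹ᵁ V)), φ (a ⊗ₜ c) = algebraMap A D.carrier (p a) * s c :=
    fun a c => Algebra.TensorProduct.lift_tmul ..
  have hpo := K681.AlgDef.isPushout_of_map p D' D φ.toRingHom (fun a => by
    change φ (algebraMap A' (A' ⊗[k] Γ(X₀, ξ.i ⁻¹ᵁ V)) a) = _
    rw [Algebra.TensorProduct.algebraMap_apply, hφ, map_one, mul_one]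
    rfl) (fun t => by
    change D.π (φ t) = trivπ _ A' t
    have h1 : ∀ t, (πk.comp φ) t = trivπ _ A' t := by
      intro t
      congr 1
      apply Algebra.TensorProduct.ext
      · ext a
        change D.π (φ (a ⊗ₜ 1)) = trivπ _ A' (a ⊗ₜ 1)
        rw [hφ, trivπ_tmul, map_one, mul_one, mul_one, D.comp, Art.res_app]
      · ext c
        change D.π (φ (1 ⊗ₜ c)) = trivπ _ A' (1 ⊗ₜ c)
        rw [hφ, trivπ_tmul, map_one, map_one, map_one, map_one, one_mul, one_mul, hs]
    exact h1 t)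
  have hpb := isPullback_SpecMap_of_isPushout _ _ _ _ hpo.flip
  let hVa : IsAffine V.toScheme := hV
  have hiso : IsIso V.toSpecΓ := by
    rw [← hV.isoSpec_hom]
    infer_instance
  let j : V.toScheme ⟶ Spec (CommRingCat.of D'.carrier) :=
    V.toSpecΓ ≫ Spec.map (CommRingCat.ofHom φ.toRingHom)
  have hf : V.toSpecΓ ≫ Spec.map (CommRingCat.ofHom (algebraMap A D.carrier)) = V.ι ≫ ξ.f := by
    have h1 := fromSpec_comp (A := A) ξ.f hV
    have h2 : Spec.map (CommRingCat.ofHom (algebraMap A D.carrier)) = hV.fromSpec ≫ ξ.f := h1.symm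
    refine (congrArg (fun t => V.toSpecΓ ≫ t) h2).trans ?_
    rw [hV.toSpecΓ_fromSpec_assoc]
  refine ⟨{ Z := Spec (CommRingCat.of D'.carrier)
            j := j
            s := Spec.map (CommRingCat.ofHom (algebraMap A' D'.carrier))
            flat := ?_
            pb := ?_ }⟩
  · rw [Flat.SpecMap_iff]
    exact (RingHom.flat_algebraMap_iff).2 D'.flat
  · refine IsPullback.of_iso hpb (asIso V.toSpecΓ).symm (Iso.refl _) (Iso.refl _) (Iso.refl _) ?_ ?_ ?_ ?_
    · change Spec.map _ ≫ 𝟙 _ = inv V.toSpecΓ ≫ V.toSpecΓ ≫ _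
      rw [Category.comp_id, IsIso.inv_hom_id_assoc]
      rfl
    · change Spec.map _ ≫ 𝟙 _ = inv V.toSpecΓ ≫ V.ι ≫ ξ.f
      rw [Category.comp_id, ← hf, IsIso.inv_hom_id_assoc]
      rfl
    · simp
    · simp
      rfl

end K726.Dobs
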