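import Groth.Agent.ArtFun.K726.DobsOb
import Groth.Agent.Deform.K679.FSLift
import Mathlib.AlgebraicGeometry.Morphisms.Smooth
import Mathlib.RingTheory.RingHom.Smooth

/-!
# Local uniqueness of flat lifts of a deformation of a smooth scheme
-/

set_option autoImplicit false
universe u

open CategoryTheory CategoryTheory.Limits AlgebraicGeometry Opposite TopologicalSpace
open Groth.Agent.Sga67.Sec
open K696.Base K696.Thk
open ArtFun ArtFun.Art

namespace K726.Dobs

/-- Lifting of ring maps out of flat deformations of formally smooth algebras. -/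
theorem exists_ringHom {k A R R' O B₀ : Type*} [Field k] [CommRing A] [Algebra k A] [IsLocalRing A]
    [IsArtinianRing A] [CommRing R] [CommRing R'] [CommRing O] [CommRing B₀]
    (hres : ∀ a : A, ∃ c : k, a - algebraMap k A c ∈ IsLocalRing.maximalIdeal A)
    (σ : A →+* R) (σ' : A →+* R') (hσ' : σ'.Flat) (π : R →+* O) (π' : R' →+* O)
    (hs : Function.Surjective π) (hn : IsNilpotent (RingHom.ker π)) (hO : ∀ a, π (σ a) = π' (σ' a))
    (π₀ : R' →+* B₀) (hs₀ : Function.Surjective π₀)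
    (hk₀ : RingHom.ker π₀ = (IsLocalRing.maximalIdeal A).map σ')
    (hsm : (π₀.comp (σ'.comp (algebraMap k A))).FormallySmooth) :
    ∃ φ : R' →+* R, (∀ a, φ (σ' a) = σ a) ∧ ∀ r, π (φ r) = π' r := by
  algebraize [σ, σ', σ'.comp (algebraMap k A), π₀.comp (σ'.comp (algebraMap k A))]
  have hfl : Module.Flat A R' := hσ'
  have hst : IsScalarTower k A R' := IsScalarTower.of_algebraMap_eq fun c => rfl
  have hk₀' : RingHom.ker π₀ = (IsLocalRing.maximalIdeal A).map (algebraMap A R') := hk₀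
  have hsm' : Algebra.FormallySmooth k (R' ⧸ (IsLocalRing.maximalIdeal A).map (algebraMap A R')) := by
    rw [← hk₀']
    let e : (R' ⧸ RingHom.ker π₀) ≃+* B₀ := RingHom.quotientKerEquivOfSurjective hs₀
    let e' : B₀ ≃ₐ[k] (R' ⧸ RingHom.ker π₀) := AlgEquiv.ofRingEquiv (f := e.symm) (fun c => by
      rw [RingEquiv.symm_apply_eq]
      rfl)
    exact Algebra.FormallySmooth.of_equiv e'
  let e : (R ⧸ RingHom.ker π) ≃+* O := RingHom.quotientKerEquivOfSurjective hs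
  let u : R' →ₐ[A] R ⧸ RingHom.ker π :=
    { (e.symm.toRingHom.comp π') with
      commutes' := fun a => by
        change e.symm (π' (σ' a)) = _
        rw [← hO, RingEquiv.symm_apply_eq]
        rfl }
  obtain ⟨v, hv⟩ := K679.FSLift.exists_lift (A := A) (B := R') hres hsm' (RingHom.ker π) hn u
  refine ⟨v.toRingHom, fun a => v.commutes a, fun r => ?_⟩
  have h1 : Ideal.Quotient.mk (RingHom.ker π) (v r) = e.symm (π' r) := AlgHom.congr_fun hv r
  have h2 := congrArg e h1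
  rw [RingEquiv.apply_symm_apply] at h2
  exact h2

/-- `Spec Γ(Z, U) → Z → Spec A` is given by the structure map. -/
theorem fromSpec_comp {A : Type u} [CommRing A] {Z : Scheme.{u}} (s : Z ⟶ Spec (CommRingCat.of A))
    {U : Z.Opens} (hU : IsAffineOpen U) : hU.fromSpec ≫ s = Spec.map (CommRingCat.ofHom (alg s U)) := by
  have h1 := (isAffineOpen_top (Spec (CommRingCat.of A))).SpecMap_appLE_fromSpec s hU
    (le_top : U ≤ s ⁻¹ᵁ ⊤)
  rw [← h1, IsAffineOpen.fromSpec_top, Scheme.isoSpec_Spec_inv, ← Spec.map_comp]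
  rfl

variable {k : Type u} [Field k] {X₀ : Scheme.{u}} {x : X₀ ⟶ specPt k} {A' A : Art k k} {p : A' ⟶ A}
  {ξ : DefSch (Λ := k) X₀ x A} {hp : IsSemismallExt p}

namespace LL

variable {W W' : ξ.total.Opens} (a : LL p ξ W) (a' : LL p ξ W') {n : ℕ}
  (b : Module.Basis (Fin n) k ↥(RingHom.ker p.toAlgHom))

/-- Ring maps over `A'` and over `O_Y` respect the kernel identifications. -/
theorem κ_of_ringHom {V : ξ.total.Opens} (hV : IsAffineOpen V) (h : V ≤ W) (h' : V ≤ W')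
    (φ : Γ((a'.T hp).X, (a'.T hp).im V) →+* Γ((a.T hp).X, (a.T hp).im V))
    (hπ : ∀ r, (a.T hp).π h (φ r) = (a'.T hp).π h' r) (hσ : ∀ r : A', φ (a'.σ V r) = a.σ V r)
    (m : Sec (Mn ξ.i n) V) : φ (a'.κ b hV h' m) = a.κ b hV h m := by
  obtain ⟨r, hr⟩ := a'.exists_r (hp := hp) hV h' m
  rw [a'.κ_eq b hV h' m hr, a.κ_eq b hV h m (r := fun l => φ (r l)) (fun l => by
    rw [π₀_apply, hπ, ← π₀_apply, hr]), map_sum]
  exact Finset.sum_congr rfl fun l _ => by rw [map_mul, hσ]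

/-- The isomorphism of thickenings given by a morphism of lifts. -/
noncomputable def arr {U : ξ.total.Opens} (h₁ : U ≤ W) (h₂ : U ≤ W')
    (h : ((a.T hp).im U).toScheme ⟶ (a'.T hp).X)
    (hj : K679.jU (a.T hp) h₁ ≫ h = ξ.total.homOfLE h₂ ≫ (a'.T hp).j)
    (hst : h ≫ a'.s = ((a.T hp).im U).ι ≫ a.s) :
    K679.TArr (a.ob (hp := hp) b) (a'.ob (hp := hp) b) U :=
  K679.TArr.ofHom (a := a.ob (hp := hp) b) (b := a'.ob (hp := hp) b) h₁ h₂ h hj hst
    (fun V hV hVU m => κ_of_ringHom (hp := hp) a a' b hV.1 (hVU.trans h₁) (hVU.trans h₂) _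
      (fun r => K679.π_appOfHom (a := a.ob (hp := hp) b) (b := a'.ob (hp := hp) b) h₁ h₂ h hj hVU r)
      (fun r => K679.appOfHom_st (a := a.ob (hp := hp) b) (b := a'.ob (hp := hp) b) h₁ h₂ h hj hst hVU
        (Z := ⊤) le_top ((Scheme.ΓSpecIso (CommRingCat.of A')).inv r)) m)

theorem isNilpotent_ker_π {V : ξ.total.Opens} (hV : IsAffineOpen V) (h : V ≤ W) :
    IsNilpotent (RingHom.ker ((a.T hp).π h)) := by
  rw [a.ker_π hV h]
  refine ⟨2, ?_⟩
  rw [← Ideal.map_pow, pow_two, Ideal.zero_eq_bot]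
  have h1 : RingHom.ker p.toAlgHom * RingHom.ker p.toAlgHom = ⊥ := by
    rw [eq_bot_iff, ← hp.2]
    exact Ideal.mul_mono_left (K565.ArtTools.ker_le_maximalIdeal p)
  rw [h1, Ideal.map_bot]

variable [Smooth x]

/-- Two lifts are isomorphic over affine opens: ring level. -/
theorem exists_φ {V : ξ.total.Opens} (hV : IsAffineOpen V) (h : V ≤ W) (h' : V ≤ W') :
    ∃ φ : Γ((a'.T hp).X, (a'.T hp).im V) →+* Γ((a.T hp).X, (a.T hp).im V),
      (∀ r : A', φ (a'.σ V r) = a.σ V r) ∧ ∀ r, (a.T hp).π h (φ r) = (a'.T hp).π h' r := by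
  refine exists_ringHom (k := k) (exists_sub_mem A') (a.σ V) (a'.σ V) (a'.flat_σ hV h') ((a.T hp).π h)
    ((a'.T hp).π h') (K679.π_surjective (a.T hp) hV h) (a.isNilpotent_ker_π hV h)
    (fun r => by rw [a.π_σ h, a'.π_σ h']) (a'.π₀ h') (a'.π₀_surjective hV h') (a'.ker_π₀ hV h') ?_
  -- the closed fibre is smooth
  have hcl := isClosedImmersion_i (ξ := ξ)
  have hV₀ : IsAffineOpen (ξ.i ⁻¹ᵁ V) := hV.preimage ξ.i
  have h1 : (alg (A := k) x (ξ.i ⁻¹ᵁ V)).FormallySmooth := by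
    have h2 := (HasRingHomProperty.appLE @Smooth x inferInstance ⟨⊤, isAffineOpen_top _⟩
      ⟨ξ.i ⁻¹ᵁ V, hV₀⟩ (le_top : ξ.i ⁻¹ᵁ V ≤ x ⁻¹ᵁ ⊤)).formallySmooth
    have h3 : (Scheme.ΓSpecIso (CommRingCat.of k)).inv.hom.FormallySmooth :=
      RingHom.FormallySmooth.of_bijective
        (ConcreteCategory.bijective_of_isIso (Scheme.ΓSpecIso (CommRingCat.of k)).inv)
    exact h3.comp h2
  have h4 : (a'.π₀ (hp := hp) h').comp ((a'.σ V).comp (algebraMap k A')) = alg (A := k) x (ξ.i ⁻¹ᵁ V) := by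
    ext c
    rw [RingHom.comp_apply, RingHom.comp_apply, π₀_apply, a'.π_σ h']
    have h5 : ξ.i.app V (alg (p₀ p ξ) V (algebraMap k A' c)) =
        alg (A := A') (ξ.i ≫ p₀ p ξ) (ξ.i ⁻¹ᵁ V) (algebraMap k A' c) := by
      rw [← ev_eq_app ξ.i _ le_rfl]
      exact ev_alg _ _ _ _
    have h6 : ξ.i ≫ p₀ p ξ = x ≫ Spec.map (CommRingCat.ofHom A'.res.toRingHom) := by
      rw [p₀, ← Category.assoc, ξ.isPullback.w, Category.assoc, specRes_comp]
    rw [h5, alg_congr h6, alg_specMap (A := A') (B := k)]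
    congr 1
    exact A'.res.commutes c
  rw [h4]
  exact h1

/-- Two lifts are locally isomorphic. -/
theorem exists_arr {y : ξ.total} (hy : y ∈ W) (hy' : y ∈ W') : ∃ U : ξ.total.Opens, y ∈ U ∧
    Nonempty (K679.TArr (a.ob (hp := hp) b) (a'.ob (hp := hp) b) U) := by
  obtain ⟨_, ⟨V, hV, rfl⟩, hyV, hVW⟩ := ξ.total.isBasis_affineOpens.exists_subset_of_mem_open
    (show y ∈ ((W ⊓ W' : ξ.total.Opens) : Set ξ.total) from ⟨hy, hy'⟩) (W ⊓ W').2
  have h : V ≤ W := fun z hz => (hVW hz).1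
  have h' : V ≤ W' := fun z hz => (hVW hz).2
  obtain ⟨φ, hσ, hπ⟩ := a.exists_φ (hp := hp) a' hV h h'
  have hi := K679.isAffineOpen_im (a.T hp) hV h
  have hi' := K679.isAffineOpen_im (a'.T hp) hV h'
  let f : ((a.T hp).im V).toScheme ⟶ (a'.T hp).X :=
    ((a.T hp).im V).toSpecΓ ≫ Spec.map (CommRingCat.ofHom φ) ≫ hi'.fromSpec
  refine ⟨V, hyV, ⟨a.arr a' b h h' f ?_ ?_⟩⟩
  · have e1 : K679.jU (a.T hp) h ≫ ((a.T hp).im V).toSpecΓ = K679.incS (a.T hp) h := by
      rw [← cancel_mono hi.fromSpec, Category.assoc, hi.toSpecΓ_fromSpec, K679.jU_ι,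
        K679.incS_fromSpec (a.T hp) hV h]
    have e2 : K679.incS (a.T hp) h ≫ Spec.map (CommRingCat.ofHom φ) = K679.incS (a'.T hp) h' := by
      unfold K679.incS
      rw [Category.assoc, ← Spec.map_comp]
      congr 2
      ext r
      exact hπ r
    rw [← Category.assoc, e1, ← Category.assoc, e2, K679.incS_fromSpec (a'.T hp) hV h']
  · have e1 := fromSpec_comp (A := A') (Z := (a'.T hp).X) a'.s hi'
    have e2 := fromSpec_comp (A := A') (Z := (a.T hp).X) a.s hi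
    have e3 := hi.toSpecΓ_fromSpec
    change (((a.T hp).im V).toSpecΓ ≫ Spec.map (CommRingCat.ofHom φ) ≫ hi'.fromSpec) ≫ a'.s = _
    rw [Category.assoc, Category.assoc, e1, ← e3, Category.assoc, e2, ← Spec.map_comp]
    congr 2
    ext r
    exact hσ r

end LL

end K726.Dobs
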