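import Groth.Agent.ArtFun.K726.GerbeH2

/-!
# Trivialisations of gerbes with class zero
-/

set_option autoImplicit false
set_option linter.unusedSectionVars false

universe u

open CategoryTheory CategoryTheory.Limits Opposite Groth.Agent.Fga.Torsor

namespace K726.Grb

variable {C : Type u} [SmallCategory C] {J : GrothendieckTopology C}

/-- The arrows form honest pseudo-torsors which are sheaves. -/
structure IsTorsorial {ι : Type u} {G : Cᵒᵖ ⥤ AddCommGrpCat.{u}} {X : C} (𝒢 : Gerbe J ι G X) : Prop where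
  sep : ∀ {i j : ι} {U : Cᵒᵖ} (a b : (𝒢.Arr i j).obj U), (𝒢.diff i j).d a b = 0 → a = b
  act : ∀ {i j : ι} {U : Cᵒᵖ} (g : G.obj U) (b : (𝒢.Arr i j).obj U), ∃ a, (𝒢.diff i j).d a b = g
  sheaf : ∀ i j, Presieve.IsSheaf J (𝒢.Arr i j)

/-- A trivialisation of a gerbe: `T i U` are the arrows over `U` from a virtual global object to `i`
and `a x y` is the arrow `i ⟶ j` given by `x : T i U` and `y : T j U`. -/
structure Triv {ι : Type u} {G : Cᵒᵖ ⥤ AddCommGrpCat.{u}} {X : C} (𝒢 : Gerbe J ι G X) where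
  T : ι → Cᵒᵖ ⥤ Type u
  dom_T : ∀ {i : ι} {U : Cᵒᵖ}, (T i).obj U → 𝒢.dom U.unop i
  a : ∀ {i j : ι} {U : Cᵒᵖ}, (T i).obj U → (T j).obj U → (𝒢.Arr i j).obj U
  map_a : ∀ {i j : ι} {U V : Cᵒᵖ} (f : U ⟶ V) (x : (T i).obj U) (y : (T j).obj U),
    (𝒢.Arr i j).map f (a x y) = a ((T i).map f x) ((T j).map f y)
  comp_a : ∀ {i j l : ι} {U : Cᵒᵖ} (x : (T i).obj U) (y : (T j).obj U) (z : (T l).obj U),
    𝒢.comp (a x y) (a y z) = a x z
  loc_T : ∀ (U : C) (i : ι), 𝒢.dom U i → LocNonempty J (T i) U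

/-- A system of arrows closed under composition gives a potential with values in the band. -/
def potOfSystem {ι : Type u} {G : Cᵒᵖ ⥤ AddCommGrpCat.{u}} {X : C} (𝒢 : Gerbe J ι G X)
    (e : ∀ (i j : ι) (U : Cᵒᵖ), (𝒢.Arr i j).obj U)
    (map_e : ∀ (i j : ι) {U V : Cᵒᵖ} (f : U ⟶ V), (𝒢.Arr i j).map f (e i j U) = e i j V)
    (comp_e : ∀ (i j l : ι) (U : Cᵒᵖ), 𝒢.comp (e i j U) (e j l U) = e i l U) : 𝒢.Pot (𝟙 G) where
  φ {i j U} a := (𝒢.diff i j).d a (e i j U)
  map_φ {i j U V} f a := by rw [(𝒢.diff i j).map_d, map_e]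
  sub_φ {i j U} a b := by
    rw [← (𝒢.diff i j).d_add a b (e i j U), add_sub_cancel_right]
    rfl
  add_φ {i j l U} a b := by rw [← comp_e i j l U, 𝒢.diff_comp]

variable [HasSheafify J AddCommGrpCat.{u}] [HasExt.{u} (Sheaf J AddCommGrpCat.{u})] {X : C} (hX : IsTerminal X)
  {ι : Type u} [J.HasSheafCompose (forget AddCommGrpCat.{u})]
  [EnoughInjectives (Sheaf J AddCommGrpCat.{u})]
  [J.WEqualsLocallyBijective AddCommGrpCat.{u}] [Balanced (Sheaf J AddCommGrpCat.{u})]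

/-- A torsorial gerbe with class zero has a trivialisation. -/
theorem IsCls2.exists_triv {G : Sheaf J AddCommGrpCat.{u}} {𝒢 : Gerbe J ι G.obj X} (h : IsCls2 hX 𝒢 0)
    (ht : IsTorsorial 𝒢) : Nonempty (Triv 𝒢) := by
  obtain ⟨I, Q, ν, p, w, hS, hI⟩ := exists_ses G
  have hmono : Mono ν := hS.mono_f
  have hepi : Epi p := hS.epi_g
  obtain ⟨P, D, c₁, hD, hc₁, hc⟩ := h.to_injective hX (𝟙 G) ν p w hS hI
  rw [Sheaf.H.map_id_apply] at hc
  have hc0 : c₁ = 0 := by
    apply del2_injective hS (inferInstanceAs (Subsingleton (Sheaf.H I 1)))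
    rw [hc, del2_zero]
  rw [hc0] at hc₁
  obtain ⟨s⟩ := IsCls.exists_potential hX hc₁
  have hνi : ∀ U : Cᵒᵖ, Function.Injective (ν.hom.app U) := injective_of_mono ν
  -- the arrow with prescribed potential
  have hid : ∀ {i j : ι} {U : Cᵒᵖ} (a b : (𝒢.Arr i j).obj U), P.φ a = P.φ b → a = b := by
    intro i j U a b hab
    apply ht.sep
    apply hνi
    have h1 := P.sub_φ a b
    rw [hab, sub_self] at h1
    rw [map_zero]
    exact h1.symm
  have key : ∀ {i j : ι} {U : Cᵒᵖ} (x y : I.obj.obj U) (hi : 𝒢.dom U.unop i) (hj : 𝒢.dom U.unop j),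
      p.hom.app U x = s.φ (⟨i, hi⟩ : 𝒢.T.obj U) → p.hom.app U y = s.φ (⟨j, hj⟩ : 𝒢.T.obj U) →
      ∃ a : (𝒢.Arr i j).obj U, P.φ a = x - y := by
    intro i j U x y hi hj hx hy
    -- local existence
    have hloc : ∀ (V : C) (f : V ⟶ U.unop), Nonempty ((𝒢.Arr i j).obj (op V)) →
        ∃ a : (𝒢.Arr i j).obj (op V), P.φ a = I.obj.map f.op (x - y) := by
      rintro V f ⟨b⟩
      have h1 : p.hom.app (op V) (P.φ b) = p.hom.app (op V) (I.obj.map f.op (x - y)) := by
        have h2 := hD (U := op V) (𝒢.dom_res f _ hi) (𝒢.dom_res f _ hj) b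
        refine h2.trans ?_
        rw [app_map_apply, map_sub, hx, hy]
        have h3 := s.sub_φ (⟨i, hi⟩ : 𝒢.T.obj U) ⟨j, hj⟩
        rw [h3]
        exact (D.map_d (U := U) (V := op V) f.op ⟨i, hi⟩ ⟨j, hj⟩).symm
      obtain ⟨g, hg⟩ := exists_of_map_eq_zero hS (I.obj.map f.op (x - y) - P.φ b) (by
        change p.hom.app (op V) _ = 0
        rw [map_sub, h1, sub_self])
      obtain ⟨a, ha⟩ := ht.act g b
      refine ⟨a, ?_⟩
      have h4 := P.sub_φ a b
      rw [ha] at h4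
      have h5 : P.φ a - P.φ b = I.obj.map f.op (x - y) - P.φ b := by
        rw [h4]
        exact hg
      exact sub_left_inj.1 h5
    obtain ⟨S, hS', hne⟩ := 𝒢.loc U.unop i j hi hj
    have hsh := ht.sheaf i j S hS'
    choose α hα using fun (V : C) (f : V ⟶ U.unop) (hf : S f) => hloc V f (hne V f hf)
    let fam : Presieve.FamilyOfElements (𝒢.Arr i j) (S : Presieve U.unop) := fun V f hf => α V f hf
    have hfam : fam.Compatible := by
      intro Y₁ Y₂ Z g₁ g₂ f₁ f₂ h₁ h₂ e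
      apply hid
      rw [← P.map_φ, ← P.map_φ]
      change I.obj.map g₁.op (P.φ (α _ _ h₁)) = I.obj.map g₂.op (P.φ (α _ _ h₂))
      rw [hα, hα, map_map_apply, map_map_apply, ← op_comp, ← op_comp, e]
    refine ⟨hsh.amalgamate fam hfam, ?_⟩
    apply eq_of_locally I (V := U.unop) _ _ S hS'
    intro W f hf
    have h1 := hsh.valid_glue hfam f hf
    change I.obj.map f.op (P.φ (hsh.amalgamate fam hfam)) = _
    rw [P.map_φ]
    have h2 : P.φ ((𝒢.Arr i j).map f.op (hsh.amalgamate fam hfam)) = P.φ (α W f hf) :=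
      congrArg (fun t => P.φ t) h1
    rw [h2, hα]
  let T : ι → Cᵒᵖ ⥤ Type u := fun i =>
    { obj := fun U => {x : I.obj.obj U // ∃ hi : 𝒢.dom U.unop i, p.hom.app U x = s.φ (⟨i, hi⟩ : 𝒢.T.obj U)}
      map := fun {U V} f => TypeCat.ofHom fun x => ⟨I.obj.map f x.1, by
        obtain ⟨x, hi, hx⟩ := x
        refine ⟨𝒢.dom_res f.unop _ hi, ?_⟩
        change p.hom.app V (I.obj.map f x) = _
        rw [app_map_apply, hx]
        exact s.map_φ f _⟩
      map_id := fun U => by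
        ext ⟨q, hq⟩; simp
      map_comp := fun f g => by
        ext ⟨q, hq⟩; simp }
  have key' : ∀ {i j : ι} {U : Cᵒᵖ} (x : (T i).obj U) (y : (T j).obj U),
      ∃ a : (𝒢.Arr i j).obj U, P.φ a = x.1 - y.1 := fun {i j U} x y =>
    key x.1 y.1 x.2.choose y.2.choose x.2.choose_spec y.2.choose_spec
  choose α hα using fun (i j : ι) (U : Cᵒᵖ) (x : (T i).obj U) (y : (T j).obj U) => key' x y
  refine ⟨{ T := T
            dom_T := fun x => x.2.choose
            a := fun x y => α _ _ _ x y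
            map_a := ?_
            comp_a := ?_
            loc_T := ?_ }⟩
  · intro i j U V f x y
    apply hid
    rw [← P.map_φ, hα, hα]
    exact map_sub (I.obj.map f).hom _ _
  · intro i j l U x y z
    apply hid
    rw [P.add_φ, hα, hα, hα, sub_add_sub_cancel]
  · intro U i hi
    obtain ⟨R, hR, hR'⟩ := locallySurjective_of_epi p (V := U) (s.φ (⟨i, hi⟩ : 𝒢.T.obj (op U)))
    refine ⟨R, hR, fun V f hf => ?_⟩
    obtain ⟨y, hy⟩ := hR' V f hf
    refine ⟨⟨y, 𝒢.dom_res f _ hi, ?_⟩⟩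
    rw [hy]
    exact s.map_φ f.op _

end K726.Grb
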