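import Groth.Agent.Fga.Torsor
import Mathlib.AlgebraicGeometry.Scheme
import Mathlib.CategoryTheory.Sites.Spaces

/-!
# Sheaf condition on the opens of a space, in terms of points
-/

set_option autoImplicit false
universe u

open CategoryTheory CategoryTheory.Limits Opposite TopologicalSpace

namespace K726.OpSheaf

variable {Y : Type u} [TopologicalSpace Y]

/-- Restriction along an inequality. -/
def rsm (F : (Opens Y)ᵒᵖ ⥤ Type u) {U V : Opens Y} (h : V ≤ U) (a : F.obj (op U)) : F.obj (op V) :=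
  F.map (homOfLE h).op a

variable (F : (Opens Y)ᵒᵖ ⥤ Type u)

theorem rsm_rsm {U V W : Opens Y} (h : V ≤ U) (h' : W ≤ V) (a : F.obj (op U)) :
    rsm F h' (rsm F h a) = rsm F (h'.trans h) a := by
  unfold rsm
  rw [← homOfLE_comp h' h, op_comp, F.map_comp]
  rfl

theorem isSheaf_of_points
    (sep : ∀ (U : Opens Y) (a b : F.obj (op U)), (∀ x ∈ U, ∃ (V : Opens Y) (h : V ≤ U), x ∈ V ∧
      rsm F h a = rsm F h b) → a = b)
    (glue : ∀ (U : Opens Y) (V : U → Opens Y) (hV : ∀ x, V x ≤ U) (_ : ∀ x, x.1 ∈ V x)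
      (t : ∀ x, F.obj (op (V x))),
      (∀ x y, rsm F (inf_le_left : V x ⊓ V y ≤ V x) (t x) = rsm F (inf_le_right : V x ⊓ V y ≤ V y) (t y)) →
      ∃ s : F.obj (op U), ∀ x, rsm F (hV x) s = t x) :
    Presieve.IsSheaf (Opens.grothendieckTopology Y) F := by
  intro U S hS fam hfam
  have hS' : ∀ x ∈ U, ∃ (V : Opens Y) (f : V ⟶ U), S f ∧ x ∈ V := hS
  choose V f hf hx using fun x : U => hS' x.1 x.2
  have hcomp : ∀ {A B W : Opens Y} (a : A ⟶ U) (b : B ⟶ U) (ha : S a) (hb : S b) (hA : W ≤ A) (hB : W ≤ B),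
      rsm F hA (fam a ha) = rsm F hB (fam b hb) := fun a b ha hb hA hB =>
    hfam (homOfLE hA) (homOfLE hB) ha hb (Subsingleton.elim _ _)
  obtain ⟨s, hs⟩ := glue U V (fun x => (f x).le) hx (fun x => fam (f x) (hf x)) fun x y =>
    hcomp _ _ _ _ _ _
  refine ⟨s, ?_, ?_⟩
  · intro W g hg
    apply sep
    intro x hxW
    have hxU : x ∈ U := g.le hxW
    refine ⟨W ⊓ V ⟨x, hxU⟩, inf_le_left, ⟨hxW, hx ⟨x, hxU⟩⟩, ?_⟩
    refine Eq.trans ?_ (hcomp (f ⟨x, hxU⟩) g (hf _) hg inf_le_right inf_le_left)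
    rw [← hs ⟨x, hxU⟩, rsm_rsm]
    exact rsm_rsm F g.le inf_le_left s
  · intro s' hs'
    apply sep
    intro x hxU
    refine ⟨V ⟨x, hxU⟩, (f ⟨x, hxU⟩).le, hx ⟨x, hxU⟩, ?_⟩
    rw [hs ⟨x, hxU⟩]
    exact hs' (f ⟨x, hxU⟩) (hf ⟨x, hxU⟩)

/-- Sheaf condition for presheaves of abelian groups. -/
theorem isSheaf_ab_of_points (F : (Opens Y)ᵒᵖ ⥤ AddCommGrpCat.{u})
    (sep : ∀ (U : Opens Y) (a b : F.obj (op U)), (∀ x ∈ U, ∃ (V : Opens Y) (h : V ≤ U), x ∈ V ∧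
      F.map (homOfLE h).op a = F.map (homOfLE h).op b) → a = b)
    (glue : ∀ (U : Opens Y) (V : U → Opens Y) (hV : ∀ x, V x ≤ U) (_ : ∀ x, x.1 ∈ V x)
      (t : ∀ x, F.obj (op (V x))),
      (∀ x y, F.map (homOfLE (inf_le_left : V x ⊓ V y ≤ V x)).op (t x) =
        F.map (homOfLE (inf_le_right : V x ⊓ V y ≤ V y)).op (t y)) →
      ∃ s : F.obj (op U), ∀ x, F.map (homOfLE (hV x)).op s = t x) :
    Presheaf.IsSheaf (Opens.grothendieckTopology Y) F := by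
  rw [Presheaf.isSheaf_iff_isSheaf_forget _ F (forget AddCommGrpCat.{u}), isSheaf_iff_isSheaf_of_type]
  apply isSheaf_of_points
  · exact sep
  · exact glue

end K726.OpSheaf
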