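import Groth.Agent.Deform.K679.Gerbe
import Groth.Agent.ArtFun.K726.GerbeTriv
import Groth.Agent.ArtFun.K726.OpSheaf

/-!
# The class in `H²` of a gerbe on a space

`toGerbe 𝒢 hcov` : a `K679.Grb` as a `K726.Grb.Gerbe`;
`exists_rig` : class zero ⇒ system of rigidified objects;
`isCls2_zero_of_global` : a global object ⇒ class zero.
-/

set_option autoImplicit false

universe u

open CategoryTheory CategoryTheory.Limits Opposite TopologicalSpace Groth.Agent.Fga.Torsor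

namespace K726.GB

variable {X : TopCat.{u}} {G : CohTop.Ab X}

/-- The terminal open. -/
noncomputable def topT (X : TopCat.{u}) : IsTerminal (⊤ : Opens X) :=
  IsTerminal.ofUniqueHom (fun _ => homOfLE le_top) fun _ _ => Subsingleton.elim _ _

variable (𝒢 : K679.Grb G)

/-- The presheaf of arrows. -/
def arr (i j : 𝒢.ι) : (Opens X)ᵒᵖ ⥤ Type u where
  obj U := 𝒢.Arr i j U.unop
  map f := TypeCat.ofHom fun a => 𝒢.res f.unop.le a
  map_id U := by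
    ext a
    exact 𝒢.res_self _ a
  map_comp f g := by
    ext a
    exact (𝒢.res_res _ _ a).symm

/-- A gerbe on a space as a gerbe on its site of opens. -/
def toGerbe (hcov : ∀ x : X, ∃ i, x ∈ 𝒢.W i) :
    Grb.Gerbe (Opens.grothendieckTopology X) 𝒢.ι G.obj (⊤ : Opens X) where
  dom U i := U ≤ 𝒢.W i
  dom_res f _ h := f.le.trans h
  Arr := arr 𝒢
  diff i j :=
    { d := fun {U} a b => 𝒢.d a b
      d_add := fun a b c => 𝒢.d_add a b c
      map_d := fun f a b => 𝒢.res_d f.unop.le a b }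
  comp a b := 𝒢.comp a b
  map_comp f a b := 𝒢.res_comp f.unop.le a b
  diff_comp a a' b b' := 𝒢.d_comp a a' b b'
  assoc a b c := 𝒢.assoc a b c
  symm a := 𝒢.inv a
  loc V i j hi hj := by
    refine ⟨⟨fun W _ => Nonempty (𝒢.Arr i j W), ?_⟩, ?_, fun W _ hW => hW⟩
    · rintro W W' _ ⟨c⟩ f
      exact ⟨𝒢.res f.le c⟩
    · intro x hx
      obtain ⟨W, hxW, ⟨c⟩⟩ := 𝒢.loc i j x (hi hx) (hj hx)
      exact ⟨V ⊓ W, homOfLE inf_le_left, ⟨𝒢.res inf_le_right c⟩, hx, hxW⟩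
  dom_loc := by
    refine ⟨⟨fun W _ => ∃ i, W ≤ 𝒢.W i, ?_⟩, ?_, fun W _ hW => hW⟩
    · rintro W W' _ ⟨a, ha⟩ f
      exact ⟨a, f.le.trans ha⟩
    · intro x _
      obtain ⟨a, ha⟩ := hcov x
      exact ⟨𝒢.W a, homOfLE le_top, ⟨a, le_rfl⟩, ha⟩

variable (hcov : ∀ x : X, ∃ i, x ∈ 𝒢.W i)

theorem isTorsorial : Grb.IsTorsorial (toGerbe 𝒢 hcov) where
  sep a b h := 𝒢.eq_of_d a b h
  act x b := 𝒢.act b x
  sheaf i j := by
    apply OpSheaf.isSheaf_of_points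
    · intro V c d h
      apply 𝒢.eq_of_d
      choose N hN hx e using h
      apply K288.Sec.eq_of_iSup G (fun x : V => N x.1 x.2) (fun x => hN x.1 x.2)
        (fun x hx' => Opens.mem_iSup.2 ⟨⟨x, hx'⟩, hx x hx'⟩)
      rintro ⟨x, hx'⟩
      rw [map_zero, 𝒢.res_d]
      have e' : 𝒢.res (hN x hx') c = 𝒢.res (hN x hx') d := e x hx'
      rw [e', 𝒢.d_self]
    · intro V N hN hx t h
      exact 𝒢.glue N hN (fun x hx' => Opens.mem_iSup.2 ⟨⟨x, hx'⟩, hx _⟩) t h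

/-- A trivialisation gives a system of rigidified objects. -/
def rigOfTriv (t : Grb.Triv (toGerbe 𝒢 hcov)) : 𝒢.Rig where
  Rg i U := (t.T i).obj (op U)
  le r := t.dom_T r
  res h r := (t.T _).map (homOfLE h).op r
  res_self h r := by
    have : (homOfLE h).op = 𝟙 _ := rfl
    rw [this, (t.T _).map_id]
    rfl
  res_res h h' r := by
    rw [← ConcreteCategory.comp_apply, ← (t.T _).map_comp]
    rfl
  e r s := t.a r s
  e_self {i U} r := by
    have h1 : 𝒢.comp (t.a r r) (t.a r r) = t.a r r := t.comp_a r r r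
    have h2 : 𝒢.comp (t.a r r) (𝒢.one i (t.dom_T r)) = t.a r r := 𝒢.comp_one (t.a r r)
    apply 𝒢.eq_of_d
    have h3 := 𝒢.d_comp (t.a r r) (t.a r r) (t.a r r) (𝒢.one i (t.dom_T r))
    rw [h1, h2, 𝒢.d_self, zero_add] at h3
    exact h3.symm
  res_e h r s := t.map_a (homOfLE h).op r s
  comp_e r s w := t.comp_a r s w
  cov x := by
    obtain ⟨i, hi⟩ := hcov x
    obtain ⟨R, hR, hR'⟩ := t.loc_T (𝒢.W i) i le_rfl
    obtain ⟨V, f, hf, hx⟩ := hR x hi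
    exact ⟨i, V, hx, hR' V f hf⟩

/-- `c` is the class of the gerbe. -/
def IsCls (c : CohTop.H G 2) : Prop := Grb.IsCls2 (topT X) (toGerbe 𝒢 hcov) c

theorem exists_isCls : ∃ c, IsCls 𝒢 hcov c := Grb.exists_isCls2 (topT X) (toGerbe 𝒢 hcov)

variable {𝒢 hcov} in
/-- Class zero: there is a system of rigidified objects. -/
theorem IsCls.exists_rig (h : IsCls 𝒢 hcov 0) : Nonempty 𝒢.Rig := by
  obtain ⟨t⟩ := Grb.IsCls2.exists_triv (topT X) h (isTorsorial 𝒢 hcov)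
  exact ⟨rigOfTriv 𝒢 hcov t⟩

variable {𝒢 hcov} in
theorem IsCls.unique {c c' : CohTop.H G 2} (h : IsCls 𝒢 hcov c) (h' : IsCls 𝒢 hcov c') : c = c' :=
  Grb.IsCls2.unique (topT X) h h'

/-- Morphisms of gerbes over a morphism of bands. -/
structure Mor {G G' : CohTop.Ab X} (𝒢 : K679.Grb G) (𝒢' : K679.Grb G') (φ : G ⟶ G') where
  m : 𝒢.ι → 𝒢'.ι
  le_m : ∀ i, 𝒢.W i ≤ 𝒢'.W (m i)
  F : ∀ {i j : 𝒢.ι} {U : Opens X}, 𝒢.Arr i j U → 𝒢'.Arr (m i) (m j) U
  res_F : ∀ {i j : 𝒢.ι} {U V : Opens X} (h : V ≤ U) (a : 𝒢.Arr i j U),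
    𝒢'.res h (F a) = F (𝒢.res h a)
  F_comp : ∀ {i j l : 𝒢.ι} {U : Opens X} (a : 𝒢.Arr i j U) (b : 𝒢.Arr j l U),
    F (𝒢.comp a b) = 𝒢'.comp (F a) (F b)
  d_F : ∀ {i j : 𝒢.ι} {U : Opens X} (a b : 𝒢.Arr i j U),
    𝒢'.d (F a) (F b) = (φ.hom.app (op U)).hom (𝒢.d a b)

/-- Functoriality of the class. -/
theorem IsCls.map {G G' : CohTop.Ab X} {𝒢 : K679.Grb G} {𝒢' : K679.Grb G'} {φ : G ⟶ G'}
    {hcov : ∀ x : X, ∃ i, x ∈ 𝒢.W i} {hcov' : ∀ x : X, ∃ i, x ∈ 𝒢'.W i}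
    {c : CohTop.H G 2} {c' : CohTop.H G' 2} (h : IsCls 𝒢 hcov c) (h' : IsCls 𝒢' hcov' c')
    (Φ : Mor 𝒢 𝒢' φ) : Sheaf.H.map φ 2 c = c' :=
  Grb.IsCls2.map (topT X) h h' φ
    { m := Φ.m
      dom_m := fun U i hi => hi.trans (Φ.le_m i)
      F := fun a => Φ.F a
      map_F := fun f a => Φ.res_F f.unop.le a
      F_comp := fun a b => Φ.F_comp a b
      d_F := fun a b => Φ.d_F a b }

section global

variable (i : 𝒢.ι) (hi : ⊤ ≤ 𝒢.W i)

/-- The gerbe with a single object. -/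
def single : K679.Grb G where
  ι := PUnit
  W _ := 𝒢.W i
  Arr _ _ U := 𝒢.Arr i i U
  le_l a := 𝒢.le_l a
  le_r a := 𝒢.le_r a
  res h a := 𝒢.res h a
  res_self h a := 𝒢.res_self h a
  res_res h h' a := 𝒢.res_res h h' a
  one _ {U} hU := 𝒢.one i hU
  res_one _ _ _ h hU := 𝒢.res_one i h hU
  comp a b := 𝒢.comp a b
  comp_one a := 𝒢.comp_one a
  assoc a b c := 𝒢.assoc a b c
  res_comp h a b := 𝒢.res_comp h a b
  inv a := 𝒢.inv a
  d a b := 𝒢.d a b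
  d_add a b c := 𝒢.d_add a b c
  res_d h a b := 𝒢.res_d h a b
  d_comp a a' b b' := 𝒢.d_comp a a' b b'
  eq_of_d a b h := 𝒢.eq_of_d a b h
  act a x := 𝒢.act a x
  glue V hV hc f hf := 𝒢.glue V hV hc f hf
  loc _ _ x hx _ := 𝒢.loc i i x hx hx

include hi in
/-- A gerbe with a global object has class zero. -/
theorem isCls_zero : IsCls 𝒢 hcov 0 := by
  have hc : ∀ x : X, ∃ j, x ∈ (single 𝒢 i).W j := fun x => ⟨PUnit.unit, hi trivial⟩
  have h0 : IsCls (single 𝒢 i) hc 0 := by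
    have hU : ∀ U : Opens X, U ≤ 𝒢.W i := fun U => le_top.trans hi
    refine Grb.isCls2_zero (topT X) (Grb.potOfSystem _
      (fun _ _ U => (𝒢.one i (hU U.unop) : 𝒢.Arr i i U.unop)) ?_ ?_)
    · intro _ _ U V f
      exact 𝒢.res_one i _ _
    · intro _ _ _ U
      exact 𝒢.comp_one _
  obtain ⟨c, hcl⟩ := exists_isCls 𝒢 hcov
  have h1 := IsCls.map h0 hcl (φ := 𝟙 G)
    { m := fun _ => i
      le_m := fun _ => le_rfl
      F := fun a => a
      res_F := fun _ _ => rfl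
      F_comp := fun _ _ => rfl
      d_F := fun _ _ => rfl }
  rw [map_zero] at h1
  rw [h1]
  exact hcl

end global

end K726.GB
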