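import Groth.Agent.Deform.K679.DerBand
import Groth.Agent.Deform.K679.SmallH2
import Groth.Agent.ArtFun.K726.DobsUniq
import Groth.Agent.ArtFun.K726.DobsExist
import Groth.Agent.ArtFun.K726.GrbBridge
import Groth.Agent.Nrm16.K136.UnivOmega

/-!
# The gerbe of local lifts of a deformation along a semismall extension

`GG x F` : local homomorphisms from the differentials into `F`; `gerb hp b W L` : the gerbe of a family of local lifts.
-/

set_option autoImplicit false
universe u

open CategoryTheory CategoryTheory.Limits AlgebraicGeometry Opposite TopologicalSpace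
open Groth.Agent.Sga67.Sec
open K696.Base K696.Thk K679
open ArtFun ArtFun.Art

namespace K726.Dobs

variable {k : Type u} [Field k] {X₀ : Scheme.{u}} {x : X₀ ⟶ specPt k} {A' A : Art k k} {p : A' ⟶ A}
  {ξ : DefSch (Λ := k) X₀ x A}

/-- The closed fibre over the bigger base. -/
theorem isPullback₀ (hp : Function.Surjective p) :
    IsPullback ξ.i x (p₀ p ξ) (specRes A') := by
  have hcl : IsClosedImmersion (specMap p) := (K565.DefGlue.isThickening_specMap p hp).1.1
  have hm : Mono (specMap p) := inferInstance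
  have h := ξ.isPullback
  have hw : specRes A' = specRes A ≫ specMap p := (specRes_comp p).symm
  refine ⟨⟨?_⟩, ⟨PullbackCone.IsLimit.mk _ (fun s => h.lift s.fst s.snd ?_) ?_ ?_ ?_⟩⟩
  · rw [p₀, ← Category.assoc, h.w, Category.assoc, hw]
  · have h1 : s.fst ≫ ξ.f ≫ specMap p = s.snd ≫ specRes A ≫ specMap p :=
      s.condition.trans (congrArg (fun t => s.snd ≫ t) hw)
    rw [← Category.assoc, ← Category.assoc] at h1
    exact (cancel_mono _).1 h1
  · intro s
    exact h.lift_fst _ _ _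
  · intro s
    exact h.lift_snd _ _ _
  · intro s m h1 h2
    apply h.hom_ext
    · rw [h1, h.lift_fst]
    · rw [h2, h.lift_snd]

instance : IsClosedImmersion (specRes A') :=
  IsClosedImmersion.spec_of_surjective _ A'.res_surjective

instance : IsClosedImmersion ξ.i := isClosedImmersion_i

instance : Surjective ξ.i :=
  MorphismProperty.of_isPullback ξ.isPullback.flip
    (K565.DefCat.isFiniteOrderThickening_specRes A).1.2

variable (ξ) in
/-- The homeomorphism from the closed fibre. -/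
noncomputable def eH : X₀ ≃ₜ ξ.total := SmallLift.homeo ξ.i

/-- Local homomorphisms from the differentials. -/
noncomputable def GG (x : X₀ ⟶ specPt k) (F : X₀.Modules) : CohTop.Ab X₀.toTopCat :=
  HomSh.sh ((Scheme.Modules.pullback (𝟙 X₀)).obj (Omega.sheaf x)) F

/-- Functoriality. -/
noncomputable def GGmap (x : X₀ ⟶ specPt k) {F F' : X₀.Modules} (f : F ⟶ F') : GG x F ⟶ GG x F' :=
  HomSh.shMap _ f

theorem GGmap_comp {F F' F'' : X₀.Modules} (f : F ⟶ F') (g : F' ⟶ F'') :
    GGmap x (f ≫ g) = GGmap x f ≫ GGmap x g := rfl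

theorem GGmap_id (F : X₀.Modules) : GGmap x (𝟙 F) = 𝟙 _ := rfl

variable [QuasiSeparated x]

variable (ξ) in
/-- The band. -/
noncomputable def bandG (hp : Function.Surjective p) (F : X₀.Modules) :
    Band (p₀ p ξ) ((Scheme.Modules.pushforward ξ.i).obj F) (eH ξ) (GG x F) :=
  DerBand.band (isPullback₀ hp) (K136.UnivOmega.isUniversal_dOmega x) (eH ξ) (fun _ => rfl)


variable (p ξ) in
/-- A local lift with its open. -/
structure LS where
  W : ξ.total.Opens
  L : LL p ξ W

section gerb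

variable [Smooth x] {hp : IsSemismallExt p} {n : ℕ}
  (b : Module.Basis (Fin n) k ↥(RingHom.ker p.toAlgHom)) {J : Type u} (F : J → LS p ξ)

omit [QuasiSeparated x] in
theorem gloc (i j : J) (y : ξ.total) (hi : y ∈ (F i).W) (hj : y ∈ (F j).W) :
    ∃ U : ξ.total.Opens, y ∈ U ∧
      Nonempty (K679.TArr ((F i).L.ob (hp := hp) b) ((F j).L.ob (hp := hp) b) U) :=
  LL.exists_arr (hp := hp) (F i).L (F j).L b hi hj

variable (hp) in
/-- The gerbe of a family of local lifts. -/
noncomputable def gerb : K679.Grb (GG x (On X₀ n)) :=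
  K679.grb (bandG ξ hp.1 (On X₀ n)) (fun j => (F j).W) (fun j => (F j).L.ob (hp := hp) b) (gloc b F)

theorem gcov (hF : ∀ y : ξ.total, ∃ j, y ∈ (F j).W) (y : X₀) : ∃ j, y ∈ (gerb hp b F).W j := by
  obtain ⟨j, hj⟩ := hF (eH ξ y)
  exact ⟨j, hj⟩

variable (hp) in
/-- `c` is the class of the gerbe of the family. -/
def IsC (hF : ∀ y : ξ.total, ∃ j, y ∈ (F j).W) (c : CohTop.H (GG x (On X₀ n)) 2) : Prop :=
  GB.IsCls (gerb hp b F) (gcov b F hF) c

variable {b F} {hF : ∀ y : ξ.total, ∃ j, y ∈ (F j).W}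

theorem exists_isC : ∃ c, IsC hp b F hF c := GB.exists_isCls _ _

theorem H_map_id {X : TopCat.{u}} {G : CohTop.Ab X} (n : ℕ) (c : CohTop.H G n) :
    Sheaf.H.map (𝟙 G) n c = c := Sheaf.H.map_id_apply c

theorem IsC.of_map {J' : Type u} {F' : J' → LS p ξ}
    {hF' : ∀ y : ξ.total, ∃ j, y ∈ (F' j).W} {c : CohTop.H (GG x (On X₀ n)) 2}
    (h : IsC hp b F hF c) (m : J → J') (hm : F = F' ∘ m) : IsC hp b F' hF' c := by
  subst hm
  obtain ⟨c', hc'⟩ := exists_isC (hp := hp) (b := b) (F := F') (hF := hF')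
  have h1 := GB.IsCls.map h hc' (φ := 𝟙 _)
    { m := m
      le_m := fun _ => le_rfl
      F := fun a => a
      res_F := fun _ _ => rfl
      F_comp := fun _ _ => rfl
      d_F := fun _ _ => rfl }
  rw [H_map_id] at h1
  rw [h1]
  exact hc'

theorem IsC.unique {J' : Type u} {F' : J' → LS p ξ}
    {hF' : ∀ y : ξ.total, ∃ j, y ∈ (F' j).W} {c c' : CohTop.H (GG x (On X₀ n)) 2}
    (h : IsC hp b F hF c) (h' : IsC hp b F' hF' c') : c = c' := by
  have hF'' : ∀ y : ξ.total, ∃ j, y ∈ (Sum.elim F F' j).W := fun y => by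
    obtain ⟨j, hj⟩ := hF y
    exact ⟨Sum.inl j, hj⟩
  have h1 : IsC hp b (Sum.elim F F') hF'' c := h.of_map Sum.inl rfl
  have h2 : IsC hp b (Sum.elim F F') hF'' c' := h'.of_map Sum.inr rfl
  exact GB.IsCls.unique h1 h2

theorem IsC.zero_of_top {c : CohTop.H (GG x (On X₀ n)) 2} (h : IsC hp b F hF c)
    (a : LL p ξ ⊤) : c = 0 := by
  have hF' : ∀ y : ξ.total, ∃ j : PUnit.{u + 1}, y ∈ ((fun _ => ⟨⊤, a⟩ : PUnit.{u + 1} → LS p ξ) j).W :=
    fun y => ⟨PUnit.unit, trivial⟩
  have h0 : IsC hp b (fun _ => ⟨⊤, a⟩ : PUnit.{u + 1} → LS p ξ) hF' 0 := by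
    refine GB.isCls_zero _ _ PUnit.unit ?_
    exact (le_symm_iff (eH ξ) _ _).2 le_top
  exact h.unique h0

theorem IsC.exists_lift (h : IsC hp b F hF 0) : ∃ (Z : Scheme.{u}) (f : Z ⟶ spec A') (j : ξ.total ⟶ Z),
    Flat f ∧ IsPullback j ξ.f f (specMap p) := by
  obtain ⟨R⟩ := GB.IsCls.exists_rig h
  exact exists_lift_of_rig R (specMap p) ξ.f rfl (fun j => (F j).L.flat) (fun j => (F j).L.pb)

end gerb

end K726.Dobs
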