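import Groth.Prelude.Def_CohTop
import Groth.Prelude.Def_Coh

/-!
# Second cohomology of abelian sheaves, wrapped
-/

set_option autoImplicit false
universe u

open CategoryTheory CategoryTheory.Limits AlgebraicGeometry Opposite TopologicalSpace

namespace K726.Dobs

/-- `H²(X, F)`. -/
def H2 {X : TopCat.{u}} (F : CohTop.Ab X) : Type u := CohTop.H F 2

noncomputable instance {X : TopCat.{u}} (F : CohTop.Ab X) : AddCommGroup (H2 F) :=
  inferInstanceAs (AddCommGroup (CohTop.H F 2))

namespace H2

variable {X : TopCat.{u}} {F G K : CohTop.Ab X}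

/-- Functoriality. -/
noncomputable def map (f : F ⟶ G) : H2 F →+ H2 G := Sheaf.H.map f 2

theorem map_def (f : F ⟶ G) (z : CohTop.H F 2) : H2.map f z = Sheaf.H.map f 2 z := rfl

theorem map_id (z : H2 F) : map (𝟙 F) z = z := Sheaf.H.map_id_apply (n := 2) z

theorem map_comp (f : F ⟶ G) (g : G ⟶ K) (z : H2 F) : map (f ≫ g) z = map g (map f z) :=
  Sheaf.H.map_comp_apply (n := 2) f g z

theorem map_add' (f g : F ⟶ G) (z : H2 F) : map (f + g) z = map f z + map g z :=
  Sheaf.H.map_add_apply (n := 2) f g z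

theorem map_zero' (z : H2 F) : map (0 : F ⟶ G) z = 0 := by
  have h1 := map_add' (0 : F ⟶ G) 0 z
  rw [add_zero] at h1
  exact left_eq_add.1 h1

end H2

end K726.Dobs
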