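import Groth.Agent.ArtFun.K726.DobsMod
import Groth.Agent.ArtFun.K726.DobsH2
import Groth.Agent.Deform.K679.HomSh
import Groth.Agent.Sga2.PnHomAdj
import Groth.Agent.Fga.EulerIso

/-!
# The sheaf of local homomorphisms and the internal Hom

`tau Ω N` : `K679.HomSh.sh ((pullback (𝟙 X)).obj Ω) N ≅ Coh.toAb (homSheaf Ω N)`.
-/

set_option autoImplicit false
universe u

open CategoryTheory CategoryTheory.Limits AlgebraicGeometry Opposite TopologicalSpace
open Groth.Agent.Sga67.Sec (Sec res resO res_res resO_resO res_self resO_self res_smul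
  eq_of_locally eqO_of_locally appS appS_res appS_comp appS_id appS_add)
open K696.LHom Groth.Agent.CohqB.HomSheaf

namespace K726.Dobs

variable {X : Scheme.{u}} (Ω N : X.Modules)

/-- Pull-back along the identity. -/
noncomputable def αI : (Scheme.Modules.pullback (𝟙 X)).obj Ω ≅ Ω := (Scheme.Modules.pullbackId X).app Ω

theorem appS_inv_hom (V : X.Opens) (m : Sec Ω V) : appS (αI Ω).hom V (appS (αI Ω).inv V m) = m := by
  rw [← appS_comp, Iso.inv_hom_id, appS_id]

theorem appS_hom_inv (V : X.Opens) (m : Sec ((Scheme.Modules.pullback (𝟙 X)).obj Ω) V) :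
    appS (αI Ω).inv V (appS (αI Ω).hom V m) = m := by
  rw [← appS_comp, Iso.hom_inv_id, appS_id]

theorem aux_add {U : X.Opens} (φ : LocHom ((Scheme.Modules.pullback (𝟙 X)).obj Ω) N U) {V : X.Opens}
    (hV : V ≤ U) (m m' : Sec Ω V) : φ.app hV (appS (αI Ω).inv V (m + m')) =
      φ.app hV (appS (αI Ω).inv V m) + φ.app hV (appS (αI Ω).inv V m') := by
  rw [map_add, map_add]

theorem aux_smul {U : X.Opens} (φ : LocHom ((Scheme.Modules.pullback (𝟙 X)).obj Ω) N U) {V : X.Opens}
    (hV : V ≤ U) (r : Γ(X, V)) (m : Sec Ω V) : φ.app hV (appS (αI Ω).inv V (r • m)) =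
      r • φ.app hV (appS (αI Ω).inv V m) := by
  rw [map_smul, φ.app_smul]

/-- From local homomorphisms to sections of the internal Hom. -/
noncomputable def toHO (U : X.Opens) :
    LocHom ((Scheme.Modules.pullback (𝟙 X)).obj Ω) N U →+ HomOn Ω N U where
  toFun φ := HomOn.mk' (fun V hV m => φ.app hV (appS (αI Ω).inv V m))
    (fun V hV m m' => aux_add Ω N φ hV m m')
    (fun V hV r m => aux_smul Ω N φ hV r m)
    (fun V W hV h m => by
      change φ.app (h.trans hV) (appS (αI Ω).inv W (res Ω h m)) = res N h _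
      rw [appS_res, φ.app_res hV h])
  map_zero' := rfl
  map_add' _ _ := rfl

/-- From sections of the internal Hom to local homomorphisms. -/
noncomputable def ofHO (U : X.Opens) :
    HomOn Ω N U →+ LocHom ((Scheme.Modules.pullback (𝟙 X)).obj Ω) N U where
  toFun ψ :=
    { app := fun {V} hV => AddMonoidHom.mk' (fun s => ψ.ap V hV (appS (αI Ω).hom V s)) fun s s' => by
        rw [map_add]
        exact ψ.ap_add_right V hV _ _
      app_smul := fun {V} hV a s => by
        change ψ.ap V hV (appS (αI Ω).hom V (a • s)) = a • ψ.ap V hV (appS (αI Ω).hom V s)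
        rw [map_smul]
        exact ψ.ap_smul_right V hV a _
      app_res := fun {V V'} hV h s => by
        change ψ.ap V' (h.trans hV) (appS (αI Ω).hom V' (res _ h s)) =
          res N h (ψ.ap V hV (appS (αI Ω).hom V s))
        rw [appS_res]
        exact ψ.ap_map hV h _ }
  map_zero' := rfl
  map_add' _ _ := rfl

theorem ofHO_toHO (U : X.Opens) (φ : LocHom ((Scheme.Modules.pullback (𝟙 X)).obj Ω) N U) :
    ofHO Ω N U (toHO Ω N U φ) = φ := by
  refine LocHom.ext' fun V hV s => ?_
  change φ.app hV (appS (αI Ω).inv V (appS (αI Ω).hom V s)) = _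
  rw [appS_hom_inv]

theorem toHO_ofHO (U : X.Opens) (ψ : HomOn Ω N U) : toHO Ω N U (ofHO Ω N U ψ) = ψ := by
  refine HomOn.ext' fun V hV s => ?_
  change ψ.ap V hV (appS (αI Ω).hom V (appS (αI Ω).inv V s)) = _
  rw [appS_inv_hom]

/-- The underlying abelian sheaf of a module. -/
noncomputable def AbT (M : X.Modules) : CohTop.Ab X.toTopCat := Coh.toAb M

/-- Multiplication by a global function. -/
noncomputable def smT (M : X.Modules) (r : Coh.Γtop X) : AbT M ⟶ AbT M := Coh.smulAb M r

/-- The sheaf of local homomorphisms is the underlying sheaf of the internal Hom. -/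
noncomputable def tau : K679.HomSh.sh ((Scheme.Modules.pullback (𝟙 X)).obj Ω) N ≅
    AbT (homSheaf Ω N) where
  hom := ⟨{ app := fun U => AddCommGrpCat.ofHom (toHO Ω N U.unop)
            naturality := fun U V i => rfl }⟩
  inv := ⟨{ app := fun U => AddCommGrpCat.ofHom (ofHO Ω N U.unop)
            naturality := fun U V i => rfl }⟩
  hom_inv_id := by
    ext U φ
    exact ofHO_toHO Ω N U.unop φ
  inv_hom_id := by
    ext U φ
    exact toHO_ofHO Ω N U.unop φ

theorem scl_tau (r : Γ(X, ⊤)) :
    K679.HomSh.shMap ((Scheme.Modules.pullback (𝟙 X)).obj Ω) (scl r) ≫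
      (tau Ω (Coh.structureModule X)).hom =
      (tau Ω (Coh.structureModule X)).hom ≫ smT (homSheaf Ω (Coh.structureModule X)) r := by
  ext U φ
  refine HomOn.ext' fun V hV s => ?_
  change appS (scl r) V ((show LocHom _ _ U.unop from φ).app hV (appS (αI Ω).inv V s)) =
    resO X hV (resO X (le_top : U.unop ≤ ⊤) r) •
      (show LocHom _ _ U.unop from φ).app hV (appS (αI Ω).inv V s)
  rw [scl_app, resO_resO]

/-- Change of world. -/
noncomputable def toHH (M : X.Modules) : H2 (AbT M) →+ Coh.HH X M 2 :=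
  AddMonoidHom.mk' (fun z => z) fun _ _ => rfl

theorem toHH_injective (M : X.Modules) : Function.Injective (toHH M) := fun _ _ h => h

theorem toHH_smT (M : X.Modules) (r : Coh.Γtop X) (z : H2 (AbT M)) :
    toHH M (H2.map (smT M r) z) = r • toHH M z := rfl

open Groth.Agent.Fga.EulerIso

theorem tauH_injective : Function.Injective (H2.map (tau Ω N).hom) := by
  intro a b h
  have h0 : ∀ c, H2.map (tau Ω N).inv (H2.map (tau Ω N).hom c) = c := fun c => by
    rw [← H2.map_comp, Iso.hom_inv_id, H2.map_id]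
  rw [← h0 a, ← h0 b, h]

theorem tauH_scl (r : Γ(X, ⊤))
    (z : H2 (K679.HomSh.sh ((Scheme.Modules.pullback (𝟙 X)).obj Ω) (Coh.structureModule X))) :
    H2.map (tau Ω _).hom (H2.map (K679.HomSh.shMap _ (scl r)) z) =
      H2.map (smT _ r) (H2.map (tau Ω _).hom z) := by
  rw [← H2.map_comp, ← H2.map_comp, scl_tau]

theorem hhab_inv_injective {M M' : X.Modules} (e : M ≅ M') :
    Function.Injective (HHab (abMap e.inv) 2) := fun a b h => by
  have h0 : ∀ c : Coh.HH X M' 2, HHab (abMap e.hom) 2 (HHab (abMap e.inv) 2 c) = c := fun c => by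
    rw [← HHab_comp, ← abMap_comp, Iso.inv_hom_id, abMap_id, HHab_id]
  rw [← h0 a, ← h0 b, h]

variable [DCoh.HasSheafHom Ω]

/-- The internal Hom. -/
noncomputable def isoT : (DCoh.sheafHom Ω).obj N ≅ homSheaf Ω N :=
  (Groth.Agent.Sga2.PnHomAdj.sheafHomIso Ω).app N

/-- The map to the cohomology of the internal Hom. -/
noncomputable def hhΩ : H2 (K679.HomSh.sh ((Scheme.Modules.pullback (𝟙 X)).obj Ω) N) →+
    Coh.HH X ((DCoh.sheafHom Ω).obj N) 2 :=
  (HHab (abMap (isoT Ω N).inv) 2).comp ((toHH (homSheaf Ω N)).comp (H2.map (tau Ω N).hom))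

theorem hhΩ_injective : Function.Injective (hhΩ Ω N) :=
  (hhab_inv_injective (isoT Ω N)).comp ((toHH_injective _).comp (tauH_injective Ω N))

theorem hhΩ_scl (r : Coh.Γtop X)
    (z : H2 (K679.HomSh.sh ((Scheme.Modules.pullback (𝟙 X)).obj Ω) (Coh.structureModule X))) :
    hhΩ Ω _ (H2.map (K679.HomSh.shMap _ (scl r)) z) = r • hhΩ Ω _ z :=
  (congrArg (fun t => HHab (abMap (isoT Ω (Coh.structureModule X)).inv) 2 (toHH _ t))
    (tauH_scl Ω r z)).trans
    ((congrArg (HHab (abMap (isoT Ω (Coh.structureModule X)).inv) 2)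
      (toHH_smT (homSheaf Ω (Coh.structureModule X)) r _)).trans
    (HHab_smul (isoT Ω (Coh.structureModule X)).inv 2 r _))

end K726.Dobs
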