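import Groth.Agent.ArtFun.K726.DobsMor
import Groth.Agent.ArtFun.K726.DobsHH
import Groth.Agent.Deform.K681.AffObs

/-!
# The obstruction theory of deformations of a smooth scheme
-/

set_option autoImplicit false
universe u

open CategoryTheory CategoryTheory.Limits AlgebraicGeometry Opposite TopologicalSpace
open ArtFun ArtFun.Art
open scoped TensorProduct

namespace K726.Dobs

variable {k : Type u} [Field k] {X₀ : Scheme.{u}} {x : X₀ ⟶ specPt k}

section lin

theorem GGmap_add {F F' : X₀.Modules} (f g : F ⟶ F') : GGmap x (f + g) = GGmap x f + GGmap x g := by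
  ext U φ
  refine K696.LHom.LocHom.ext' fun V hV s => ?_
  exact Groth.Agent.Sga67.Sec.appS_add f g V _

theorem GGmap_zero (F F' : X₀.Modules) : GGmap x (0 : F ⟶ F') = 0 := by
  ext U φ
  refine K696.LHom.LocHom.ext' fun V hV s => ?_
  rfl

theorem HG_sum {F F' : X₀.Modules} {ι : Type*} (s : Finset ι) (f : ι → (F ⟶ F'))
    (c : H2 (GG x F)) : H2.map (GGmap x (∑ l ∈ s, f l)) c = ∑ l ∈ s, H2.map (GGmap x (f l)) c := by
  classical
  induction s using Finset.induction_on with
  | empty => rw [Finset.sum_empty, Finset.sum_empty, GGmap_zero, H2.map_zero']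
  | insert a s ha ih => rw [Finset.sum_insert ha, Finset.sum_insert ha, GGmap_add, H2.map_add', ih]

theorem HG_comp {F F' F'' : X₀.Modules} (f : F ⟶ F') (g : F' ⟶ F'') (c : H2 (GG x F)) :
    H2.map (GGmap x (f ≫ g)) c = H2.map (GGmap x g) (H2.map (GGmap x f) c) := by
  rw [GGmap_comp, H2.map_comp]

/-- The components of a class. -/
noncomputable def cc {n : ℕ} (l : Fin n) :
    H2 (GG x (On X₀ n)) →+ H2 (GG x (Coh.structureModule X₀)) :=
  H2.map (GGmap x (prO l))

theorem eq_zero_of_cc {n : ℕ} (c : H2 (GG x (On X₀ n))) (h : ∀ l, cc l c = 0) : c = 0 := by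
  have h1 : H2.map (GGmap x (∑ l : Fin n, prO (X := X₀) l ≫ innO l)) c = c := by
    rw [sum_prO_innO, GGmap_id, H2.map_id]
  rw [← h1, HG_sum]
  refine Finset.sum_eq_zero fun l _ => ?_
  rw [HG_comp]
  have h2 : H2.map (GGmap x (prO l)) c = 0 := h l
  rw [h2, map_zero]

theorem cc_mat {n n' : ℕ} (A : Fin n → Fin n' → Γ(X₀, ⊤)) (c : H2 (GG x (On X₀ n)))
    (l' : Fin n') : cc l' (H2.map (GGmap x (mat A)) c) =
      ∑ l, H2.map (GGmap x (scl (A l l'))) (cc l c) := by
  have h1 : cc l' (H2.map (GGmap x (mat A)) c) = H2.map (GGmap x (mat A ≫ prO l')) c :=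
    (HG_comp _ _ _).symm
  rw [h1, mat_prO, HG_sum]
  exact Finset.sum_congr rfl fun l _ => HG_comp _ _ _

end lin

theorem alg_top (c : k) : alg (A := k) x ⊤ c = Coh.toGlobal x c :=
  K696.Base.ev_eq_app x ((Scheme.ΓSpecIso (CommRingCat.of k)).inv c) le_rfl

section lifts

variable {A' A : Art k k} {p : A' ⟶ A} {ξ : DefSch (Λ := k) X₀ x A}

/-- A lift of the total space gives a deformation over the bigger base. -/
theorem exists_BC {Z : Scheme.{u}} {f : Z ⟶ spec A'} {j : ξ.total ⟶ Z} (hf : Flat f)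
    (h : IsPullback j ξ.f f (specMap p)) :
    ∃ η : DefSch (Λ := k) X₀ x A', Nonempty (K565.DefCat.BC η p ξ) := by
  refine ⟨{ total := Z
            f := f
            flat := hf
            i := ξ.i ≫ j
            isPullback := ?_ }, ⟨j, h, rfl⟩⟩
  have h2 := ξ.isPullback.paste_horiz h
  rwa [specRes_comp] at h2

/-- A deformation over the bigger base gives a lift of the whole space. -/
noncomputable def LL.ofBC {η : DefSch (Λ := k) X₀ x A'} (b : K565.DefCat.BC η p ξ) : LL p ξ ⊤ where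
  Z := η.total
  j := (⊤ : ξ.total.Opens).ι ≫ b.t
  s := η.f
  flat := η.flat
  pb := by
    have hiso : IsIso (⊤ : ξ.total.Opens).ι := inferInstanceAs (IsIso ξ.total.topIso.hom)
    have h : IsPullback (⊤ : ξ.total.Opens).ι ((⊤ : ξ.total.Opens).ι ≫ ξ.f) ξ.f (𝟙 _) :=
      IsPullback.of_horiz_isIso ⟨by rw [Category.comp_id]⟩
    have h2 := h.paste_horiz b.isPullback
    rwa [Category.id_comp] at h2

end lifts

section obs

variable [QuasiSeparated x] [Smooth x]

variable {A' A : Art k k} {p : A' ⟶ A}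

/-- The family of all affine local lifts. -/
noncomputable def fam (p : A' ⟶ A) (ξ : DefSch (Λ := k) X₀ x A) :
    {V : ξ.total.Opens // IsAffineOpen V} → LS p ξ :=
  fun V => ⟨V.1, (nonempty_LL V.2).some⟩

omit [QuasiSeparated x] in
theorem fam_cov (p : A' ⟶ A) (ξ : DefSch (Λ := k) X₀ x A) (y : ξ.total) :
    ∃ j, y ∈ (fam p ξ j).W := by
  obtain ⟨_, ⟨V, hV, rfl⟩, hxV, -⟩ := ξ.total.isBasis_affineOpens.exists_subset_of_mem_open
    (Set.mem_univ y) isOpen_univ
  exact ⟨⟨V, hV⟩, hxV⟩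

/-- The class. -/
noncomputable def cls (hp : IsSemismallExt p) (ξ : DefSch (Λ := k) X₀ x A) {n : ℕ}
    (b : Module.Basis (Fin n) k ↥(RingHom.ker p.toAlgHom)) : H2 (GG x (On X₀ n)) :=
  (exists_isC (hp := hp) (b := b) (F := fam p ξ) (hF := fam_cov p ξ)).choose

theorem isC_cls (hp : IsSemismallExt p) (ξ : DefSch (Λ := k) X₀ x A) {n : ℕ}
    (b : Module.Basis (Fin n) k ↥(RingHom.ker p.toAlgHom)) :
    IsC hp b (fam p ξ) (fam_cov p ξ) (cls hp ξ b) :=
  (exists_isC (hp := hp) (b := b) (F := fam p ξ) (hF := fam_cov p ξ)).choose_spec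

theorem cls_eq_zero_iff (hp : IsSemismallExt p) (ξ : DefSch (Λ := k) X₀ x A) {n : ℕ}
    (b : Module.Basis (Fin n) k ↥(RingHom.ker p.toAlgHom)) :
    cls hp ξ b = 0 ↔ ∃ η : DefSch (Λ := k) X₀ x A', Nonempty (K565.DefCat.BC η p ξ) := by
  constructor
  · intro h
    have h1 := isC_cls hp ξ b
    rw [h] at h1
    obtain ⟨Z, f, j, hf, hpb⟩ := IsC.exists_lift h1
    exact exists_BC hf hpb
  · rintro ⟨η, ⟨c⟩⟩
    exact IsC.zero_of_top (isC_cls hp ξ b) (LL.ofBC c)

theorem cls_bc {B' : Art k k} {g : A' ⟶ B'} {q : B' ⟶ A} (hp : IsSemismallExt p)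
    (hq : IsSemismallExt q) (hg : Function.Surjective g) (hgq : g ≫ q = p)
    (ξ : DefSch (Λ := k) X₀ x A) {n n' : ℕ} (b : Module.Basis (Fin n) k ↥(RingHom.ker p.toAlgHom))
    (b' : Module.Basis (Fin n') k ↥(RingHom.ker q.toAlgHom)) {M : Fin n → Fin n' → k}
    (hM : ∀ l, g (b l : A') = ∑ l', algebraMap k B' (M l l') * (b' l' : B')) :
    H2.map (GGmap x (mat (LLb.gM x M))) (cls hp ξ b) = cls hq ξ b' :=
  IsC.map_bc hM hg hgq (isC_cls hp ξ b) (isC_cls hq ξ b')

variable {V : Type u} [AddCommGroup V] [Module k V] (hh : H2 (GG x (Coh.structureModule X₀)) →+ V)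
  (hi : Function.Injective hh)
  (hs : ∀ (c : k) z, hh (H2.map (GGmap x (scl (alg (A := k) x ⊤ c))) z) = c • hh z)

/-- The obstruction. -/
noncomputable def obm (hp : IsSemismallExt p) (ξ : DefSch (Λ := k) X₀ x A) {n : ℕ}
    (b : Module.Basis (Fin n) k ↥(RingHom.ker p.toAlgHom)) : V ⊗[k] ↥(RingHom.ker p.toAlgHom) :=
  ∑ l, hh (cc l (cls hp ξ b)) ⊗ₜ b l

include hi in
theorem obm_eq_zero_iff (hp : IsSemismallExt p) (ξ : DefSch (Λ := k) X₀ x A) {n : ℕ}
    (b : Module.Basis (Fin n) k ↥(RingHom.ker p.toAlgHom)) :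
    obm hh hp ξ b = 0 ↔ ∃ η : DefSch (Λ := k) X₀ x A', Nonempty (K565.DefCat.BC η p ξ) := by
  rw [← cls_eq_zero_iff hp ξ b]
  constructor
  · intro h
    apply eq_zero_of_cc
    have h1 := TensorProduct.sum_tmul_basis_right_eq_zero b
      (Finsupp.equivFunOnFinite.symm fun l => hh (cc l (cls hp ξ b))) (by
        refine (Finsupp.sum_fintype _ _ fun i => ?_).trans h
        exact TensorProduct.zero_tmul _ _)
    intro l
    apply hi
    rw [map_zero]
    exact DFunLike.congr_fun h1 l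
  · intro h
    unfold obm
    rw [h]
    refine Finset.sum_eq_zero fun l _ => ?_
    rw [map_zero, map_zero, TensorProduct.zero_tmul]

include hs in
theorem obm_bc {B' : Art k k} {g : A' ⟶ B'} {q : B' ⟶ A} (hp : IsSemismallExt p)
    (hq : IsSemismallExt q) (hg : Function.Surjective g) (hgq : g ≫ q = p)
    (ξ : DefSch (Λ := k) X₀ x A) {n n' : ℕ} (b : Module.Basis (Fin n) k ↥(RingHom.ker p.toAlgHom))
    (b' : Module.Basis (Fin n') k ↥(RingHom.ker q.toAlgHom))
    (θ : ↥(RingHom.ker p.toAlgHom) →ₗ[k] ↥(RingHom.ker q.toAlgHom)) (hθ : ∀ z, (θ z : B') = g z) :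
    obm hh hq ξ b' = LinearMap.lTensor V θ (obm hh hp ξ b) := by
  let M : Fin n → Fin n' → k := fun l l' => b'.repr (θ (b l)) l'
  have hθb : ∀ l, θ (b l) = ∑ l', M l l' • b' l' := fun l => (b'.sum_repr (θ (b l))).symm
  have hM : ∀ l, g (b l : A') = ∑ l', algebraMap k B' (M l l') * (b' l' : B') := by
    intro l
    rw [← hθ, hθb]
    rw [Submodule.coe_sum]
    refine Finset.sum_congr rfl fun l' _ => ?_
    exact Algebra.smul_def _ _
  unfold obm
  rw [map_sum, ← cls_bc hp hq hg hgq ξ b b' hM]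
  have h1 : ∀ l, LinearMap.lTensor V θ (hh (cc l (cls hp ξ b)) ⊗ₜ[k] b l) =
      ∑ l', (M l l' • hh (cc l (cls hp ξ b))) ⊗ₜ[k] b' l' := by
    intro l
    rw [LinearMap.lTensor_tmul, hθb, TensorProduct.tmul_sum]
    exact Finset.sum_congr rfl fun l' _ => TensorProduct.tmul_smul _ _ _ |>.trans
      (TensorProduct.smul_tmul' _ _ _)
  rw [Finset.sum_congr rfl fun l _ => h1 l, Finset.sum_comm]
  refine Finset.sum_congr rfl fun l' _ => ?_
  rw [← TensorProduct.sum_tmul, cc_mat, map_sum]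
  congr 1
  exact Finset.sum_congr rfl fun l _ => hs _ _

include hi hs in
/-- Deformations of a smooth scheme have an obstruction theory with values in `H²` of the tangent
sheaf. -/
theorem hasObsTheory : HasObsTheory (defFunctor (Λ := k) X₀ x) V := by
  have hfin : ∀ {C' C : Art k k} (p : C' ⟶ C), IsSemismallExt p →
      Module.Finite k ↥(RingHom.ker p.toAlgHom) := fun p hp => K681.AffRep.finite_ker hp
  choose rep hrep using @K565.DefCat.exists_rep k k _ _ _ X₀ x
  refine ⟨{ obs := fun {C' C} p hp z =>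
              haveI := hfin p hp
              obm hh hp (rep z) (Module.finBasis k ↥(RingHom.ker p.toAlgHom))
            obs_eq_zero_iff := ?_
            obs_quot := ?_ }⟩
  · intro C' C p hp z
    have := hfin p hp
    rw [obm_eq_zero_iff hh hi]
    constructor
    · rintro ⟨η, hb⟩
      refine ⟨η.cl, ?_⟩
      rw [K565.DefCat.map_cl_eq_iff.2 hb, hrep]
    · rintro ⟨z', hz'⟩
      refine ⟨rep z', ?_⟩
      rw [← K565.DefCat.map_cl_eq_iff, hrep, hrep, hz']
  · intro C' C p hp K hK hKJ hq z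
    have := hfin p hp
    have := hfin _ hq
    exact obm_bc hh hs hp hq (quotMk_surjective C' K hK) (quotMk_quotFactor hK p hKJ) (rep z) _ _
      ((kerToQuot hK p hKJ).restrictScalars k) fun _ => rfl

end obs

end K726.Dobs
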