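import Groth.Agent.Deform.K679.ThHom
import Groth.Agent.Lift.K695.ClFib
import Groth.Agent.Picfga.SecGraph
import Mathlib.AlgebraicGeometry.Morphisms.Flat

/-!
# Structure maps on sections, and kernels of closed immersions pulled back from affine schemes
-/

set_option autoImplicit false
universe u

open CategoryTheory CategoryTheory.Limits AlgebraicGeometry Opposite TopologicalSpace
open Groth.Agent.Sga67.Sec (Sec res resO res_res resO_resO res_self resO_self res_smul
  eq_of_locally eqO_of_locally)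
open K696.Base K696.Thk

namespace K726.Dobs

variable {A B : Type u} [CommRing A] [CommRing B] {X Z : Scheme.{u}}

/-- The structure map `A → Γ(Z, U)` of a scheme over `Spec A`. -/
noncomputable def alg (s : Z ⟶ Spec (CommRingCat.of A)) (U : Z.Opens) : A →+* Γ(Z, U) :=
  (ev s (V := ⊤) le_top).comp (Scheme.ΓSpecIso (CommRingCat.of A)).inv.hom

theorem alg_apply (s : Z ⟶ Spec (CommRingCat.of A)) (U : Z.Opens) (a : A) :
    alg s U a = ev s (V := ⊤) le_top ((Scheme.ΓSpecIso (CommRingCat.of A)).inv a) := rfl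

theorem res_alg (s : Z ⟶ Spec (CommRingCat.of A)) {U V : Z.Opens} (h : V ≤ U) (a : A) :
    resO Z h (alg s U a) = alg s V a :=
  res_ev s (V := ⊤) (le_top : U ≤ s ⁻¹ᵁ ⊤) h ((Scheme.ΓSpecIso (CommRingCat.of A)).inv a)

theorem ev_alg (s : Z ⟶ Spec (CommRingCat.of A)) (f : X ⟶ Z) {U : Z.Opens} {V : X.Opens}
    (h : V ≤ f ⁻¹ᵁ U) (a : A) : ev f h (alg s U a) = alg (f ≫ s) V a :=
  ev_comp f s (V := ⊤) (le_top : U ≤ s ⁻¹ᵁ ⊤) h le_top ((Scheme.ΓSpecIso (CommRingCat.of A)).inv a)

theorem alg_congr {s s' : Z ⟶ Spec (CommRingCat.of A)} (h : s = s') (U : Z.Opens) (a : A) :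
    alg s U a = alg s' U a := by rw [h]

theorem alg_specMap (s : Z ⟶ Spec (CommRingCat.of B)) (φ : A →+* B) (U : Z.Opens) (a : A) :
    alg (s ≫ Spec.map (CommRingCat.ofHom φ)) U a = alg s U (φ a) := by
  rw [alg_apply, alg_apply, ← ev_comp s (Spec.map (CommRingCat.ofHom φ)) (V := ⊤) (W := ⊤) le_top le_top]
  congr 1
  have h1 := Scheme.ΓSpecIso_inv_naturality (CommRingCat.ofHom φ)
  have h2 := congr(($h1) a)
  refine Eq.trans ?_ h2.symm
  exact ev_eq_app _ _ _

theorem flat_alg (s : Z ⟶ Spec (CommRingCat.of A)) [Flat s] {U : Z.Opens} (hU : IsAffineOpen U) :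
    (alg s U).Flat := by
  have h1 := s.flat_appLE (isAffineOpen_top _) hU (le_top : U ≤ s ⁻¹ᵁ ⊤)
  have h2 : (Scheme.ΓSpecIso (CommRingCat.of A)).inv.hom.Flat := by
    have : Function.Bijective (Scheme.ΓSpecIso (CommRingCat.of A)).inv.hom :=
      ConcreteCategory.bijective_of_isIso (Scheme.ΓSpecIso (CommRingCat.of A)).inv
    exact RingHom.Flat.of_bijective this
  exact h2.comp h1

/-- The kernel on sections of a closed immersion pulled back from `Spec B → Spec A`. -/
theorem ker_app_of_isPullback {φ : A →+* B} (hφ : Function.Surjective φ) {j : X ⟶ Z}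
    {g : X ⟶ Spec (CommRingCat.of B)} {s : Z ⟶ Spec (CommRingCat.of A)}
    (h : IsPullback j g s (Spec.map (CommRingCat.ofHom φ))) {U : Z.Opens} (hU : IsAffineOpen U) :
    RingHom.ker (j.app U).hom = (RingHom.ker φ).map (alg s U) := by
  have hi : IsClosedImmersion (Spec.map (CommRingCat.ofHom φ)) :=
    IsClosedImmersion.spec_of_surjective _ hφ
  have hj : IsClosedImmersion j := MorphismProperty.of_isPullback h.flip hi
  have h1 := Groth.Agent.Picfga.SecGraph.ker_eq_comap_of_isPullback h.flip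
  have h2 : (j.ker).ideal ⟨U, hU⟩ = RingHom.ker (j.app U).hom := Scheme.Hom.ker_apply _ _
  rw [← h2, h1, Groth.Agent.Divis.IdealComap.ideal_comap _ s ⟨⊤, isAffineOpen_top _⟩ ⟨U, hU⟩ le_top,
    K695.ClFib.ker_specMap_ideal, Ideal.map_map]
  rfl

/-- Kernel of the reduction map of a thickening pulled back from `Spec B → Spec A`. -/
theorem ker_π {φ : A →+* B} (hφ : Function.Surjective φ) {W : X.Opens} (T : Th W)
    {g : W.toScheme ⟶ Spec (CommRingCat.of B)} {s : T.X ⟶ Spec (CommRingCat.of A)}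
    (h : IsPullback T.j g s (Spec.map (CommRingCat.ofHom φ))) {V : X.Opens} (hV : IsAffineOpen V)
    (hVW : V ≤ W) : RingHom.ker (T.π hVW) = (RingHom.ker φ).map (alg s (T.im V)) := by
  rw [← ker_app_of_isPullback hφ h (K679.isAffineOpen_im T hV hVW)]
  ext r
  rw [RingHom.mem_ker, RingHom.mem_ker, T.π_apply, ev_eq]
  constructor
  · intro h1
    have h2 : T.j ⁻¹ᵁ T.im V ≤ W.ι ⁻¹ᵁ V := (K696.Base.preimage_im T.j _).le
    have h3 := (injective_iff_map_eq_zero _).1 (down_injective W hVW) _ h1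
    have h4 := congrArg (resO W.toScheme h2) h3
    rw [resO_resO, resO_self, map_zero] at h4
    exact h4
  · intro h1
    have h1' : T.j.app (T.im V) r = 0 := h1
    rw [h1', map_zero, map_zero]

end K726.Dobs
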