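import Groth.Agent.Lift.K696.LHom
import Groth.Agent.Lift.K696.Thk
import Groth.Prelude.Def_Coh
import Mathlib.CategoryTheory.Limits.Shapes.Biproducts

/-!
# The module `i_* (O^n)`

`Nm i` : `i_* O_X`; `On X n` : `O_X^n`; `Mn i n` : `i_* (O_X^n)`; `crd`, `mk` : sections as tuples;
`scl r : O ⟶ O`; `mat A : O^n ⟶ O^m`.
-/

set_option autoImplicit false
universe u

open CategoryTheory CategoryTheory.Limits AlgebraicGeometry Opposite TopologicalSpace
open Groth.Agent.Sga67.Sec
open K696.Base K696.Thk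

namespace K726.Dobs

attribute [local instance] CategoryTheory.Abelian.hasFiniteBiproducts

section free

variable (X : Scheme.{u})

/-- `O_X^n`. -/
noncomputable def On (n : ℕ) : X.Modules := ⨁ fun _ : Fin n => Coh.structureModule X

variable {X}

/-- The projections. -/
noncomputable def prO {n : ℕ} (l : Fin n) : On X n ⟶ Coh.structureModule X :=
  biproduct.π (fun _ : Fin n => Coh.structureModule X) l

/-- The inclusions. -/
noncomputable def innO {n : ℕ} (l : Fin n) : Coh.structureModule X ⟶ On X n :=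
  biproduct.ι (fun _ : Fin n => Coh.structureModule X) l

theorem innO_prO_self {n : ℕ} (l : Fin n) : innO (X := X) l ≫ prO l = 𝟙 _ :=
  biproduct.ι_π_self _ _

theorem innO_prO_ne {n : ℕ} {l l' : Fin n} (h : l ≠ l') : innO (X := X) l ≫ prO l' = 0 :=
  biproduct.ι_π_ne _ h

theorem sum_prO_innO (n : ℕ) : ∑ l : Fin n, prO (X := X) l ≫ innO l = 𝟙 (On X n) :=
  biproduct.total

theorem On_hom_ext {n : ℕ} {F : X.Modules} {f g : F ⟶ On X n} (h : ∀ l, f ≫ prO l = g ≫ prO l) :
    f = g := biproduct.hom_ext _ _ h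

/-- Multiplication by a global function. -/
noncomputable def scl (r : Γ(X, ⊤)) : Coh.structureModule X ⟶ Coh.structureModule X :=
  K696.LHom.LocHom.toHom
    { app := fun {W} _ => DistribSMul.toAddMonoidHom (Sec (Coh.structureModule X) W)
        (resO X (le_top : W ≤ ⊤) r)
      app_smul := fun {W} _ a s => smul_comm (resO X (le_top : W ≤ ⊤) r) a s
      app_res := fun {W W'} _ hW s => by
        change resO X (le_top : W' ≤ ⊤) r • res (Coh.structureModule X) hW s =
          res (Coh.structureModule X) hW (resO X (le_top : W ≤ ⊤) r • s)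
        rw [res_smul, resO_resO] }

theorem scl_app (r : Γ(X, ⊤)) (W : X.Opens) (s : Sec (Coh.structureModule X) W) :
    appS (scl r) W s = resO X (le_top : W ≤ ⊤) r • s := K696.LHom.LocHom.toHom_app _ _ _

/-- The map given by a matrix. -/
noncomputable def mat {n m : ℕ} (A : Fin n → Fin m → Γ(X, ⊤)) : On X n ⟶ On X m :=
  biproduct.lift fun l' => ∑ l, prO l ≫ scl (A l l')

theorem mat_prO {n m : ℕ} (A : Fin n → Fin m → Γ(X, ⊤)) (l' : Fin m) :
    mat A ≫ prO l' = ∑ l, prO l ≫ scl (A l l') := biproduct.lift_π _ _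

end free

variable {X Y : Scheme.{u}} (i : X ⟶ Y)

theorem pushforward_map_add {F G : X.Modules} (f g : F ⟶ G) :
    (Scheme.Modules.pushforward i).map (f + g) =
      (Scheme.Modules.pushforward i).map f + (Scheme.Modules.pushforward i).map g := by
  apply hom_ext
  intro U s
  rfl

theorem pushforward_map_zero (F G : X.Modules) :
    (Scheme.Modules.pushforward i).map (0 : F ⟶ G) = 0 := by
  apply hom_ext
  intro U s
  rfl

theorem pushforward_map_sum {F G : X.Modules} {ι : Type*} (s : Finset ι) (f : ι → (F ⟶ G)) :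
    (Scheme.Modules.pushforward i).map (∑ l ∈ s, f l) =
      ∑ l ∈ s, (Scheme.Modules.pushforward i).map (f l) := by
  classical
  induction s using Finset.induction_on with
  | empty => rw [Finset.sum_empty, Finset.sum_empty, pushforward_map_zero]
  | insert a s ha ih => rw [Finset.sum_insert ha, Finset.sum_insert ha, pushforward_map_add, ih]

/-- `i_* O_X`. -/
noncomputable def Nm : Y.Modules := (Scheme.Modules.pushforward i).obj (Coh.structureModule X)

/-- Sections of `i_* O_X`. -/
noncomputable def nSec (V : Y.Opens) : Sec (Nm i) V →+ Γ(X, i ⁻¹ᵁ V) :=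
  AddMonoidHom.mk' (fun s => s) fun _ _ => rfl

/-- Sections of `i_* O_X`. -/
noncomputable def secN (V : Y.Opens) : Γ(X, i ⁻¹ᵁ V) →+ Sec (Nm i) V :=
  AddMonoidHom.mk' (fun s => s) fun _ _ => rfl

@[simp] theorem nSec_secN (V : Y.Opens) (s : Γ(X, i ⁻¹ᵁ V)) : nSec i V (secN i V s) = s := rfl

@[simp] theorem secN_nSec (V : Y.Opens) (s : Sec (Nm i) V) : secN i V (nSec i V s) = s := rfl

theorem nSec_res {V V' : Y.Opens} (h : V' ≤ V) (s : Sec (Nm i) V) :
    nSec i V' (res (Nm i) h s) = resO X (i.preimage_mono h) (nSec i V s) := rfl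

theorem nSec_smul (V : Y.Opens) (a : Γ(Y, V)) (s : Sec (Nm i) V) :
    nSec i V (a • s) = i.app V a * nSec i V s := rfl

/-- `i_* (O_X^n)`. -/
noncomputable def Mn (n : ℕ) : Y.Modules := (Scheme.Modules.pushforward i).obj (On X n)

/-- The projections. -/
noncomputable def pr {n : ℕ} (l : Fin n) : Mn i n ⟶ Nm i :=
  (Scheme.Modules.pushforward i).map (prO l)

/-- The inclusions. -/
noncomputable def inn {n : ℕ} (l : Fin n) : Nm i ⟶ Mn i n :=
  (Scheme.Modules.pushforward i).map (innO l)

theorem inn_pr_self {n : ℕ} (l : Fin n) : inn i l ≫ pr i l = 𝟙 _ :=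
  ((Scheme.Modules.pushforward i).map_comp (innO l) (prO l)).symm.trans
    ((congrArg (fun z => (Scheme.Modules.pushforward i).map z) (innO_prO_self l)).trans
      ((Scheme.Modules.pushforward i).map_id _))

theorem inn_pr_ne {n : ℕ} {l l' : Fin n} (h : l ≠ l') : inn i l ≫ pr i l' = 0 :=
  ((Scheme.Modules.pushforward i).map_comp (innO l) (prO l')).symm.trans
    ((congrArg (fun z => (Scheme.Modules.pushforward i).map z) (innO_prO_ne h)).trans
      (pushforward_map_zero i _ _))

theorem sum_pr_inn (n : ℕ) : ∑ l : Fin n, pr i l ≫ inn i l = 𝟙 (Mn i n) := by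
  have h := congrArg (fun z => (Scheme.Modules.pushforward i).map z) (sum_prO_innO (X := X) n)
  have h1 : (Scheme.Modules.pushforward i).map (∑ l : Fin n, prO (X := X) l ≫ innO l) =
    ∑ l : Fin n, pr i l ≫ inn i l :=
    (pushforward_map_sum i _ _).trans (Finset.sum_congr rfl fun l _ => (Scheme.Modules.pushforward i).map_comp _ _)
  exact h1.symm.trans (h.trans ((Scheme.Modules.pushforward i).map_id _))

/-- The push-forward of multiplication by a global function. -/
noncomputable def nScl (r : Γ(X, ⊤)) : Nm i ⟶ Nm i := (Scheme.Modules.pushforward i).map (scl r)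

theorem nSec_nScl (r : Γ(X, ⊤)) (V : Y.Opens) (s : Sec (Nm i) V) :
    nSec i V (appS (nScl i r) V s) = resO X (le_top : i ⁻¹ᵁ V ≤ ⊤) r * nSec i V s :=
  scl_app r (i ⁻¹ᵁ V) s

/-- The push-forward of the map given by a matrix. -/
noncomputable def mMat {n m : ℕ} (A : Fin n → Fin m → Γ(X, ⊤)) : Mn i n ⟶ Mn i m :=
  (Scheme.Modules.pushforward i).map (mat A)

theorem mMat_pr {n m : ℕ} (A : Fin n → Fin m → Γ(X, ⊤)) (l' : Fin m) :
    mMat i A ≫ pr i l' = ∑ l, pr i l ≫ nScl i (A l l') := by
  have h := congrArg (fun z => (Scheme.Modules.pushforward i).map z) (mat_prO A l')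
  have h1 : (Scheme.Modules.pushforward i).map (∑ l, prO l ≫ scl (A l l')) =
    ∑ l, pr i l ≫ nScl i (A l l') :=
    (pushforward_map_sum i _ _).trans (Finset.sum_congr rfl fun l _ => (Scheme.Modules.pushforward i).map_comp _ _)
  exact ((Scheme.Modules.pushforward i).map_comp _ _).symm.trans (h.trans h1)

theorem appS_sum {Z : Scheme.{u}} {F G : Z.Modules} {ι : Type*} (s : Finset ι) (f : ι → (F ⟶ G))
    (U : Z.Opens) (t : Sec F U) : appS (∑ l ∈ s, f l) U t = ∑ l ∈ s, appS (f l) U t := by
  classical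
  induction s using Finset.induction_on with
  | empty => rw [Finset.sum_empty, Finset.sum_empty, appS_zero]
  | insert a s ha ih => rw [Finset.sum_insert ha, Finset.sum_insert ha, appS_add, ih]

/-- Coordinates of sections. -/
noncomputable def crd {n : ℕ} (V : Y.Opens) : Sec (Mn i n) V →+ (Fin n → Γ(X, i ⁻¹ᵁ V)) where
  toFun s l := nSec i V (appS (pr i l) V s)
  map_zero' := by
    funext l
    rw [map_zero, map_zero]
    rfl
  map_add' s t := by
    funext l
    rw [map_add, map_add]
    rfl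

theorem crd_apply {n : ℕ} (V : Y.Opens) (s : Sec (Mn i n) V) (l : Fin n) :
    crd i V s l = nSec i V (appS (pr i l) V s) := rfl

/-- Sections from coordinates. -/
noncomputable def mk {n : ℕ} (V : Y.Opens) (t : Fin n → Γ(X, i ⁻¹ᵁ V)) : Sec (Mn i n) V :=
  ∑ l, appS (inn i l) V (secN i V (t l))

theorem crd_mk {n : ℕ} (V : Y.Opens) (t : Fin n → Γ(X, i ⁻¹ᵁ V)) : crd i V (mk i V t) = t := by
  classical
  funext l
  rw [crd_apply, mk, map_sum (appS (pr i l) V)]
  have h1 : ∀ l' : Fin n, appS (pr i l) V (appS (inn i l') V (secN i V (t l'))) =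
      if l' = l then secN i V (t l) else 0 := by
    intro l'
    rw [← appS_comp]
    split_ifs with h
    · subst h
      rw [inn_pr_self, appS_id]
    · rw [inn_pr_ne i h, appS_zero]
  rw [Finset.sum_congr rfl fun l' _ => h1 l', Finset.sum_ite_eq' Finset.univ l, if_pos (Finset.mem_univ _),
    nSec_secN]

theorem mk_crd {n : ℕ} (V : Y.Opens) (s : Sec (Mn i n) V) : mk i V (crd i V s) = s := by
  have h1 : appS (∑ l : Fin n, pr i l ≫ inn i l) V s = s := by rw [sum_pr_inn, appS_id]
  rw [appS_sum] at h1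
  exact h1

theorem crd_injective {n : ℕ} (V : Y.Opens) : Function.Injective (crd i (n := n) V) := fun s t h => by
  rw [← mk_crd i V s, h, mk_crd]

theorem crd_smul {n : ℕ} (V : Y.Opens) (a : Γ(Y, V)) (s : Sec (Mn i n) V) (l : Fin n) :
    crd i V (a • s) l = i.app V a * crd i V s l := by
  rw [crd_apply, map_smul, nSec_smul]
  rfl

theorem crd_res {n : ℕ} {V V' : Y.Opens} (h : V' ≤ V) (s : Sec (Mn i n) V) (l : Fin n) :
    crd i V' (res (Mn i n) h s) l = resO X (i.preimage_mono h) (crd i V s l) := by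
  rw [crd_apply, appS_res, nSec_res]
  rfl

theorem crd_mMat {n m : ℕ} (A : Fin n → Fin m → Γ(X, ⊤)) (V : Y.Opens) (s : Sec (Mn i n) V)
    (l' : Fin m) :
    crd i V (appS (mMat i A) V s) l' =
      ∑ l, resO X (le_top : i ⁻¹ᵁ V ≤ ⊤) (A l l') * crd i V s l := by
  have h1 : appS (pr i l') V (appS (mMat i A) V s) =
      ∑ l, appS (nScl i (A l l')) V (appS (pr i l) V s) := by
    rw [← appS_comp, mMat_pr, appS_sum]
    rfl
  rw [crd_apply, h1, map_sum]
  exact Finset.sum_congr rfl fun l _ => nSec_nScl i _ _ _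

end K726.Dobs
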