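import Groth.Agent.ArtFun.K726.DobsBC

/-!
# Functoriality of the class of the gerbe of local lifts
-/

set_option autoImplicit false
universe u

open CategoryTheory CategoryTheory.Limits AlgebraicGeometry Opposite TopologicalSpace
open Groth.Agent.Sga67.Sec
open K696.Base K696.Thk K679
open ArtFun ArtFun.Art

namespace K726.Dobs

variable {k : Type u} [Field k] {X₀ : Scheme.{u}} {x : X₀ ⟶ specPt k} {A' B' A : Art k k}
  {p : A' ⟶ A} {g : A' ⟶ B'} {q : B' ⟶ A} {ξ : DefSch (Λ := k) X₀ x A}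

/-- Every open of the spectrum of an Artinian local ring is empty or everything. -/
theorem eq_bot_or_top (B : Art k k) (Z : (spec B).Opens) : Z = ⊥ ∨ Z = ⊤ := by
  by_cases h : ∃ y, y ∈ Z
  · right
    obtain ⟨y, hy⟩ := h
    have hs : Function.Surjective (specRes B) :=
      (K565.DefCat.isFiniteOrderThickening_specRes B).1.2.surj
    obtain ⟨y', rfl⟩ := hs y
    ext z
    obtain ⟨z', rfl⟩ := hs z
    have h1 : y' = z' := Subsingleton.elim (α := PrimeSpectrum k) _ _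
    rw [← h1]
    exact ⟨fun _ => trivial, fun _ => hy⟩
  · left
    ext z
    exact ⟨fun hz => (h ⟨z, hz⟩).elim, fun hz => hz.elim⟩

namespace LL

variable {hp : IsSemismallExt p} {W W' : ξ.total.Opens} (a : LL p ξ W) (a' : LL p ξ W')

/-- Compatibility with the structure maps on all opens follows from the one with `A'`. -/
theorem st_of_σ {V : ξ.total.Opens} (φ : Γ((a'.T hp).X, (a'.T hp).im V) →+* Γ((a.T hp).X, (a.T hp).im V))
    (hσ : ∀ r : A', φ (a'.σ V r) = a.σ V r) {Z : (spec A').Opens} (hZ : V ≤ p₀ p ξ ⁻¹ᵁ Z)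
    (c : Γ(spec A', Z)) : φ (ev (a'.sT hp) ((a'.T hp).le_of_le (a'.sT hp) (p₀ p ξ) (a'.T_w hp) hZ) c) =
      ev (a.sT hp) ((a.T hp).le_of_le (a.sT hp) (p₀ p ξ) (a.T_w hp) hZ) c := by
  rcases eq_bot_or_top A' Z with rfl | rfl
  · have h1 : (a.T hp).im V ≤ ⊥ := by
      intro y hy
      exact ((a.T hp).le_of_le (a.sT hp) (p₀ p ξ) (a.T_w hp) hZ hy).elim
    have h2 : Subsingleton Γ((a.T hp).X, (a.T hp).im V) := by
      have h3 : (a.T hp).im V = ⊥ := le_bot_iff.1 h1
      rw [h3]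
      infer_instance
    exact Subsingleton.elim _ _
  · obtain ⟨c', rfl⟩ : ∃ c' : A', (Scheme.ΓSpecIso (CommRingCat.of A')).inv c' = c :=
      ⟨(Scheme.ΓSpecIso (CommRingCat.of A')).hom c, by
        rw [← CommRingCat.comp_apply, Iso.hom_inv_id]
        rfl⟩
    exact hσ c'

end LL

namespace LLb

variable {W₁ W₂ W₃ : ξ.total.Opens} {a : LL p ξ W₁} {a' : LL q ξ W₁} {c : LL p ξ W₂} {c' : LL q ξ W₂}
  {d : LL p ξ W₃} {d' : LL q ξ W₃} (ma : LLb g a a') (mc : LLb g c c') (md : LLb g d d')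
  {hp : IsSemismallExt p} {hq : IsSemismallExt q}

variable {n n' : ℕ} {b : Module.Basis (Fin n) k ↥(RingHom.ker p.toAlgHom)}
  {b' : Module.Basis (Fin n') k ↥(RingHom.ker q.toAlgHom)} {M : Fin n → Fin n' → k}
  (hM : ∀ l, g (b l : A') = ∑ l', algebraMap k B' (M l l') * (b' l' : B'))
  (hg : Function.Surjective g)

theorem arr_σ {U : ξ.total.Opens} (f : TArr (a.ob (hp := hp) b) (c.ob (hp := hp) b) U)
    {V : ξ.total.Opens} (hV : Sm (p₀ p ξ) V) (hU : V ≤ U) (r : A') :
    f.app hV hU (c.σ (hp := hp) V r) = a.σ (hp := hp) V r :=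
  f.st_app hV hU (Z := ⊤) le_top ((Scheme.ΓSpecIso (CommRingCat.of A')).inv r)

include hg in
theorem exists_app {U : ξ.total.Opens} (f : TArr (a.ob (hp := hp) b) (c.ob (hp := hp) b) U)
    {V : ξ.total.Opens} (hV : Sm (p₀ p ξ) V) (hU : V ≤ U) :
    ∃ φ : Γ((c'.T hq).X, (c'.T hq).im V) →+* Γ((a'.T hq).X, (a'.T hq).im V),
      ∀ s, φ (mc.r hp hq V s) = ma.r hp hq V (f.app hV hU s) := by
  refine ⟨(mc.r hp hq V).liftOfSurjective (mc.r_surjective hg hV.1 (hU.trans f.le_r))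
    ⟨(ma.r hp hq V).comp (f.app hV hU), ?_⟩, fun s => ?_⟩
  · rw [mc.ker_r hg hV.1 (hU.trans f.le_r), Ideal.map_le_iff_le_comap]
    intro r hr
    rw [Ideal.mem_comap, RingHom.mem_ker, RingHom.comp_apply]
    have h1 := arr_σ f hV hU r
    refine (congrArg (ma.r hp hq V) h1).trans ?_
    rw [ma.r_σ]
    have h2 : g r = 0 := hr
    rw [h2, map_zero]
  · exact RingHom.liftOfSurjective_comp_apply _ _ _ _

/-- The reduced isomorphism on sections. -/
noncomputable def dapp {U : ξ.total.Opens} (f : TArr (a.ob (hp := hp) b) (c.ob (hp := hp) b) U)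
    {V : ξ.total.Opens} (hV : Sm (p₀ p ξ) V) (hU : V ≤ U) :
    Γ((c'.T hq).X, (c'.T hq).im V) →+* Γ((a'.T hq).X, (a'.T hq).im V) :=
  (exists_app ma mc (hq := hq) hg f hV hU).choose

theorem dapp_r {U : ξ.total.Opens} (f : TArr (a.ob (hp := hp) b) (c.ob (hp := hp) b) U)
    {V : ξ.total.Opens} (hV : Sm (p₀ p ξ) V) (hU : V ≤ U) (s : Γ((c.T hp).X, (c.T hp).im V)) :
    dapp ma mc (hq := hq) hg f hV hU (mc.r hp hq V s) = ma.r hp hq V (f.app hV hU s) :=
  (exists_app ma mc (hq := hq) hg f hV hU).choose_spec s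

/-- The reduced isomorphism. -/
noncomputable def darr {U : ξ.total.Opens} (f : TArr (a.ob (hp := hp) b) (c.ob (hp := hp) b) U) :
    TArr (a'.ob (hp := hq) b') (c'.ob (hp := hq) b') U where
  le_l := f.le_l
  le_r := f.le_r
  app hV hU := dapp ma mc hg f (sm_of_affine hV.1) hU
  res_app {V V'} hV hV' hU h' s := by
    obtain ⟨t, rfl⟩ := mc.r_surjective (hp := hp) (hq := hq) hg hV.1 (hU.trans f.le_r) s
    refine Eq.trans ?_ (congrArg (resO _ ((a'.T hq).im_mono h'))
      (dapp_r ma mc (hq := hq) hg f (sm_of_affine hV.1) hU t)).symm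
    refine (congrArg _ (mc.r_res (hp := hp) (hq := hq) h' t).symm).trans ?_
    refine (dapp_r ma mc (hq := hq) hg f (sm_of_affine hV'.1) (h'.trans hU) _).trans ?_
    refine (congrArg _ (f.res_app (sm_of_affine hV.1) (sm_of_affine hV'.1) hU h' t)).trans ?_
    exact ma.r_res (hp := hp) (hq := hq) h' _
  π_app {V} hV hU s := by
    obtain ⟨t, rfl⟩ := mc.r_surjective (hp := hp) (hq := hq) hg hV.1 (hU.trans f.le_r) s
    refine (congrArg _ (dapp_r ma mc (hq := hq) hg f (sm_of_affine hV.1) hU t)).trans ?_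
    refine (ma.π_r (hU.trans f.le_l) _).trans ?_
    refine (f.π_app (sm_of_affine hV.1) hU t).trans ?_
    exact (mc.π_r (hU.trans f.le_r) _).symm
  κ_app {V} hV hU z := by
    refine LL.κ_of_ringHom (hp := hq) a' c' b' hV.1 (hU.trans f.le_l) (hU.trans f.le_r)
      (dapp ma mc hg f (sm_of_affine hV.1) hU) (fun s => ?_) (fun r => ?_) z
    · obtain ⟨t, rfl⟩ := mc.r_surjective (hp := hp) (hq := hq) hg hV.1 (hU.trans f.le_r) s
      refine (congrArg _ (dapp_r ma mc (hq := hq) hg f (sm_of_affine hV.1) hU t)).trans ?_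
      refine (ma.π_r (hU.trans f.le_l) _).trans ?_
      refine (f.π_app (sm_of_affine hV.1) hU t).trans ?_
      exact (mc.π_r (hU.trans f.le_r) _).symm
    · obtain ⟨r, rfl⟩ := hg r
      rw [← mc.r_σ (hp := hp) (hq := hq) V r]
      refine (dapp_r ma mc (hq := hq) hg f (sm_of_affine hV.1) hU _).trans ?_
      refine (congrArg _ (arr_σ f (sm_of_affine hV.1) hU r)).trans ?_
      exact ma.r_σ V r
  st_app {V} hV hU {Z} hZ s := by
    refine LL.st_of_σ (hp := hq) a' c' (dapp ma mc hg f (sm_of_affine hV.1) hU) (fun r => ?_) hZ s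
    obtain ⟨r, rfl⟩ := hg r
    rw [← mc.r_σ (hp := hp) (hq := hq) V r]
    refine (dapp_r ma mc (hq := hq) hg f (sm_of_affine hV.1) hU _).trans ?_
    refine (congrArg _ (arr_σ f (sm_of_affine hV.1) hU r)).trans ?_
    exact ma.r_σ V r

theorem darr_app {U : ξ.total.Opens} (f : TArr (a.ob (hp := hp) b) (c.ob (hp := hp) b) U)
    {V : ξ.total.Opens} (hV : Sm (p₀ q ξ) V) (hU : V ≤ U) (s : Γ((c.T hp).X, (c.T hp).im V)) :
    (darr ma mc (b' := b') (hq := hq) hg f).app hV hU (mc.r hp hq V s) =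
      ma.r hp hq V (f.app (sm_of_affine hV.1) hU s) :=
  dapp_r ma mc (hq := hq) hg f _ _ _

theorem darr_comp {U : ξ.total.Opens} (f : TArr (a.ob (hp := hp) b) (c.ob (hp := hp) b) U)
    (f' : TArr (c.ob (hp := hp) b) (d.ob (hp := hp) b) U) :
    darr ma md (b' := b') (hq := hq) hg (f.comp f') =
      (darr ma mc (b' := b') (hq := hq) hg f).comp (darr mc md (b' := b') (hq := hq) hg f') := by
  apply TArr.ext'
  intro V hV hU s
  obtain ⟨t, rfl⟩ := md.r_surjective (hp := hp) (hq := hq) hg hV.1 (hU.trans f'.le_r) s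
  refine (darr_app ma md hg (f.comp f') hV hU t).trans ?_
  rw [TArr.comp_app]
  refine Eq.symm ((congrArg _ (darr_app mc md hg f' hV hU t)).trans ?_)
  exact darr_app ma mc hg f hV hU _

include hM in
theorem diff_darr {U : ξ.total.Opens} (f f' : TArr (a.ob (hp := hp) b) (c.ob (hp := hp) b) U)
    {V : ξ.total.Opens} (hV : Sm (p₀ q ξ) V) (hU : V ≤ U) (s : Γ(ξ.total, V)) :
    (TArr.diff (darr ma mc (b' := b') (hq := hq) hg f) (darr ma mc (b' := b') (hq := hq) hg f')).app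
      hV hU s = appS (mMat ξ.i (gM x M)) V ((TArr.diff f f').app (sm_of_affine hV.1) hU s) := by
  obtain ⟨t, rfl⟩ := K679.π_surjective (c.T hp) hV.1 (hU.trans f.le_r) s
  apply (a'.ob (hp := hq) b').κ_injective hV (hU.trans f.le_l)
  have h1 := TArr.κ_diff (darr ma mc (b' := b') (hq := hq) hg f) (darr ma mc (b' := b') (hq := hq) hg f')
    hV hU (mc.r hp hq V t)
  rw [darr_app, darr_app] at h1
  have h2 : (c'.ob (hp := hq) b').T.π (hU.trans f.le_r) (mc.r hp hq V t) =
      (c.T hp).π (hU.trans f.le_r) t := mc.π_r (hU.trans f.le_r) t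
  rw [h2] at h1
  refine h1.trans ?_
  have h3 := TArr.κ_diff f f' (sm_of_affine hV.1) hU t
  have h4 := congrArg (ma.r hp hq V) h3
  refine (h4.trans (map_sub (ma.r hp hq V) _ _)).symm.trans ?_
  exact ma.r_κ b b' M hM hV.1 (hU.trans f.le_l) _

end LLb

theorem bandG_map [QuasiSeparated x] (hp : Function.Surjective p) (hq : Function.Surjective q)
    {F F' : X₀.Modules} (f : F ⟶ F') (U : X₀.Opens) (z : (GG x F).obj.obj (op U)) {V : ξ.total.Opens}
    (hV : Sm (p₀ p ξ) V) (hV' : Sm (p₀ q ξ) V) (hU : V ≤ (eH ξ).opensCongr U) (s : Γ(ξ.total, V)) :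
    ((bandG ξ hq F').β U ((GGmap x f).hom.app (op U) z)).app hV' hU s =
      appS ((Scheme.Modules.pushforward ξ.i).map f) V (((bandG ξ hp F).β U z).app hV hU s) := rfl

section mor

variable [QuasiSeparated x] [Smooth x] {hp : IsSemismallExt p} {hq : IsSemismallExt q} {n n' : ℕ}
  {b : Module.Basis (Fin n) k ↥(RingHom.ker p.toAlgHom)}
  {b' : Module.Basis (Fin n') k ↥(RingHom.ker q.toAlgHom)} {M : Fin n → Fin n' → k}

/-- The morphism of gerbes given by base change. -/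
noncomputable def gmor (hM : ∀ l, g (b l : A') = ∑ l', algebraMap k B' (M l l') * (b' l' : B'))
    (hg : Function.Surjective g) {J : Type u} (F : J → LS p ξ) (L : ∀ j, LL q ξ (F j).W)
    (m : ∀ j, LLb g (F j).L (L j)) :
    GB.Mor (gerb hp b F) (gerb hq b' fun j => ⟨(F j).W, L j⟩) (GGmap x (mat (LLb.gM x M))) where
  m := id
  le_m _ := le_rfl
  F {i j U} f := LLb.darr (m i) (m j) hg f
  res_F {i j U V} h f := rfl
  F_comp {i j l U} f f' := LLb.darr_comp (m i) (m j) (m l) hg f f'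
  d_F {i j U} f f' := by
    apply ((bandG ξ hq.1 (On X₀ n')).β U).injective
    refine ((bandG ξ hq.1 (On X₀ n')).β U).apply_symm_apply _ |>.trans ?_
    apply SDer.ext'
    intro V hV hU s
    refine (LLb.diff_darr (m i) (m j) hM hg f f' hV hU s).trans ?_
    refine Eq.trans ?_ (bandG_map hp.1 hq.1 (mat (LLb.gM x M)) U _ (sm_of_affine hV.1) hV hU s).symm
    have h1 : (bandG ξ hp.1 (On X₀ n)).β U (((bandG ξ hp.1 (On X₀ n)).β U).symm (TArr.diff f f')) =
      TArr.diff f f' := AddEquiv.apply_symm_apply _ _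
    exact congrArg (fun D : SDer (p₀ p ξ) (Mn ξ.i n) ((eH ξ).opensCongr U) =>
      appS (mMat ξ.i (LLb.gM x M)) V (D.app (sm_of_affine hV.1) hU s)) h1.symm

theorem IsC.map_bc (hM : ∀ l, g (b l : A') = ∑ l', algebraMap k B' (M l l') * (b' l' : B'))
    (hg : Function.Surjective g) (hgq : g ≫ q = p) {J J' : Type u} {F : J → LS p ξ} {F' : J' → LS q ξ}
    {hF : ∀ y : ξ.total, ∃ j, y ∈ (F j).W} {hF' : ∀ y : ξ.total, ∃ j, y ∈ (F' j).W}
    {c : CohTop.H (GG x (On X₀ n)) 2} {c' : CohTop.H (GG x (On X₀ n')) 2}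
    (h : IsC hp b F hF c) (h' : IsC hq b' F' hF' c') :
    Sheaf.H.map (GGmap x (mat (LLb.gM x M))) 2 c = c' := by
  choose L m using fun j => exists_LLb hgq (F j).L
  obtain ⟨c'', hc''⟩ := exists_isC (hp := hq) (b := b') (F := fun j => ⟨(F j).W, L j⟩) (hF := hF)
  have h1 := GB.IsCls.map h hc'' (gmor hM hg F L fun j => (m j).some)
  rw [h1]
  exact hc''.unique h'

end mor

end K726.Dobs
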