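import Groth.Agent.ArtFun.K726.DobsMod
import Groth.Agent.ArtFun.K726.DobsAlg
import Groth.Agent.ArtFun.K726.DobsLoc
import Groth.Agent.SGA7.K565.DefGlue

/-!
# Local lifts of a deformation along a semismall extension, as thickenings

`p : A' ⟶ A` semismall, `ξ` a deformation of `X₀` over `A`.  `LL p ξ W`: a flat lift over `A'` of the open `W` of
`ξ.total`.  `LL.ob b a`: the thickening with kernel `(i_* O_{X₀})^n` given by a basis `b` of the kernel of `p`.
-/

set_option autoImplicit false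
universe u

open CategoryTheory CategoryTheory.Limits AlgebraicGeometry Opposite TopologicalSpace
open Groth.Agent.Sga67.Sec
open K696.Base K696.Thk
open ArtFun ArtFun.Art

namespace K726.Dobs

variable {k : Type u} [Field k] {X₀ : Scheme.{u}} {x : X₀ ⟶ specPt k} {A' A : Art k k} (p : A' ⟶ A)
  (ξ : DefSch (Λ := k) X₀ x A)

/-- The structure morphism of the deformation over the bigger base. -/
noncomputable def p₀ : ξ.total ⟶ spec A' := ξ.f ≫ specMap p

/-- A flat lift over `A'` of the open `W` of `ξ.total`. -/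
structure LL (W : ξ.total.Opens) where
  Z : Scheme.{u}
  j : W.toScheme ⟶ Z
  s : Z ⟶ spec A'
  flat : Flat s
  pb : IsPullback j (W.ι ≫ ξ.f) s (specMap p)

variable {p ξ}

theorem isClosedImmersion_i : IsClosedImmersion ξ.i := by
  have h1 : IsClosedImmersion (specRes A) :=
    IsClosedImmersion.spec_of_surjective _ A.res_surjective
  exact MorphismProperty.of_isPullback ξ.isPullback.flip h1

theorem ker_res (B : Art k k) : RingHom.ker B.res.toRingHom = IsLocalRing.maximalIdeal B := by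
  ext a
  rw [Art.mem_maximalIdeal_iff]
  rfl

theorem exists_sub_mem (B : Art k k) (a : B) :
    ∃ c : k, a - algebraMap k B c ∈ IsLocalRing.maximalIdeal B :=
  K565.ArtTools.exists_sub_mem (fun c => ⟨c, rfl⟩) B a

theorem map_maximalIdeal (hp : Function.Surjective p) :
    (IsLocalRing.maximalIdeal A').map p.toAlgHom.toRingHom = IsLocalRing.maximalIdeal A := by
  apply le_antisymm
  · rw [Ideal.map_le_iff_le_comap]
    intro a ha
    rw [Art.mem_maximalIdeal_iff] at ha
    rw [Ideal.mem_comap, Art.mem_maximalIdeal_iff]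
    exact (Art.res_app p a).trans ha
  · intro a ha
    obtain ⟨a, rfl⟩ := hp a
    rw [Art.mem_maximalIdeal_iff] at ha
    refine Ideal.mem_map_of_mem p.toAlgHom.toRingHom ?_
    rw [Art.mem_maximalIdeal_iff]
    exact (Art.res_app p a).symm.trans ha

namespace LL

variable (hp : IsSemismallExt p) {W : ξ.total.Opens} (a : LL p ξ W)

/-- The thickening. -/
noncomputable def T : Th W where
  X := a.Z
  j := a.j
  cl := MorphismProperty.of_isPullback a.pb.flip (K565.DefGlue.isThickening_specMap p hp.1).1.1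
  su := MorphismProperty.of_isPullback a.pb.flip (K565.DefGlue.isThickening_specMap p hp.1).1.2

theorem T_w : (a.T hp).j ≫ a.s = W.ι ≫ p₀ p ξ := by
  rw [p₀, ← Category.assoc]
  exact a.pb.w

variable {hp}

/-- The structure map on sections. -/
noncomputable def σ (V : ξ.total.Opens) : A' →+* Γ((a.T hp).X, (a.T hp).im V) :=
  alg (Z := (a.T hp).X) a.s ((a.T hp).im V)

theorem π_σ {V : ξ.total.Opens} (h : V ≤ W) (r : A') :
    (a.T hp).π h (a.σ (hp := hp) V r) = alg (p₀ p ξ) V r :=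
  (a.T hp).π_ev a.s (p₀ p ξ) (a.T_w hp) h (V := ⊤) le_top le_top
    ((Scheme.ΓSpecIso (CommRingCat.of A')).inv r)

theorem res_σ {V V' : ξ.total.Opens} (h : V' ≤ V) (r : A') :
    resO _ ((a.T hp).im_mono h) (a.σ (hp := hp) V r) = a.σ V' r := res_alg _ _ _

theorem flat_σ {V : ξ.total.Opens} (hV : IsAffineOpen V) (h : V ≤ W) : (a.σ (hp := hp) V).Flat := by
  have h1 : Flat (X := (a.T hp).X) a.s := a.flat
  exact flat_alg (Z := (a.T hp).X) a.s (K679.isAffineOpen_im (a.T hp) hV h)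

/-- The reduction to the closed fibre. -/
noncomputable def π₀ {V : ξ.total.Opens} (h : V ≤ W) :
    Γ((a.T hp).X, (a.T hp).im V) →+* Γ(X₀, ξ.i ⁻¹ᵁ V) :=
  (ξ.i.app V).hom.comp ((a.T hp).π h)

theorem π₀_apply {V : ξ.total.Opens} (h : V ≤ W) (r : Γ((a.T hp).X, (a.T hp).im V)) :
    a.π₀ h r = ξ.i.app V ((a.T hp).π h r) := rfl

theorem π₀_surjective {V : ξ.total.Opens} (hV : IsAffineOpen V) (h : V ≤ W) :
    Function.Surjective (a.π₀ (hp := hp) h) := by
  have := isClosedImmersion_i (ξ := ξ)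
  exact (ξ.i.app_surjective V hV).comp (K679.π_surjective (a.T hp) hV h)

theorem res_π₀ {V V' : ξ.total.Opens} (h : V ≤ W) (h' : V' ≤ V) (r : Γ((a.T hp).X, (a.T hp).im V)) :
    resO X₀ (ξ.i.preimage_mono h') (a.π₀ h r) =
      a.π₀ (h'.trans h) (resO _ ((a.T hp).im_mono h') r) := by
  rw [π₀_apply, π₀_apply, ← (a.T hp).resO_π h h']
  exact congr($(ξ.i.naturality (homOfLE h').op) ((a.T hp).π h r)).symm

theorem ker_π {V : ξ.total.Opens} (hV : IsAffineOpen V) (h : V ≤ W) :
    RingHom.ker ((a.T hp).π h) = (RingHom.ker p.toAlgHom).map (a.σ (hp := hp) V) :=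
  Dobs.ker_π (A := A') (B := A) (φ := p.toAlgHom.toRingHom) hp.1 (a.T hp) (g := W.ι ≫ ξ.f) (s := a.s)
    a.pb hV h

theorem ker_π₀ {V : ξ.total.Opens} (hV : IsAffineOpen V) (h : V ≤ W) :
    RingHom.ker (a.π₀ (hp := hp) h) = (IsLocalRing.maximalIdeal A').map (a.σ V) := by
  have h1 : RingHom.ker (ξ.i.app V).hom = (IsLocalRing.maximalIdeal A).map (alg ξ.f V) := by
    rw [ker_app_of_isPullback (A := A) (B := k) A.res_surjective ξ.isPullback hV, ker_res]
  have h2 : RingHom.ker (a.π₀ (hp := hp) h) =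
      (RingHom.ker (ξ.i.app V).hom).comap ((a.T hp).π h) := rfl
  have h3 : ((IsLocalRing.maximalIdeal A').map p.toAlgHom.toRingHom).map (alg ξ.f V) =
      ((IsLocalRing.maximalIdeal A').map (a.σ (hp := hp) V)).map ((a.T hp).π h) := by
    rw [Ideal.map_map, Ideal.map_map]
    congr 1
    ext r
    rw [RingHom.comp_apply, RingHom.comp_apply, a.π_σ h]
    exact (alg_specMap (A := A') (B := A) ξ.f p.toAlgHom.toRingHom V r).symm
  rw [h2, h1, ← map_maximalIdeal hp.1, h3,
    Ideal.comap_map_of_surjective _ (K679.π_surjective (a.T hp) hV h)]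
  have h4 : Ideal.comap ((a.T hp).π h) ⊥ = RingHom.ker ((a.T hp).π h) := rfl
  rw [h4, ker_π a hV h]
  exact sup_eq_left.2 (Ideal.map_mono (K565.ArtTools.ker_le_maximalIdeal p))

variable {n : ℕ} (b : Module.Basis (Fin n) k ↥(RingHom.ker p.toAlgHom))

/-- The kernel identification. -/
noncomputable def κ {V : ξ.total.Opens} (hV : IsAffineOpen V) (h : V ≤ W) :
    Sec (Mn ξ.i n) V →+ Γ((a.T hp).X, (a.T hp).im V) :=
  (DobsAlg.kap hp.2 b (a.π₀_surjective hV h) (a.ker_π₀ hV h)).comp (crd ξ.i V)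

theorem κ_eq {V : ξ.total.Opens} (hV : IsAffineOpen V) (h : V ≤ W) (m : Sec (Mn ξ.i n) V)
    {r : Fin n → Γ((a.T hp).X, (a.T hp).im V)} (hr : ∀ l, a.π₀ h (r l) = crd ξ.i V m l) :
    a.κ b hV h m = ∑ l, a.σ V (b l : A') * r l :=
  DobsAlg.kap_eq hp.2 b (a.π₀_surjective hV h) (a.ker_π₀ hV h) hr

theorem exists_r {V : ξ.total.Opens} (hV : IsAffineOpen V) (h : V ≤ W) (m : Sec (Mn ξ.i n) V) :
    ∃ r : Fin n → Γ((a.T hp).X, (a.T hp).im V), ∀ l, a.π₀ h (r l) = crd ξ.i V m l := by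
  choose r hr using fun l => a.π₀_surjective (hp := hp) hV h (crd ξ.i V m l)
  exact ⟨r, hr⟩

/-- The thickening with its kernel identified. -/
noncomputable def ob : K679.ThOb (p₀ p ξ) (Mn ξ.i n) W where
  T := a.T hp
  st := a.s
  w := a.T_w hp
  κ hV h := a.κ b hV.1 h
  res_κ {V V'} hV hV' h h' m := by
    obtain ⟨r, hr⟩ := a.exists_r (hp := hp) hV.1 h m
    rw [a.κ_eq b hV.1 h m hr, a.κ_eq b hV'.1 (h'.trans h) (res _ h' m)
      (r := fun l => resO _ ((a.T hp).im_mono h') (r l)) (fun l => by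
        rw [← a.res_π₀ h h', hr, crd_res]), map_sum]
    exact Finset.sum_congr rfl fun l _ => by rw [map_mul, a.res_σ h']
  inj {V} hV h m hm := by
    apply crd_injective ξ.i V
    rw [map_zero]
    apply DobsAlg.kap_injective (exists_sub_mem A') hp.2 b (a.π₀_surjective hV.1 h) (a.ker_π₀ hV.1 h)
      (a.flat_σ hV.1 h)
    rw [map_zero]
    exact hm
  π_κ {V} hV h m := by
    rw [← RingHom.mem_ker, a.ker_π hV.1 h]
    exact DobsAlg.kap_mem hp.2 b (a.π₀_surjective hV.1 h) (a.ker_π₀ hV.1 h) _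
  ex {V} hV h r hr := by
    rw [← RingHom.mem_ker, a.ker_π hV.1 h] at hr
    obtain ⟨t, ht⟩ := DobsAlg.exists_kap hp.2 b (a.π₀_surjective hV.1 h) (a.ker_π₀ hV.1 h) hr
    refine ⟨Dobs.mk ξ.i V t, ?_⟩
    rw [κ, AddMonoidHom.comp_apply, crd_mk, ht]
  smul {V} hV h r m := by
    have h1 : crd ξ.i V ((a.T hp).π h r • m) = fun l => a.π₀ h r * crd ξ.i V m l := by
      funext l
      rw [crd_smul, π₀_apply]
    rw [κ, AddMonoidHom.comp_apply, h1]
    exact DobsAlg.kap_smul hp.2 b (a.π₀_surjective hV.1 h) (a.ker_π₀ hV.1 h) r _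

end LL

end K726.Dobs
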