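import Mathlib.RingTheory.Artinian.Module
import Mathlib.RingTheory.Artinian.Ring

/-!
# The Fitting projection of an algebra endomorphism
-/

set_option autoImplicit false

namespace K726.Fit

section Module

variable {Λ M : Type*} [CommRing Λ] [AddCommGroup M] [Module Λ M]

/-- `y` is the stable part of `x` under `f`. -/
def P {M : Type*} (f : M → M) (x y : M) : Prop := (∀ j, ∃ z, f^[j] z = y) ∧ ∃ i, f^[i] x = f^[i] y

theorem P.map {M N : Type*} {f : M → M} {g : N → N} (t : M → N) (ht : ∀ x, t (f x) = g (t x)) {x y : M}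
    (h : P f x y) : P g (t x) (t y) := by
  have hit : ∀ j x, t (f^[j] x) = g^[j] (t x) := fun j x => (Function.Semiconj.iterate_right ht j).eq x
  refine ⟨fun j => ?_, ?_⟩
  · obtain ⟨z, hz⟩ := h.1 j
    exact ⟨t z, by rw [← hit, hz]⟩
  · obtain ⟨i, hi⟩ := h.2
    exact ⟨i, by rw [← hit, ← hit, hi]⟩

theorem P_of_iterate_eq {M : Type*} {f : M → M} {x y : M} (i : ℕ) (h : f^[i] x = f^[i] y) (j : ℕ) (hij : i ≤ j) :
    f^[j] x = f^[j] y := by
  obtain ⟨l, rfl⟩ := Nat.exists_eq_add_of_le' hij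
  rw [Function.iterate_add_apply, Function.iterate_add_apply, h]

variable [IsArtinian Λ M] [IsNoetherian Λ M]

theorem exists_P (f : M →ₗ[Λ] M) (x : M) : ∃ y, P f x y := by
  have h := LinearMap.isCompl_iSup_ker_pow_iInf_range_pow f
  have hx : x ∈ (⨆ n, LinearMap.ker (f ^ n)) ⊔ ⨅ n, LinearMap.range (f ^ n) := by
    rw [h.sup_eq_top]; trivial
  obtain ⟨a, ha, b, hb, rfl⟩ := Submodule.mem_sup.1 hx
  refine ⟨b, fun j => ?_, ?_⟩
  · obtain ⟨z, hz⟩ := (Submodule.mem_iInf _).1 hb j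
    exact ⟨z, by rw [← Module.End.pow_apply, hz]⟩
  · have hmono : Monotone fun n => LinearMap.ker (f ^ n) := by
      refine monotone_nat_of_le_succ fun n => ?_
      intro y hy
      rw [LinearMap.mem_ker] at hy ⊢
      rw [pow_succ', Module.End.mul_apply, hy, map_zero]
    obtain ⟨i, hi⟩ := (Submodule.mem_iSup_of_directed _ hmono.directed_le).1 ha
    refine ⟨i, ?_⟩
    rw [← Module.End.pow_apply, ← Module.End.pow_apply, map_add, LinearMap.mem_ker.1 hi, zero_add]

theorem P_unique (f : M →ₗ[Λ] M) {x y y' : M} (h : P f x y) (h' : P f x y') : y = y' := by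
  have hc := LinearMap.isCompl_iSup_ker_pow_iInf_range_pow f
  have h1 : y - y' ∈ (⨆ n, LinearMap.ker (f ^ n)) ⊓ ⨅ n, LinearMap.range (f ^ n) := by
    constructor
    · obtain ⟨i, hi⟩ := h.2
      obtain ⟨i', hi'⟩ := h'.2
      have e1 := P_of_iterate_eq i hi (max i i') (le_max_left _ _)
      have e2 := P_of_iterate_eq i' hi' (max i i') (le_max_right _ _)
      refine Submodule.mem_iSup_of_mem (max i i') ?_
      rw [LinearMap.mem_ker, map_sub, Module.End.pow_apply, Module.End.pow_apply, ← e1, ← e2, sub_self]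
    · refine (Submodule.mem_iInf _).2 fun j => ?_
      obtain ⟨z, hz⟩ := h.1 j
      obtain ⟨z', hz'⟩ := h'.1 j
      exact ⟨z - z', by rw [map_sub, Module.End.pow_apply, Module.End.pow_apply, hz, hz']⟩
  rw [hc.inf_eq_bot, Submodule.mem_bot] at h1
  exact sub_eq_zero.1 h1

/-- Powers of an endomorphism have stable image. -/
theorem exists_range_stable (f : M →ₗ[Λ] M) : ∃ j, ∀ x, P f (f^[j] x) (f^[j] x) := by
  obtain ⟨n, hn⟩ := IsArtinian.monotone_stabilizes f.iterateRange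
  refine ⟨n, fun x => ⟨fun j => ?_, 0, rfl⟩⟩
  have h1 : f^[n] x ∈ LinearMap.range (f ^ n) := ⟨x, by rw [Module.End.pow_apply]⟩
  rcases le_total n j with h | h
  · have h2 : LinearMap.range (f ^ n) = LinearMap.range (f ^ j) := hn j h
    rw [h2] at h1
    obtain ⟨z, hz⟩ := h1
    exact ⟨z, by rw [← Module.End.pow_apply, hz]⟩
  · obtain ⟨l, rfl⟩ := Nat.exists_eq_add_of_le h
    exact ⟨f^[l] x, by rw [← Function.iterate_add_apply]⟩

end Module

section Alg

variable {Λ A : Type*} [CommRing Λ] [CommRing A] [Algebra Λ A] [IsArtinian Λ A] [IsNoetherian Λ A]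

theorem exists_P_alg (φ : A →ₐ[Λ] A) (x : A) : ∃ y, P φ x y := exists_P φ.toLinearMap x

theorem P_unique_alg (φ : A →ₐ[Λ] A) {x y y' : A} (h : P φ x y) (h' : P φ x y') : y = y' :=
  P_unique φ.toLinearMap h h'

/-- The Fitting projection. -/
noncomputable def fitFun (φ : A →ₐ[Λ] A) (x : A) : A := (exists_P_alg φ x).choose

theorem fitFun_spec (φ : A →ₐ[Λ] A) (x : A) : P φ x (fitFun φ x) := (exists_P_alg φ x).choose_spec

theorem fitFun_eq (φ : A →ₐ[Λ] A) {x y : A} (h : P φ x y) : fitFun φ x = y := P_unique_alg φ (fitFun_spec φ x) h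

theorem P.op {A : Type*} {f : A → A} (op : A → A → A) (hop : ∀ a b, f (op a b) = op (f a) (f b)) {x y x' y' : A}
    (h : P f x y) (h' : P f x' y') : P f (op x x') (op y y') := by
  have hit : ∀ j a b, f^[j] (op a b) = op (f^[j] a) (f^[j] b) := by
    intro j
    induction j with
    | zero => intro a b; rfl
    | succ j ih => intro a b; rw [Function.iterate_succ_apply, hop, ih]; rfl
  refine ⟨fun j => ?_, ?_⟩
  · obtain ⟨z, hz⟩ := h.1 j
    obtain ⟨z', hz'⟩ := h'.1 j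
    exact ⟨op z z', by rw [hit, hz, hz']⟩
  · obtain ⟨i, hi⟩ := h.2
    obtain ⟨i', hi'⟩ := h'.2
    refine ⟨max i i', ?_⟩
    rw [hit, hit, P_of_iterate_eq i hi _ (le_max_left _ _), P_of_iterate_eq i' hi' _ (le_max_right _ _)]

/-- The Fitting projection of an algebra endomorphism. -/
noncomputable def fit (φ : A →ₐ[Λ] A) : A →ₐ[Λ] A where
  toFun := fitFun φ
  map_one' := fitFun_eq φ ⟨fun j => ⟨1, iterate_map_one φ j⟩, 0, rfl⟩
  map_zero' := fitFun_eq φ ⟨fun j => ⟨0, iterate_map_zero φ j⟩, 0, rfl⟩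
  map_add' x y := fitFun_eq φ ((fitFun_spec φ x).op (· + ·) (fun a b => map_add φ a b) (fitFun_spec φ y))
  map_mul' x y := fitFun_eq φ ((fitFun_spec φ x).op (· * ·) (fun a b => map_mul φ a b) (fitFun_spec φ y))
  commutes' l := fitFun_eq φ ⟨fun j => ⟨algebraMap Λ A l, Function.iterate_fixed (φ.commutes l) j⟩, 0, rfl⟩

theorem fit_spec (φ : A →ₐ[Λ] A) (x : A) : P φ x (fit φ x) := fitFun_spec φ x

theorem fit_eq (φ : A →ₐ[Λ] A) {x y : A} (h : P φ x y) : fit φ x = y := fitFun_eq φ h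

theorem fit_fit (φ : A →ₐ[Λ] A) (x : A) : fit φ (fit φ x) = fit φ x :=
  fit_eq φ ⟨(fit_spec φ x).1, 0, rfl⟩

theorem fit_map {B : Type*} [CommRing B] [Algebra Λ B] [IsArtinian Λ B] [IsNoetherian Λ B]
    (φ : A →ₐ[Λ] A) (ψ : B →ₐ[Λ] B) (t : A → B) (ht : ∀ x, t (φ x) = ψ (t x)) (x : A) :
    t (fit φ x) = fit ψ (t x) :=
  (fit_eq ψ ((fit_spec φ x).map t ht)).symm

/-- The kernel of the projection is the union of the kernels of the iterates. -/
theorem fit_eq_zero_iff (φ : A →ₐ[Λ] A) (x : A) : fit φ x = 0 ↔ ∃ i, φ^[i] x = 0 := by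
  constructor
  · intro h
    obtain ⟨i, hi⟩ := (fit_spec φ x).2
    exact ⟨i, by rw [hi, h, iterate_map_zero]⟩
  · rintro ⟨i, hi⟩
    exact fit_eq φ ⟨fun j => ⟨0, iterate_map_zero φ j⟩, i, by rw [hi, iterate_map_zero]⟩

theorem exists_fit_iterate (φ : A →ₐ[Λ] A) : ∃ j, ∀ x, fit φ (φ^[j] x) = φ^[j] x := by
  obtain ⟨j, hj⟩ := exists_range_stable φ.toLinearMap
  exact ⟨j, fun x => fit_eq φ (hj x)⟩

end Alg

end K726.Fit
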