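import Groth.Agent.Fga.TorsorClass

/-!
# The class of a gerbe in `H²`

`Gerbe J ι G X`: local objects indexed by `ι` (`dom U i`: the object `i` lives over `U`), with presheaves of
arrows `Arr i j` which are pseudo-torsors under an abelian presheaf `G`, locally non-empty, with an associative
bi-additive composition.  `IsCls2 hX 𝒢 c`: `c : Sheaf.H G 2` is the class of `𝒢`.
-/

set_option autoImplicit false

universe u

open CategoryTheory CategoryTheory.Limits Opposite Groth.Agent.Fga.Torsor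

namespace K726.Grb

variable {C : Type u} [SmallCategory C] {J : GrothendieckTopology C}

/-- Solving natural linear equations with values in an injective presheaf, from pointwise solutions. -/
theorem exists_of_pointwise {P Q G I : Cᵒᵖ ⥤ AddCommGrpCat.{u}} [Injective I] (rel : P ⟶ Q) (val : P ⟶ G)
    (ι : G ⟶ I) (hpt : ∀ U, ∃ ψ : Q.obj U ⟶ G.obj U, rel.app U ≫ ψ = val.app U) :
    ∃ h : Q ⟶ I, rel ≫ h = val ≫ ι := by
  let S : ShortComplex (Cᵒᵖ ⥤ AddCommGrpCat.{u}) :=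
    ShortComplex.mk (kernel.ι rel) rel (kernel.condition _)
  have hS : S.Exact := ShortComplex.exact_of_f_is_kernel _ (kernelIsKernel _)
  have h0 : kernel.ι rel ≫ val ≫ ι = 0 := by
    rw [← Category.assoc]
    have : kernel.ι rel ≫ val = 0 := by
      apply NatTrans.ext
      funext U
      obtain ⟨ψ, hψ⟩ := hpt U
      rw [NatTrans.comp_app, ← hψ, ← Category.assoc, ← NatTrans.comp_app, kernel.condition]
      simp
    rw [this, zero_comp]
  exact ⟨hS.descToInjective (val ≫ ι) h0, hS.comp_descToInjective _ _⟩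

/-- The same for free presheaves, elementwise. -/
theorem exists_of_pointwise_free {E B : Cᵒᵖ ⥤ Type u} {G I : Cᵒᵖ ⥤ AddCommGrpCat.{u}} [Injective I]
    (r : ∀ U : Cᵒᵖ, E.obj U → FreeAbelianGroup (B.obj U)) (v : ∀ U : Cᵒᵖ, E.obj U → G.obj U) (ι : G ⟶ I)
    (hr : ∀ {U V : Cᵒᵖ} (f : U ⟶ V) (e : E.obj U), FreeAbelianGroup.map (B.map f) (r U e) = r V (E.map f e))
    (hv : ∀ {U V : Cᵒᵖ} (f : U ⟶ V) (e : E.obj U), G.map f (v U e) = v V (E.map f e))
    (hpt : ∀ U : Cᵒᵖ, ∃ ψ : B.obj U → G.obj U, ∀ e, FreeAbelianGroup.lift ψ (r U e) = v U e) :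
    ∃ φ : ∀ U : Cᵒᵖ, B.obj U → I.obj U, (∀ {U V : Cᵒᵖ} (f : U ⟶ V) (b : B.obj U),
        I.map f (φ U b) = φ V (B.map f b)) ∧
      ∀ (U : Cᵒᵖ) (e : E.obj U), FreeAbelianGroup.lift (φ U) (r U e) = ι.app U (v U e) := by
  let rel : E ⋙ AddCommGrpCat.free ⟶ B ⋙ AddCommGrpCat.free :=
    { app := fun U => AddCommGrpCat.ofHom (FreeAbelianGroup.lift (r U))
      naturality := fun U V f => by
        apply AddCommGrpCat.hom_ext
        apply FreeAbelianGroup.lift_ext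
        intro (e : E.obj U)
        change FreeAbelianGroup.lift (r V) (FreeAbelianGroup.map (E.map f) (FreeAbelianGroup.of e)) =
          FreeAbelianGroup.map (B.map f) (FreeAbelianGroup.lift (r U) (FreeAbelianGroup.of e))
        rw [FreeAbelianGroup.map_of_apply, FreeAbelianGroup.lift_apply_of, FreeAbelianGroup.lift_apply_of, hr] }
  let val : E ⋙ AddCommGrpCat.free ⟶ G :=
    { app := fun U => AddCommGrpCat.ofHom (FreeAbelianGroup.lift (v U))
      naturality := fun U V f => by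
        apply AddCommGrpCat.hom_ext
        apply FreeAbelianGroup.lift_ext
        intro (e : E.obj U)
        change FreeAbelianGroup.lift (v V) (FreeAbelianGroup.map (E.map f) (FreeAbelianGroup.of e)) =
          G.map f (FreeAbelianGroup.lift (v U) (FreeAbelianGroup.of e))
        rw [FreeAbelianGroup.map_of_apply, FreeAbelianGroup.lift_apply_of, FreeAbelianGroup.lift_apply_of]
        exact (hv f e).symm }
  obtain ⟨h, hh⟩ := exists_of_pointwise rel val ι (fun U => by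
    obtain ⟨ψ, hψ⟩ := hpt U
    refine ⟨AddCommGrpCat.ofHom (FreeAbelianGroup.lift ψ), ?_⟩
    apply AddCommGrpCat.hom_ext
    apply FreeAbelianGroup.lift_ext
    intro (e : E.obj U)
    change FreeAbelianGroup.lift ψ (FreeAbelianGroup.lift (r U) (FreeAbelianGroup.of e)) =
      FreeAbelianGroup.lift (v U) (FreeAbelianGroup.of e)
    rw [FreeAbelianGroup.lift_apply_of, FreeAbelianGroup.lift_apply_of, hψ])
  refine ⟨fun U b => h.app U (FreeAbelianGroup.of b : (B ⋙ AddCommGrpCat.free).obj U), ?_, ?_⟩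
  · intro U V f b
    have := ConcreteCategory.congr_hom (h.naturality f) (FreeAbelianGroup.of b)
    change h.app V (FreeAbelianGroup.map (B.map f) (FreeAbelianGroup.of b)) =
      I.map f (h.app U (FreeAbelianGroup.of b)) at this
    rw [FreeAbelianGroup.map_of_apply] at this
    exact this.symm
  · intro U e
    have h1 := ConcreteCategory.congr_hom (congr_app hh U) (FreeAbelianGroup.of e)
    change h.app U (FreeAbelianGroup.lift (r U) (FreeAbelianGroup.of e)) =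
      ι.app U (FreeAbelianGroup.lift (v U) (FreeAbelianGroup.of e)) at h1
    rw [FreeAbelianGroup.lift_apply_of, FreeAbelianGroup.lift_apply_of] at h1
    rw [← h1]
    -- a homomorphism out of a free abelian group is the lift of its values
    have h2 : (h.app U).hom = FreeAbelianGroup.lift
        (fun b => h.app U (FreeAbelianGroup.of b : (B ⋙ AddCommGrpCat.free).obj U)) := by
      apply FreeAbelianGroup.lift_ext
      intro b
      rw [FreeAbelianGroup.lift_apply_of]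
      rfl
    exact (DFunLike.congr_fun h2 (r U e)).symm

theorem fmap_sub {α β : Type u} (f : α → β) (x y : α) :
    FreeAbelianGroup.map f (FreeAbelianGroup.of x - FreeAbelianGroup.of y) =
      FreeAbelianGroup.of (f x) - FreeAbelianGroup.of (f y) := by
  rw [map_sub, FreeAbelianGroup.map_of_apply, FreeAbelianGroup.map_of_apply]

theorem fmap_sub_add {α β : Type u} (f : α → β) (x y z : α) :
    FreeAbelianGroup.map f (FreeAbelianGroup.of x - (FreeAbelianGroup.of y + FreeAbelianGroup.of z)) =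
      FreeAbelianGroup.of (f x) - (FreeAbelianGroup.of (f y) + FreeAbelianGroup.of (f z)) := by
  rw [map_sub, map_add, FreeAbelianGroup.map_of_apply, FreeAbelianGroup.map_of_apply,
    FreeAbelianGroup.map_of_apply]

theorem flift_sub {α : Type u} {β : Type u} [AddCommGroup β] (f : α → β) (x y : α) :
    FreeAbelianGroup.lift f (FreeAbelianGroup.of x - FreeAbelianGroup.of y) = f x - f y := by
  rw [map_sub, FreeAbelianGroup.lift_apply_of, FreeAbelianGroup.lift_apply_of]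

theorem flift_sub_add {α : Type u} {β : Type u} [AddCommGroup β] (f : α → β) (x y z : α) :
    FreeAbelianGroup.lift f (FreeAbelianGroup.of x - (FreeAbelianGroup.of y + FreeAbelianGroup.of z)) =
      f x - (f y + f z) := by
  rw [map_sub, map_add, FreeAbelianGroup.lift_apply_of, FreeAbelianGroup.lift_apply_of,
    FreeAbelianGroup.lift_apply_of]

/-- Local objects with arrows banded by `G`. -/
structure Gerbe (J : GrothendieckTopology C) (ι : Type u) (G : Cᵒᵖ ⥤ AddCommGrpCat.{u}) (X : C) where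
  /-- `dom U i`: the local object `i` is defined over `U`. -/
  dom : C → ι → Prop
  dom_res : ∀ {U V : C} (_ : V ⟶ U) (i : ι), dom U i → dom V i
  /-- arrows -/
  Arr : ι → ι → Cᵒᵖ ⥤ Type u
  /-- differences of parallel arrows -/
  diff : ∀ i j, Diff (Arr i j) G
  /-- composition -/
  comp : ∀ {i j k : ι} {U : Cᵒᵖ}, (Arr i j).obj U → (Arr j k).obj U → (Arr i k).obj U
  map_comp : ∀ {i j k : ι} {U V : Cᵒᵖ} (f : U ⟶ V) (a : (Arr i j).obj U) (b : (Arr j k).obj U),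
    (Arr i k).map f (comp a b) = comp ((Arr i j).map f a) ((Arr j k).map f b)
  diff_comp : ∀ {i j k : ι} {U : Cᵒᵖ} (a a' : (Arr i j).obj U) (b b' : (Arr j k).obj U),
    (diff i k).d (comp a b) (comp a' b') = (diff i j).d a a' + (diff j k).d b b'
  assoc : ∀ {i j k l : ι} {U : Cᵒᵖ} (a : (Arr i j).obj U) (b : (Arr j k).obj U) (c : (Arr k l).obj U),
    comp (comp a b) c = comp a (comp b c)
  symm : ∀ {i j : ι} {U : Cᵒᵖ}, (Arr i j).obj U → Nonempty ((Arr j i).obj U)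
  /-- any two local objects are locally isomorphic -/
  loc : ∀ (U : C) (i j : ι), dom U i → dom U j → LocNonempty J (Arr i j) U
  /-- there are local objects -/
  dom_loc : ∃ S : Sieve X, S ∈ J X ∧ ∀ (V : C) (f : V ⟶ X), S f → ∃ i, dom V i

namespace Gerbe

variable {ι : Type u} {G G' : Cᵒᵖ ⥤ AddCommGrpCat.{u}} {X : C} (𝒢 : Gerbe J ι G X)

/-- The presheaf of objects. -/
def T : Cᵒᵖ ⥤ Type u where
  obj U := {i : ι // 𝒢.dom U.unop i}
  map f := TypeCat.ofHom fun i => ⟨i.1, 𝒢.dom_res f.unop i.1 i.2⟩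

theorem locNonempty_T : LocNonempty J 𝒢.T X := by
  obtain ⟨S, hS, h⟩ := 𝒢.dom_loc
  exact ⟨S, hS, fun V f hf => ⟨⟨(h V f hf).choose, (h V f hf).choose_spec⟩⟩⟩

/-- Potentials of a gerbe along `i : G ⟶ I`. -/
structure Pot {I : Cᵒᵖ ⥤ AddCommGrpCat.{u}} (ν : G ⟶ I) where
  φ : ∀ {i j : ι} {U : Cᵒᵖ}, (𝒢.Arr i j).obj U → I.obj U
  map_φ : ∀ {i j : ι} {U V : Cᵒᵖ} (f : U ⟶ V) (a : (𝒢.Arr i j).obj U), I.map f (φ a) = φ ((𝒢.Arr i j).map f a)
  sub_φ : ∀ {i j : ι} {U : Cᵒᵖ} (a b : (𝒢.Arr i j).obj U), φ a - φ b = ν.app U ((𝒢.diff i j).d a b)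
  add_φ : ∀ {i j k : ι} {U : Cᵒᵖ} (a : (𝒢.Arr i j).obj U) (b : (𝒢.Arr j k).obj U),
    φ (𝒢.comp a b) = φ a + φ b

/-- Pointwise potentials. -/
theorem exists_pointwise (U : Cᵒᵖ) : ∃ ψ : (Σ p : ι × ι, (𝒢.Arr p.1 p.2).obj U) → G.obj U,
    (∀ (i j : ι) (a b : (𝒢.Arr i j).obj U), ψ ⟨(i, j), a⟩ - ψ ⟨(i, j), b⟩ = (𝒢.diff i j).d a b) ∧
    ∀ (i j k : ι) (a : (𝒢.Arr i j).obj U) (b : (𝒢.Arr j k).obj U),
      ψ ⟨(i, k), 𝒢.comp a b⟩ = ψ ⟨(i, j), a⟩ + ψ ⟨(j, k), b⟩ := by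
  classical
  let R : Setoid ι :=
    { r := fun i j => i = j ∨ Nonempty ((𝒢.Arr i j).obj U)
      iseqv :=
        { refl := fun i => Or.inl rfl
          symm := by
            rintro i j (rfl | ⟨⟨a⟩⟩)
            · exact Or.inl rfl
            · exact Or.inr (𝒢.symm a)
          trans := by
            rintro i j l (rfl | ⟨⟨a⟩⟩) (rfl | ⟨⟨b⟩⟩)
            · exact Or.inl rfl
            · exact Or.inr ⟨b⟩
            · exact Or.inr ⟨a⟩
            · exact Or.inr ⟨𝒢.comp a b⟩ } }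
  let base : ι → ι := fun i => (Quotient.mk R i).out
  have hbase : ∀ i, R.r (base i) i := fun i => Quotient.exact (Quotient.out_eq (Quotient.mk R i))
  have hbase_eq : ∀ {i j : ι}, (𝒢.Arr i j).obj U → base i = base j := by
    intro i j a
    have : Quotient.mk R i = Quotient.mk R j := Quotient.sound (Or.inr ⟨a⟩)
    change (Quotient.mk R i).out = (Quotient.mk R j).out
    rw [this]
  have hself : ∀ {i j : ι}, (𝒢.Arr i j).obj U → Nonempty ((𝒢.Arr i i).obj U) := by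
    intro i j a
    obtain ⟨b⟩ := 𝒢.symm a
    exact ⟨𝒢.comp a b⟩
  -- arrows from the base points
  have hstart : ∀ i, Nonempty ((𝒢.Arr i i).obj U) → Nonempty ((𝒢.Arr (base i) i).obj U) := by
    intro i hi
    rcases hbase i with h | h
    · rw [h]; exact hi
    · exact h
  let st : ∀ i, Nonempty ((𝒢.Arr i i).obj U) → (𝒢.Arr (base i) i).obj U := fun i hi => (hstart i hi).some
  have hend : ∀ {i j : ι}, (𝒢.Arr i j).obj U → Nonempty ((𝒢.Arr j j).obj U) := by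
    intro i j a
    obtain ⟨b⟩ := 𝒢.symm a
    exact hself b
  -- transport of arrows along an equality of sources
  let tr : ∀ {i i' j : ι}, i = i' → (𝒢.Arr i j).obj U → (𝒢.Arr i' j).obj U := fun h a => h ▸ a
  have htr_comp : ∀ {i i' j l : ι} (h : i = i') (a : (𝒢.Arr i j).obj U) (b : (𝒢.Arr j l).obj U),
      tr h (𝒢.comp a b) = 𝒢.comp (tr h a) b := by
    intro i i' j l h a b
    subst h
    rfl
  have htr_d : ∀ {i i' j : ι} (h : i = i') (a b : (𝒢.Arr i j).obj U),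
      (𝒢.diff i' j).d (tr h a) (tr h b) = (𝒢.diff i j).d a b := by
    intro i i' j h a b
    subst h
    rfl
  have htr_tr : ∀ {i i' i'' j : ι} (h : i = i') (h' : i' = i'') (a : (𝒢.Arr i j).obj U),
      tr h' (tr h a) = tr (h.trans h') a := by
    intro i i' i'' j h h' a
    subst h h'
    rfl
  let ψ : (Σ p : ι × ι, (𝒢.Arr p.1 p.2).obj U) → G.obj U := fun x =>
    (𝒢.diff (base x.1.2) x.1.2).d (tr (hbase_eq x.2) (𝒢.comp (st x.1.1 (hself x.2)) x.2)) (st x.1.2 (hend x.2))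
  refine ⟨ψ, fun i j a b => ?_, fun i j l a b => ?_⟩
  · change (𝒢.diff (base j) j).d (tr (hbase_eq a) (𝒢.comp (st i (hself a)) a)) (st j (hend a)) -
      (𝒢.diff (base j) j).d (tr (hbase_eq b) (𝒢.comp (st i (hself b)) b)) (st j (hend b)) = _
    rw [sub_eq_iff_eq_add, ← (𝒢.diff (base j) j).d_add _ (tr (hbase_eq a) (𝒢.comp (st i (hself a)) b)) _]
    congr 1
    rw [htr_d, 𝒢.diff_comp, (𝒢.diff _ _).d_self, zero_add]
  · change (𝒢.diff (base l) l).d (tr (hbase_eq (𝒢.comp a b)) (𝒢.comp (st i (hself (𝒢.comp a b))) (𝒢.comp a b)))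
        (st l (hend (𝒢.comp a b))) =
      (𝒢.diff (base j) j).d (tr (hbase_eq a) (𝒢.comp (st i (hself a)) a)) (st j (hend a)) +
      (𝒢.diff (base l) l).d (tr (hbase_eq b) (𝒢.comp (st j (hself b)) b)) (st l (hend b))
    rw [← (𝒢.diff (base l) l).d_add _ (tr (hbase_eq b) (𝒢.comp (st j (hself b)) b)) _]
    congr 1
    rw [← 𝒢.assoc, ← htr_tr (hbase_eq a) (hbase_eq b), htr_d, htr_comp, 𝒢.diff_comp, (𝒢.diff _ _).d_self, add_zero]

/-- The presheaf of all arrows. -/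
def arrTot : Cᵒᵖ ⥤ Type u where
  obj U := Σ p : ι × ι, (𝒢.Arr p.1 p.2).obj U
  map f := TypeCat.ofHom fun x => ⟨x.1, (𝒢.Arr x.1.1 x.1.2).map f x.2⟩
  map_id := fun U => by ext ⟨p, a⟩ <;> simp
  map_comp := fun f g => by ext ⟨p, a⟩ <;> simp

/-- The presheaf of pairs of parallel or composable arrows. -/
def relTot : Cᵒᵖ ⥤ Type u where
  obj U := (Σ p : ι × ι, (𝒢.Arr p.1 p.2).obj U × (𝒢.Arr p.1 p.2).obj U) ⊕
        (Σ p : ι × ι × ι, (𝒢.Arr p.1 p.2.1).obj U × (𝒢.Arr p.2.1 p.2.2).obj U)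
  map f := TypeCat.ofHom (Sum.map
        (fun x => ⟨x.1, (𝒢.Arr x.1.1 x.1.2).map f x.2.1, (𝒢.Arr x.1.1 x.1.2).map f x.2.2⟩)
        (fun x => ⟨x.1, (𝒢.Arr x.1.1 x.1.2.1).map f x.2.1, (𝒢.Arr x.1.2.1 x.1.2.2).map f x.2.2⟩))
  map_id := fun U => by
    ext (⟨p, a, b⟩ | ⟨p, a, b⟩) <;> simp
  map_comp := fun f g => by
    ext (⟨p, a, b⟩ | ⟨p, a, b⟩) <;> simp

/-- The left-hand sides of the equations for a potential. -/
noncomputable def lhs (U : Cᵒᵖ) : 𝒢.relTot.obj U → FreeAbelianGroup (𝒢.arrTot.obj U) :=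
  Sum.elim
    (fun x => FreeAbelianGroup.of (⟨x.1, x.2.1⟩ : 𝒢.arrTot.obj U) -
      FreeAbelianGroup.of (⟨x.1, x.2.2⟩ : 𝒢.arrTot.obj U))
    (fun x => FreeAbelianGroup.of (⟨(x.1.1, x.1.2.2), 𝒢.comp x.2.1 x.2.2⟩ : 𝒢.arrTot.obj U) -
        (FreeAbelianGroup.of (⟨(x.1.1, x.1.2.1), x.2.1⟩ : 𝒢.arrTot.obj U) +
          FreeAbelianGroup.of (⟨(x.1.2.1, x.1.2.2), x.2.2⟩ : 𝒢.arrTot.obj U)))

/-- The right-hand sides of the equations for a potential. -/
def rhs (U : Cᵒᵖ) : 𝒢.relTot.obj U → G.obj U :=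
  Sum.elim (fun x => (𝒢.diff x.1.1 x.1.2).d x.2.1 x.2.2) (fun _ => 0)

theorem lhs_map {U V : Cᵒᵖ} (f : U ⟶ V) (e : 𝒢.relTot.obj U) :
    FreeAbelianGroup.map (𝒢.arrTot.map f) (𝒢.lhs U e) = 𝒢.lhs V (𝒢.relTot.map f e) := by
  rcases e with (⟨p, a, b⟩ | ⟨p, a, b⟩)
  · exact fmap_sub (α := 𝒢.arrTot.obj U) (β := 𝒢.arrTot.obj V) _ _ _
  · refine (fmap_sub_add (α := 𝒢.arrTot.obj U) (β := 𝒢.arrTot.obj V) _ _ _ _).trans ?_
    have h1 : 𝒢.arrTot.map f ⟨(p.1, p.2.2), 𝒢.comp a b⟩ =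
        (⟨(p.1, p.2.2), 𝒢.comp ((𝒢.Arr p.1 p.2.1).map f a) ((𝒢.Arr p.2.1 p.2.2).map f b)⟩ : 𝒢.arrTot.obj V) :=
      congrArg (fun t => (⟨(p.1, p.2.2), t⟩ : 𝒢.arrTot.obj V)) (𝒢.map_comp f a b)
    exact congrArg (fun t => FreeAbelianGroup.of t - _) h1

theorem rhs_map {U V : Cᵒᵖ} (f : U ⟶ V) (e : 𝒢.relTot.obj U) :
    G.map f (𝒢.rhs U e) = 𝒢.rhs V (𝒢.relTot.map f e) := by
  rcases e with (⟨p, a, b⟩ | ⟨p, a, b⟩)
  · exact (𝒢.diff p.1 p.2).map_d f a b
  · exact map_zero (G.map f).hom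

theorem lhs_rhs_pointwise (U : Cᵒᵖ) :
    ∃ ψ : 𝒢.arrTot.obj U → G.obj U, ∀ e, FreeAbelianGroup.lift ψ (𝒢.lhs U e) = 𝒢.rhs U e := by
  obtain ⟨ψ, h1, h2⟩ := 𝒢.exists_pointwise U
  refine ⟨ψ, ?_⟩
  rintro (⟨⟨i, j⟩, a, b⟩ | ⟨⟨i, j, l⟩, a, b⟩)
  · exact (flift_sub (α := 𝒢.arrTot.obj U) ψ _ _).trans (h1 i j a b)
  · exact (flift_sub_add (α := 𝒢.arrTot.obj U) ψ _ _ _).trans (sub_eq_zero.2 (h2 i j l a b))

/-- Potentials with values in an injective presheaf exist. -/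
theorem exists_pot {I : Cᵒᵖ ⥤ AddCommGrpCat.{u}} [Injective I] (ν : G ⟶ I) : Nonempty (𝒢.Pot ν) := by
  obtain ⟨φ, hφ, hφ'⟩ := exists_of_pointwise_free 𝒢.lhs 𝒢.rhs ν 𝒢.lhs_map 𝒢.rhs_map 𝒢.lhs_rhs_pointwise
  refine ⟨{ φ := fun {i j U} a => φ U ⟨(i, j), a⟩, map_φ := ?_, sub_φ := ?_, add_φ := ?_ }⟩
  · intro i j U V f a
    exact hφ f ⟨(i, j), a⟩
  · intro i j U a b
    exact (flift_sub (α := 𝒢.arrTot.obj U) (φ U) _ _).symm.trans (hφ' U (Sum.inl ⟨(i, j), a, b⟩))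
  · intro i j l U a b
    exact sub_eq_zero.1 ((flift_sub_add (α := 𝒢.arrTot.obj U) (φ U) _ _ _).symm.trans
      ((hφ' U (Sum.inr ⟨(i, j, l), a, b⟩)).trans (map_zero (ν.app U).hom)))

end Gerbe

end K726.Grb
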