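import Groth.Agent.ArtFun.K726.Gerbe

/-!
# The class of a gerbe in `H²`: existence, uniqueness, functoriality, trivialisations
-/

set_option autoImplicit false
set_option linter.unusedSectionVars false

universe u

open CategoryTheory CategoryTheory.Limits Opposite Groth.Agent.Fga.Torsor

namespace K726.Grb

variable {C : Type u} [SmallCategory C] {J : GrothendieckTopology C}

namespace Gerbe

variable {ι ι' : Type u} {X : C}

section Diff

variable {G : Cᵒᵖ ⥤ AddCommGrpCat.{u}} (𝒢 : Gerbe J ι G X) [J.HasSheafCompose (forget AddCommGrpCat.{u})]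

/-- `D` is the difference operation on local objects induced by the function `s` on arrows. -/
def Compat {F : Cᵒᵖ ⥤ AddCommGrpCat.{u}} (s : ∀ {i j : ι} {U : Cᵒᵖ}, (𝒢.Arr i j).obj U → F.obj U)
    (D : Diff 𝒢.T F) : Prop :=
  ∀ {i j : ι} {U : Cᵒᵖ} (hi : 𝒢.dom U.unop i) (hj : 𝒢.dom U.unop j) (a : (𝒢.Arr i j).obj U),
    s a = D.d (U := U) ⟨i, hi⟩ ⟨j, hj⟩

/-- A function on arrows which is constant on parallel arrows and additive defines a difference operation. -/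
theorem exists_diff (F : Sheaf J AddCommGrpCat.{u})
    (s : ∀ {i j : ι} {U : Cᵒᵖ}, (𝒢.Arr i j).obj U → F.obj.obj U)
    (hs : ∀ {i j : ι} {U : Cᵒᵖ} (a b : (𝒢.Arr i j).obj U), s a = s b)
    (map_s : ∀ {i j : ι} {U V : Cᵒᵖ} (f : U ⟶ V) (a : (𝒢.Arr i j).obj U),
      F.obj.map f (s a) = s ((𝒢.Arr i j).map f a))
    (s_comp : ∀ {i j l : ι} {U : Cᵒᵖ} (a : (𝒢.Arr i j).obj U) (b : (𝒢.Arr j l).obj U),
      s (𝒢.comp a b) = s a + s b) :
    ∃ D : Diff 𝒢.T F.obj, 𝒢.Compat (F := F.obj) s D := by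
  have key : ∀ (U : Cᵒᵖ) (x y : 𝒢.T.obj U), ∃ q : F.obj.obj U, ∀ (V : C) (f : V ⟶ U.unop)
      (t : (𝒢.Arr x.1 y.1).obj (op V)), F.obj.map f.op q = s t := by
    intro U x y
    exact exists_global (X := U.unop) F (𝒢.loc U.unop x.1 y.1 x.2 y.2) (fun {U} t => s t)
      (fun {U} a b => hs a b) (fun {U V} f a => map_s f a)
  choose q hq using key
  refine ⟨{ d := fun {U} x y => q U x y, d_add := ?_, map_d := ?_ }, ?_⟩
  · intro U x y z
    obtain ⟨S₁, hS₁, h₁⟩ := 𝒢.loc U.unop x.1 y.1 x.2 y.2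
    obtain ⟨S₂, hS₂, h₂⟩ := 𝒢.loc U.unop y.1 z.1 y.2 z.2
    apply eq_of_locally F (V := U.unop) _ _ (S₁ ⊓ S₂) (J.intersection_covering hS₁ hS₂)
    intro W f hf
    obtain ⟨a⟩ := h₁ W f hf.1
    obtain ⟨b⟩ := h₂ W f hf.2
    have e1 := hq U x y W f a
    have e2 := hq U y z W f b
    have e3 := hq U x z W f (𝒢.comp a b)
    rw [s_comp] at e3
    exact ((map_add (F.obj.map f.op).hom _ _).trans (congrArg₂ (· + ·) e1 e2)).trans e3.symm
  · intro U V g x y
    obtain ⟨S, hS, h⟩ := 𝒢.loc V.unop x.1 y.1 (𝒢.dom_res g.unop _ x.2) (𝒢.dom_res g.unop _ y.2)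
    apply eq_of_locally F (V := V.unop) _ _ S hS
    intro W f hf
    obtain ⟨a⟩ := h W f hf
    have e1 := hq U x y W (f ≫ g.unop) a
    have e2 := hq V (𝒢.T.map g x) (𝒢.T.map g y) W f a
    exact (map_map_apply F.obj g f.op _).trans (e1.trans e2.symm)
  · intro i j U hi hj a
    have := hq U ⟨i, hi⟩ ⟨j, hj⟩ U.unop (𝟙 _) a
    rw [op_id, F.obj.map_id] at this
    exact this.symm

theorem Compat.unique (F : Sheaf J AddCommGrpCat.{u})
    {s : ∀ {i j : ι} {U : Cᵒᵖ}, (𝒢.Arr i j).obj U → F.obj.obj U} {D D' : Diff 𝒢.T F.obj}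
    (h : 𝒢.Compat (F := F.obj) s D) (h' : 𝒢.Compat (F := F.obj) s D') {U : Cᵒᵖ} (x y : 𝒢.T.obj U) :
    D.d x y = D'.d x y := by
  obtain ⟨S, hS, hne⟩ := 𝒢.loc U.unop x.1 y.1 x.2 y.2
  apply eq_of_locally F (V := U.unop) _ _ S hS
  intro W f hf
  obtain ⟨a⟩ := hne W f hf
  have e1 := D.map_d (U := U) (V := op W) f.op x y
  have e2 := D'.map_d (U := U) (V := op W) f.op x y
  refine e1.trans (Eq.trans ?_ e2.symm)
  have h1 := h (𝒢.dom_res f _ x.2) (𝒢.dom_res f _ y.2) a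
  have h2 := h' (𝒢.dom_res f _ x.2) (𝒢.dom_res f _ y.2) a
  exact h1.symm.trans h2

end Diff

end Gerbe

section Cls

variable [HasSheafify J AddCommGrpCat.{u}] [HasExt.{u} (Sheaf J AddCommGrpCat.{u})] {X : C} (hX : IsTerminal X)

/-- The connecting map `H¹(Q) → H²(G)`. -/
noncomputable def del2 {S : ShortComplex (Sheaf J AddCommGrpCat.{u})} (hS : S.ShortExact)
    (c : Sheaf.H S.X₃ 1) : Sheaf.H S.X₁ 2 :=
  Abelian.Ext.comp (Y := S.X₃) (a := 1) (b := 1) (c := 2) c hS.extClass rfl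

section del2

variable {S S' : ShortComplex (Sheaf J AddCommGrpCat.{u})} (hS : S.ShortExact) (hS' : S'.ShortExact)

theorem del2_add (c c' : Sheaf.H S.X₃ 1) : del2 hS (c + c') = del2 hS c + del2 hS c' := by
  unfold del2
  exact Abelian.Ext.add_comp _ _ _ _

theorem del2_zero : del2 hS 0 = 0 := by
  have := del2_add hS 0 0
  rw [add_zero] at this
  simpa using this

theorem del2_sub (c c' : Sheaf.H S.X₃ 1) : del2 hS (c - c') = del2 hS c - del2 hS c' := by
  have := del2_add hS (c - c') c'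
  rw [sub_add_cancel] at this
  rw [this, add_sub_cancel_right]

theorem del2_natural (φ : S ⟶ S') (c : Sheaf.H S.X₃ 1) :
    Sheaf.H.map φ.τ₁ 2 (del2 hS c) = del2 hS' (Sheaf.H.map φ.τ₃ 1 c) := by
  have h1 := CategoryTheory.ShortComplex.ShortExact.extClass_naturality hS hS' φ
  unfold del2
  rw [Sheaf.H.map_apply, Sheaf.H.map_apply,
    Abelian.Ext.comp_assoc _ _ _ rfl (add_zero 1) (by rfl), h1,
    ← Abelian.Ext.comp_assoc _ _ _ (add_zero 1) (zero_add 1) (by rfl)]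

theorem del2_injective (h : Subsingleton (Sheaf.H S.X₂ 1)) : Function.Injective (del2 hS) := by
  intro c c' hcc
  have h0 : del2 hS (c - c') = 0 := by rw [del2_sub, hcc, sub_self]
  obtain ⟨x₂, hx₂⟩ := Abelian.Ext.covariant_sequence_exact₃
    ((constantSheaf J AddCommGrpCat.{u}).obj (AddCommGrpCat.of (ULift ℤ))) hS
    (c - c') (n₁ := 2) rfl h0
  have h2 : x₂ = 0 := Subsingleton.elim (α := Sheaf.H S.X₂ 1) _ _
  rw [h2] at hx₂
  rw [← sub_eq_zero, ← hx₂]
  simp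

end del2

end Cls

end K726.Grb
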