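import Groth.Agent.ArtFun.K726.GerbeClass

/-!
# The class of a gerbe in `H²`: existence, uniqueness, functoriality, trivialisations
-/

set_option autoImplicit false
set_option linter.unusedSectionVars false

universe u

open CategoryTheory CategoryTheory.Limits Opposite Groth.Agent.Fga.Torsor

namespace K726.Grb

variable {C : Type u} [SmallCategory C] {J : GrothendieckTopology C}

section Cls

variable [HasSheafify J AddCommGrpCat.{u}] [HasExt.{u} (Sheaf J AddCommGrpCat.{u})] {X : C} (hX : IsTerminal X)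
  {ι ι' : Type u}

/-- `c` is the class of the gerbe `𝒢`. -/
def IsCls2 {G : Sheaf J AddCommGrpCat.{u}} (𝒢 : Gerbe J ι G.obj X) (c : Sheaf.H G 2) : Prop :=
  ∃ (I Q : Sheaf J AddCommGrpCat.{u}) (ν : G ⟶ I) (p : I ⟶ Q) (w : ν ≫ p = 0)
    (hS : (ShortComplex.mk ν p w).ShortExact) (P : 𝒢.Pot ν.hom) (D : Diff 𝒢.T Q.obj) (c₁ : Sheaf.H Q 1),
    𝒢.Compat (F := Q.obj) (fun {_ _ U} a => p.hom.app U (P.φ a)) D ∧ IsCls hX D c₁ ∧ del2 hS c₁ = c

variable [J.HasSheafCompose (forget AddCommGrpCat.{u})]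

/-- From a potential along `ν` one gets the induced difference operation with values in the quotient. -/
theorem exists_diff_of_pot {G : Cᵒᵖ ⥤ AddCommGrpCat.{u}} (𝒢 : Gerbe J ι G X) {I Q : Sheaf J AddCommGrpCat.{u}}
    {ν : G ⟶ I.obj} (p : I ⟶ Q) (hp : ∀ (U : Cᵒᵖ) (x : G.obj U), p.hom.app U (ν.app U x) = 0) (P : 𝒢.Pot ν) :
    ∃ D : Diff 𝒢.T Q.obj, 𝒢.Compat (F := Q.obj) (fun {_ _ U} a => p.hom.app U (P.φ a)) D := by
  refine 𝒢.exists_diff Q (fun {_ _ U} a => p.hom.app U (P.φ a)) ?_ ?_ ?_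
  · intro i j U a b
    rw [← sub_eq_zero, ← map_sub, P.sub_φ]
    exact hp _ _
  · intro i j U V f a
    rw [← P.map_φ]
    exact (app_map_apply p f (P.φ a)).symm
  · intro i j l U a b
    rw [P.add_φ, map_add]

variable [EnoughInjectives (Sheaf J AddCommGrpCat.{u})]

/-- Existence of the class. -/
theorem exists_isCls2 {G : Sheaf J AddCommGrpCat.{u}} (𝒢 : Gerbe J ι G.obj X) : ∃ c, IsCls2 hX 𝒢 c := by
  obtain ⟨I, Q, ν, p, w, hS, hI⟩ := exists_ses G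
  have hI' : Injective I.obj :=
    Injective.injective_of_adjoint (sheafificationAdjunction J AddCommGrpCat.{u}) I
  obtain ⟨P⟩ := 𝒢.exists_pot ν.hom
  obtain ⟨D, hD⟩ := exists_diff_of_pot 𝒢 p (fun U x => app_eq_zero (S := ShortComplex.mk ν p w) x) P
  obtain ⟨c₁, hc₁⟩ := exists_isCls hX D 𝒢.locNonempty_T
  exact ⟨_, I, Q, ν, p, w, hS, P, D, c₁, hD, hc₁, rfl⟩

/-- Transport of the class to an injective resolution of the target of `φ : G ⟶ G'`. -/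
theorem IsCls2.to_injective {G G' : Sheaf J AddCommGrpCat.{u}} {𝒢 : Gerbe J ι G.obj X} {c : Sheaf.H G 2}
    (h : IsCls2 hX 𝒢 c) (φ : G ⟶ G') {I' Q' : Sheaf J AddCommGrpCat.{u}} (j : G' ⟶ I')
    (p' : I' ⟶ Q') (w' : j ≫ p' = 0) (hS' : (ShortComplex.mk j p' w').ShortExact) (hI' : Injective I') :
    ∃ (P : 𝒢.Pot (φ ≫ j).hom) (D : Diff 𝒢.T Q'.obj) (c₁ : Sheaf.H Q' 1),
      𝒢.Compat (F := Q'.obj) (fun {_ _ U} a => p'.hom.app U (P.φ a)) D ∧ IsCls hX D c₁ ∧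
        del2 hS' c₁ = Sheaf.H.map φ 2 c := by
  obtain ⟨I, Q, ν, p, w, hS, P, D, c₁, hD, hc₁, hc⟩ := h
  have hi : Mono ν := hS.mono_f
  have hp : Epi (ShortComplex.mk ν p w).g := hS.epi_g
  let ψ : I ⟶ I' := Injective.factorThru (φ ≫ j) ν
  have hψ : ν ≫ ψ = φ ≫ j := Injective.comp_factorThru _ _
  let χ : Q ⟶ Q' := hS.exact.desc (ψ ≫ p') (by
    change ν ≫ ψ ≫ p' = 0
    rw [← Category.assoc, hψ, Category.assoc, w', comp_zero])
  have hχ : p ≫ χ = ψ ≫ p' := hS.exact.g_desc _ _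
  let m : ShortComplex.mk ν p w ⟶ ShortComplex.mk j p' w' :=
    { τ₁ := φ, τ₂ := ψ, τ₃ := χ, comm₁₂ := hψ.symm, comm₂₃ := hχ.symm }
  refine ⟨{ φ := fun {_ _ U} a => ψ.hom.app U (P.φ a), map_φ := ?_, sub_φ := ?_, add_φ := ?_ },
    D.push χ.hom, Sheaf.H.map χ 1 c₁, ?_, hc₁.push hX χ, ?_⟩
  · intro i j U V f a
    rw [← app_map_apply ψ, P.map_φ]
  · intro i j U a b
    rw [← map_sub, P.sub_φ]
    change ψ.hom.app U (ν.hom.app U _) = _
    rw [← app_comp_apply, hψ]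
  · intro i j l U a b
    rw [P.add_φ, map_add]
  · intro i j U hi hj a
    change p'.hom.app _ (ψ.hom.app _ (P.φ a)) = χ.hom.app _ _
    rw [← app_comp_apply, ← hχ, app_comp_apply]
    exact congrArg (χ.hom.app U) (hD hi hj a)
  · rw [← hc]
    exact (del2_natural hS hS' m c₁).symm

/-- Two potentials on the same gerbe, with values in the same injective sheaf, give the same class. -/
theorem eq_of_pot {G : Cᵒᵖ ⥤ AddCommGrpCat.{u}} (𝒢 : Gerbe J ι G X) {I Q : Sheaf J AddCommGrpCat.{u}}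
    (hI : Injective I) {ν : G ⟶ I.obj} (p : I ⟶ Q) (P P' : 𝒢.Pot ν) {D D' : Diff 𝒢.T Q.obj}
    (hD : 𝒢.Compat (F := Q.obj) (fun {_ _ U} a => p.hom.app U (P.φ a)) D)
    (hD' : 𝒢.Compat (F := Q.obj) (fun {_ _ U} a => p.hom.app U (P'.φ a)) D') {c₁ c₁' : Sheaf.H Q 1}
    (hc : IsCls hX D c₁) (hc' : IsCls hX D' c₁') : c₁ = c₁' := by
  obtain ⟨E, hE⟩ := 𝒢.exists_diff I (fun {_ _ U} a => P.φ a - P'.φ a)
    (fun {i j U} a b => by
      have h1 := P.sub_φ a b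
      have h2 := P'.sub_φ a b
      have h3 := h1.trans h2.symm
      rw [sub_eq_sub_iff_add_eq_add] at h3 ⊢
      rw [h3, add_comm])
    (fun {i j U V} f a => by rw [map_sub, P.map_φ, P'.map_φ])
    (fun {i j l U} a b => by rw [P.add_φ, P'.add_φ, add_sub_add_comm])
  obtain ⟨e, he⟩ := exists_isCls hX E 𝒢.locNonempty_T
  have he0 : e = 0 := Subsingleton.elim (α := Sheaf.H I 1) _ _
  have h1 := (he.push hX p)
  rw [he0] at h1
  have h2 : Sheaf.H.map p 1 (0 : Sheaf.H I 1) = 0 := map_zero _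
  rw [h2] at h1
  have h3 := IsCls.add hX h1 hc'
  rw [zero_add] at h3
  have h4 : ∀ {U : Cᵒᵖ} (x y : 𝒢.T.obj U), D.d x y = ((E.push p.hom).add D').d x y := by
    intro U x y
    refine Gerbe.Compat.unique 𝒢 Q (s := fun {_ _ U} a => p.hom.app U (P.φ a)) hD ?_ x y
    intro i j U hi hj a
    change _ = p.hom.app U (E.d _ _) + D'.d _ _
    rw [← hE hi hj a, ← hD' hi hj a, map_sub, sub_add_cancel]
  have h5 : D = (E.push p.hom).add D' := by
    cases D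
    congr 1
    funext U a b
    exact h4 a b
  rw [← h5] at h3
  exact IsCls.unique hX 𝒢.locNonempty_T hc h3

/-- A morphism of gerbes over a morphism of bands. -/
structure GHom {G G' : Cᵒᵖ ⥤ AddCommGrpCat.{u}} (𝒢 : Gerbe J ι G X) (𝒢' : Gerbe J ι' G' X) (φ : G ⟶ G') where
  m : ι → ι'
  dom_m : ∀ (U : C) (i : ι), 𝒢.dom U i → 𝒢'.dom U (m i)
  F : ∀ {i j : ι} {U : Cᵒᵖ}, (𝒢.Arr i j).obj U → (𝒢'.Arr (m i) (m j)).obj U
  map_F : ∀ {i j : ι} {U V : Cᵒᵖ} (f : U ⟶ V) (a : (𝒢.Arr i j).obj U),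
    (𝒢'.Arr (m i) (m j)).map f (F a) = F ((𝒢.Arr i j).map f a)
  F_comp : ∀ {i j l : ι} {U : Cᵒᵖ} (a : (𝒢.Arr i j).obj U) (b : (𝒢.Arr j l).obj U),
    F (𝒢.comp a b) = 𝒢'.comp (F a) (F b)
  d_F : ∀ {i j : ι} {U : Cᵒᵖ} (a b : (𝒢.Arr i j).obj U),
    (𝒢'.diff (m i) (m j)).d (F a) (F b) = φ.app U ((𝒢.diff i j).d a b)

/-- Functoriality of the class. -/
theorem IsCls2.map {G G' : Sheaf J AddCommGrpCat.{u}} {𝒢 : Gerbe J ι G.obj X} {𝒢' : Gerbe J ι' G'.obj X}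
    {c : Sheaf.H G 2} {c' : Sheaf.H G' 2} (h : IsCls2 hX 𝒢 c) (h' : IsCls2 hX 𝒢' c') (φ : G ⟶ G')
    (Φ : GHom 𝒢 𝒢' φ.hom) : Sheaf.H.map φ 2 c = c' := by
  obtain ⟨I, Q, j, p, w, hS, hI⟩ := exists_ses G'
  obtain ⟨P, D, c₁, hD, hc₁, hc⟩ := h.to_injective hX φ j p w hS hI
  obtain ⟨P', D', c₁', hD', hc₁', hc'⟩ := h'.to_injective hX (𝟙 G') j p w hS hI
  rw [Sheaf.H.map_id_apply] at hc'
  let mT : 𝒢.T ⟶ 𝒢'.T :=
    { app := fun U => TypeCat.ofHom fun x => ⟨Φ.m x.1, Φ.dom_m _ _ x.2⟩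
      naturality := fun U V f => rfl }
  let P'' : 𝒢.Pot (φ ≫ j).hom :=
    { φ := fun {_ _ U} a => P'.φ (Φ.F a)
      map_φ := fun f a => by rw [P'.map_φ, Φ.map_F]
      sub_φ := fun {i i' U} a b => by
        rw [P'.sub_φ, Φ.d_F]
        rfl
      add_φ := fun a b => by rw [Φ.F_comp, P'.add_φ] }
  have hD'' : 𝒢.Compat (F := Q.obj) (fun {_ _ U} a => p.hom.app U (P''.φ a)) (D'.pull mT) := by
    intro i i' U hi hi' a
    exact hD' (Φ.dom_m _ _ hi) (Φ.dom_m _ _ hi') (Φ.F a)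
  have h1 : c₁ = c₁' := eq_of_pot hX 𝒢 hI p P P'' hD hD'' hc₁ (hc₁'.pull hX mT)
  rw [← hc, ← hc', h1]

/-- The identity morphism of gerbes. -/
def GHom.id {G : Cᵒᵖ ⥤ AddCommGrpCat.{u}} (𝒢 : Gerbe J ι G X) : GHom 𝒢 𝒢 (𝟙 G) where
  m := fun i => i
  dom_m _ _ h := h
  F a := a
  map_F _ _ := rfl
  F_comp _ _ := rfl
  d_F _ _ := rfl

/-- Uniqueness of the class. -/
theorem IsCls2.unique {G : Sheaf J AddCommGrpCat.{u}} {𝒢 : Gerbe J ι G.obj X} {c c' : Sheaf.H G 2}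
    (h : IsCls2 hX 𝒢 c) (h' : IsCls2 hX 𝒢 c') : c = c' := by
  have := h.map hX h' (𝟙 G) (GHom.id 𝒢)
  rwa [Sheaf.H.map_id_apply] at this

/-- A gerbe with a potential with values in its own band has class zero. -/
theorem isCls2_zero {G : Sheaf J AddCommGrpCat.{u}} {𝒢 : Gerbe J ι G.obj X} (P : 𝒢.Pot (𝟙 G.obj)) :
    IsCls2 hX 𝒢 0 := by
  obtain ⟨I, Q, ν, p, w, hS, hI⟩ := exists_ses G
  let P' : 𝒢.Pot ν.hom :=
    { φ := fun {_ _ U} a => ν.hom.app U (P.φ a)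
      map_φ := fun f a => by rw [← P.map_φ, app_map_apply]
      sub_φ := fun {i i' U} a b => by
        rw [← map_sub, P.sub_φ]
        rfl
      add_φ := fun a b => by rw [P.add_φ, map_add] }
  let D : Diff 𝒢.T Q.obj :=
    { d := fun _ _ => 0
      d_add := fun _ _ _ => add_zero _
      map_d := fun f _ _ => map_zero (Q.obj.map f).hom }
  refine ⟨I, Q, ν, p, w, hS, P', D, 0, ?_, ?_, del2_zero hS⟩
  · intro i j U hi hj a
    exact app_eq_zero (S := ShortComplex.mk ν p w) (P.φ a)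
  · exact isCls_zero hX
      { φ := fun _ => 0
        map_φ := fun f _ => map_zero (Q.obj.map f).hom
        sub_φ := fun _ _ => sub_zero _ }

end Cls

end K726.Grb
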