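import Mathlib.RingTheory.Extension.Cotangent.BaseChange
import Mathlib.RingTheory.Kaehler.JacobiZariski
import Mathlib.RingTheory.Etale.Field
import Mathlib.RingTheory.AdjoinRoot
import Mathlib.FieldTheory.PrimitiveElement
import Mathlib.LinearAlgebra.Dimension.Constructions
import Mathlib.RingTheory.Smooth.Basic
import Mathlib.RingTheory.Flat.FaithfullyFlat.Basic

/-!
# Base change of the first cotangent homology along a finite separable residue extension
-/

set_option autoImplicit false
set_option linter.unusedSectionVars false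
set_option linter.style.haveILetI false
universe u
open TensorProduct

namespace K726.H1Sep

section Functoriality

variable {R Q S T U : Type u} [CommRing R] [CommRing Q] [CommRing S] [CommRing T] [CommRing U]
  [Algebra R Q] [Algebra R S] [Algebra R T] [Algebra R U] [Algebra Q U] [Algebra S T] [Algebra S U] [Algebra T U]
  [IsScalarTower R Q U] [IsScalarTower R S T] [IsScalarTower R S U] [IsScalarTower R T U] [IsScalarTower S T U]

lemma map_map (x : Algebra.H1Cotangent R S) :
    Algebra.H1Cotangent.map R Q T U (Algebra.H1Cotangent.map R R S T x) = Algebra.H1Cotangent.map R Q S U x := by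
  rw [Algebra.H1Cotangent.map, Algebra.H1Cotangent.map, Algebra.H1Cotangent.map,
    ← Algebra.Extension.H1Cotangent.map_comp_apply, Algebra.Extension.H1Cotangent.map_eq]

end Functoriality

section Inj

variable {R Q S T : Type u} [CommRing R] [CommRing Q] [CommRing S] [CommRing T]
  [Algebra R Q] [Algebra R S] [Algebra R T] [Algebra Q T] [Algebra S T]
  [IsScalarTower R Q T] [IsScalarTower R S T]

attribute [local instance] Algebra.TensorProduct.rightAlgebra in
/-- If `Q` is a flat `R`-algebra with `Q ⊗ S ≅ T`, then `T ⊗ H₁(L_{S/R}) → H₁(L_{T/R})` is injective. -/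
theorem injective_liftBaseChange [Module.Flat R Q] (hQT : Function.Surjective (algebraMap Q T))
    (e : Q ⊗[R] S ≃ₐ[Q] T) (he : ∀ s : S, e (1 ⊗ₜ s) = algebraMap S T s) :
    Function.Injective ((Algebra.H1Cotangent.map R R S T).liftBaseChange T) := by
  letI : Algebra T (Q ⊗[R] S) := (e.symm : T →+* Q ⊗[R] S).toAlgebra
  have h1 : ∀ t : T, algebraMap T (Q ⊗[R] S) t = e.symm t := fun t => rfl
  haveI : IsScalarTower Q T (Q ⊗[R] S) := IsScalarTower.of_algebraMap_eq fun q => by
    rw [h1, AlgEquiv.commutes]
  haveI : IsScalarTower R T (Q ⊗[R] S) := IsScalarTower.of_algebraMap_eq fun r => by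
    rw [IsScalarTower.algebraMap_apply R Q T, ← IsScalarTower.algebraMap_apply Q T (Q ⊗[R] S),
      ← IsScalarTower.algebraMap_apply R Q (Q ⊗[R] S)]
  haveI : IsScalarTower S T (Q ⊗[R] S) := IsScalarTower.of_algebraMap_eq fun s => by
    rw [h1, ← he, AlgEquiv.symm_apply_apply]; rfl
  let G := Algebra.H1Cotangent.map R Q T (Q ⊗[R] S)
  let Θ := Algebra.tensorH1CotangentOfFlat R S Q
  let ρ : Q ⊗[R] Algebra.H1Cotangent R S →ₗ[R] T ⊗[S] Algebra.H1Cotangent R S :=
    TensorProduct.lift
      { toFun := fun q => ((TensorProduct.mk S T (Algebra.H1Cotangent R S) (algebraMap Q T q)).restrictScalars R)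
        map_add' := fun q q' => by rw [map_add, map_add]; rfl
        map_smul' := fun r q => by
          ext x
          change (algebraMap Q T (r • q)) ⊗ₜ[S] x = r • ((algebraMap Q T q) ⊗ₜ[S] x)
          rw [Algebra.smul_def, map_mul, ← IsScalarTower.algebraMap_apply, ← Algebra.smul_def,
            TensorProduct.smul_tmul'] }
  have hρ : ∀ q x, ρ (q ⊗ₜ x) = (algebraMap Q T q) ⊗ₜ[S] x := fun q x => rfl
  have hρs : Function.Surjective ρ := by
    intro z
    induction z using TensorProduct.induction_on with
    | zero => exact ⟨0, map_zero _⟩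
    | tmul t x =>
      obtain ⟨q, rfl⟩ := hQT t
      exact ⟨q ⊗ₜ x, rfl⟩
    | add z w hz hw =>
      obtain ⟨a, rfl⟩ := hz
      obtain ⟨b, rfl⟩ := hw
      exact ⟨a + b, map_add _ _ _⟩
  have key : ∀ w, G ((Algebra.H1Cotangent.map R R S T).liftBaseChange T (ρ w)) = Θ w := by
    intro w
    induction w using TensorProduct.induction_on with
    | zero => rw [map_zero, map_zero, map_zero, map_zero]
    | tmul q x =>
      rw [hρ, LinearMap.liftBaseChange_tmul, Algebra.tensorH1CotangentOfFlat_tmul, map_smul, algebraMap_smul,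
        map_map]
    | add z w hz hw => rw [map_add, map_add, map_add, map_add, hz, hw]
  rw [injective_iff_map_eq_zero]
  intro z hz
  obtain ⟨w, rfl⟩ := hρs z
  have h2 := key w
  rw [hz, map_zero] at h2
  rw [(LinearEquiv.map_eq_zero_iff Θ).1 h2.symm, map_zero]

end Inj

section Field

variable {R S T : Type u} [CommRing R] [CommRing S] [Field T]
  [Algebra R S] [Algebra R T] [Algebra S T] [IsScalarTower R S T]

theorem bijective_liftBaseChange (hS : IsField S) (hRS : Function.Surjective (algebraMap R S))
    [Module.Finite S T] [Algebra.IsSeparable S T] :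
    Function.Bijective ((Algebra.H1Cotangent.map R R S T).liftBaseChange T) := by
  classical
  letI : Field S := hS.toField
  haveI : Nontrivial R := (algebraMap R S).domain_nontrivial
  refine ⟨?_, ?_⟩
  · let pb := Field.powerBasisOfFiniteOfSeparable S T
    have hmon : (minpoly S pb.gen).Monic := minpoly.monic pb.isIntegral_gen
    obtain ⟨g, hg1, hg2, hg3⟩ := Polynomial.lifts_and_natDegree_eq_and_monic (f := algebraMap R S)
      (p := minpoly S pb.gen) (Polynomial.lifts_iff_coeff_lifts _ |>.2 fun n => hRS _) hmon
    let Q := AdjoinRoot g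
    have hroot : Polynomial.eval₂ (algebraMap R T) pb.gen g = 0 := by
      rw [IsScalarTower.algebraMap_eq R S T, ← Polynomial.eval₂_map, hg1]
      exact minpoly.aeval S pb.gen
    let φ : Q →ₐ[R] T := AdjoinRoot.liftAlgHom g (Algebra.ofId R T) pb.gen hroot
    letI : Algebra Q T := φ.toRingHom.toAlgebra
    have hφ : ∀ q, algebraMap Q T q = φ q := fun q => rfl
    haveI : IsScalarTower R Q T := IsScalarTower.of_algebraMap_eq fun r => (φ.commutes r).symm
    haveI : Module.Free R Q := Module.Free.of_basis (AdjoinRoot.powerBasis' hg3).basis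
    haveI : Module.Finite R Q := Module.Finite.of_basis (AdjoinRoot.powerBasis' hg3).basis
    have hsurj : Function.Surjective (algebraMap Q T) := by
      intro t
      obtain ⟨p, hp⟩ := pb.exists_eq_aeval' t
      obtain ⟨p', rfl⟩ := Polynomial.map_surjective (algebraMap R S) hRS p
      refine ⟨AdjoinRoot.mk g p', ?_⟩
      rw [hp, hφ]
      change AdjoinRoot.lift _ _ hroot (AdjoinRoot.mk g p') = _
      rw [AdjoinRoot.lift_mk, Polynomial.aeval_def, Polynomial.eval₂_map, ← IsScalarTower.algebraMap_eq]
    let e₀ : Q ⊗[R] S →ₐ[Q] T := Algebra.TensorProduct.lift (Algebra.ofId Q T) (IsScalarTower.toAlgHom R S T)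
      (fun _ _ => Commute.all _ _)
    have he₀ : ∀ q s, e₀ (q ⊗ₜ s) = algebraMap Q T q * algebraMap S T s := fun q s => rfl
    let fS : S ⊗[R] Q →ₐ[S] T := Algebra.TensorProduct.lift (Algebra.ofId S T) φ (fun _ _ => Commute.all _ _)
    have hfS : ∀ s q, fS (s ⊗ₜ q) = algebraMap S T s * algebraMap Q T q := fun s q => rfl
    have hfs : Function.Surjective fS := by
      intro t
      obtain ⟨q, rfl⟩ := hsurj t
      exact ⟨1 ⊗ₜ q, by rw [hfS, map_one, one_mul]⟩
    have hrank : Module.finrank S (S ⊗[R] Q) = Module.finrank S T := by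
      rw [Module.finrank_baseChange, (AdjoinRoot.powerBasis' hg3).finrank, pb.finrank,
        AdjoinRoot.powerBasis'_dim, hg2, ← pb.natDegree_minpoly]
    haveI : Module.Finite S (S ⊗[R] Q) := inferInstance
    have hfi : Function.Injective fS := by
      have := (LinearMap.injective_iff_surjective_of_finrank_eq_finrank (f := fS.toLinearMap) hrank).2 hfs
      exact this
    have hbij : Function.Bijective e₀ := by
      have hcomp : ∀ z, e₀ z = fS (TensorProduct.comm R Q S z) := by
        intro z
        induction z using TensorProduct.induction_on with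
        | zero => rw [map_zero, map_zero, map_zero]
        | tmul q s => rw [TensorProduct.comm_tmul, hfS, he₀, mul_comm]
        | add z w hz hw => rw [map_add, map_add, map_add, hz, hw]
      have : (e₀ : Q ⊗[R] S → T) = fS ∘ (TensorProduct.comm R Q S) := funext hcomp
      rw [this]
      exact ⟨hfi.comp (TensorProduct.comm R Q S).injective, hfs.comp (TensorProduct.comm R Q S).surjective⟩
    exact injective_liftBaseChange hsurj (AlgEquiv.ofBijective e₀ hbij) (fun s => by
      change e₀ (1 ⊗ₜ s) = _
      rw [he₀, map_one, one_mul])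
  · haveI : Algebra.FormallyEtale S T := Algebra.FormallyEtale.of_isSeparable S T
    haveI : Subsingleton (Algebra.H1Cotangent S T) := inferInstance
    intro y
    exact (Algebra.H1Cotangent.exact_liftBaseChange_map_of_flat R S T y).1 (Subsingleton.elim _ _)

end Field

end K726.H1Sep
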