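import Groth.Prelude.Def_W4sfdMinVersal
import Groth.Agent.ArtFun.K723.Formal
import Groth.Agent.ArtFun.K724.Complete
import Groth.Agent.ArtFun.K724.Deriv

/-!
# Formal elements and versal families: pushforward, lifting, endomorphisms
-/

set_option autoImplicit false
set_option linter.unusedSectionVars false
set_option linter.style.haveILetI false
universe u v
open CategoryTheory ArtFun ArtFun.Art

namespace K726.MinVersal

variable {Λ : Type u} {k : Type u} [CommRing Λ] [Field k] [Algebra Λ k]

section Basics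

variable {F : Art Λ k ⥤ Type v}

lemma truncMap_surjective (R : CRing Λ k) (n : ℕ) : Function.Surjective (R.truncMap n) := by
  intro x
  obtain ⟨a, rfl⟩ := Ideal.Quotient.mk_surjective x
  exact ⟨Ideal.Quotient.mk _ a, rfl⟩

lemma truncHom_surjective (R : CRing Λ k) (n : ℕ) : Function.Surjective (R.truncHom n).1 :=
  Ideal.Quotient.mk_surjective

/-- A family is determined by its formal element. -/
lemma app_eq_of_toFormalElt_eq {R : CRing Λ k} {ξ₁ ξ₂ : Family R.carrier R.res F}
    (h : ξ₁.toFormalElt = ξ₂.toFormalElt) (A : Art Λ k) (φ : HomSet R.carrier R.res A) :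
    ξ₁.app A φ = ξ₂.app A φ := by
  obtain ⟨n, g, rfl⟩ := K723.Formal.exists_factor R A φ
  rw [ξ₁.natural, ξ₂.natural]
  congr 1
  exact congrArg (fun t => t.elt n) h

lemma map_truncMapOfHom {R' R : CRing Λ k} (f : R'.carrier →ₐ[Λ] R.carrier) (hf : R.res.comp f = R'.res) (n : ℕ) :
    HomSet.map (CRing.truncMapOfHom f hf n) (R'.truncHom n) =
      ⟨(R.truncHom n).1.comp f, by rw [← AlgHom.comp_assoc, (R.truncHom n).2, hf]⟩ :=
  Subtype.ext (AlgHom.ext fun _ => rfl)

/-- Pushforward of the formal element of a family is the formal element of the transported family. -/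
lemma toFormalElt_push {R' R : CRing Λ k} (ξ : Family R'.carrier R'.res F)
    (f : R'.carrier →ₐ[Λ] R.carrier) (hf : R.res.comp f = R'.res) :
    ξ.toFormalElt.push f hf = (ξ.along f hf).toFormalElt := by
  apply FormalElt.ext'
  intro n
  change F.map (CRing.truncMapOfHom f hf n) (ξ.app _ (R'.truncHom n)) = ξ.app _ _
  rw [← ξ.natural, map_truncMapOfHom]

lemma along_along {R S T : CRing Λ k} (ξ : Family R.carrier R.res F)
    (f : R.carrier →ₐ[Λ] S.carrier) (hf : S.res.comp f = R.res)
    (g : S.carrier →ₐ[Λ] T.carrier) (hg : T.res.comp g = S.res) :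
    (ξ.along f hf).along g hg = ξ.along (g.comp f) (by rw [← AlgHom.comp_assoc, hg, hf]) := rfl

lemma toFormalElt_along_eq {R S T : CRing Λ k} {ξ : Family R.carrier R.res F} {η : Family S.carrier S.res F}
    {f : R.carrier →ₐ[Λ] S.carrier} {hf : S.res.comp f = R.res}
    (h : (ξ.along f hf).toFormalElt = η.toFormalElt)
    (g : S.carrier →ₐ[Λ] T.carrier) (hg : T.res.comp g = S.res) :
    ((ξ.along f hf).along g hg).toFormalElt = (η.along g hg).toFormalElt := by
  rw [← toFormalElt_push (ξ.along f hf), ← toFormalElt_push η, h]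

/-- Versal families lift formal elements. -/
theorem exists_along_toFormalElt_eq (h0 : H0 F) {R : CRing Λ k} (ξ : Family R.carrier R.res F) (hξ : IsVersal ξ)
    (S : CRing Λ k) (η : FormalElt F S) :
    ∃ (g : R.carrier →ₐ[Λ] S.carrier) (hg : S.res.comp g = R.res), (ξ.along g hg).toFormalElt = η := by
  have step : ∀ (n : ℕ) (φ : HomSet R.carrier R.res (S.trunc n)), ξ.app _ φ = η.elt n →
      ∃ ψ : HomSet R.carrier R.res (S.trunc (n + 1)), HomSet.map (S.truncMap n) ψ = φ ∧
        ξ.app _ ψ = η.elt (n + 1) := by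
    intro n φ hφ
    refine hξ (S.truncMap n) (truncMap_surjective S n) φ _ ?_
    rw [hφ, η.compat]
  have hbase : ∃ φ : HomSet R.carrier R.res (S.trunc 0), ξ.app _ φ = η.elt 0 := by
    obtain ⟨φ, -, hφ⟩ := hξ (toBase (S.trunc 0)) (S.trunc 0).res_surjective ⟨R.res, AlgHom.id_comp _⟩ (η.elt 0)
      (@Subsingleton.elim _ h0.2 _ _)
    exact ⟨φ, hφ⟩
  obtain ⟨φ₀, hφ₀⟩ := hbase
  let T : ℕ → Type u := fun n => {φ : HomSet R.carrier R.res (S.trunc n) // ξ.app _ φ = η.elt n}
  let seq : ∀ n, T n := fun n => Nat.rec (motive := T) ⟨φ₀, hφ₀⟩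
    (fun n φ => ⟨(step n φ.1 φ.2).choose, (step n φ.1 φ.2).choose_spec.2⟩) n
  have hseq : ∀ n, HomSet.map (S.truncMap n) (seq (n + 1)).1 = (seq n).1 := fun n =>
    (step n (seq n).1 (seq n).2).choose_spec.1
  obtain ⟨g, hg, hgn⟩ := K723.Formal.exists_glue S (fun n => (seq n).1) hseq
  refine ⟨g, hg, ?_⟩
  apply FormalElt.ext'
  intro n
  rw [← (seq n).2]
  change ξ.app _ _ = _
  congr 1
  exact Subtype.ext (hgn n)

end Basics

section Surj

/-- The point of `S` with values in the dual numbers defined by a derivation. -/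
noncomputable def ofDer (S : CRing Λ k) (D : S.carrier → k) (hadd : ∀ a b, D (a + b) = D a + D b)
    (hmul : ∀ a b, D (a * b) = S.res a * D b + S.res b * D a) (hal : ∀ l, D (algebraMap Λ S.carrier l) = 0) :
    HomSet S.carrier S.res (dual Λ k) :=
  ⟨{ toFun := fun s => ((S.res s, D s) : k × k)
     map_one' := by
       have h1 : D 1 = 0 := by rw [← map_one (algebraMap Λ S.carrier), hal]
       exact TrivSqZeroExt.ext (map_one _) h1
     map_zero' := by
       have h1 : D 0 = 0 := by rw [← map_zero (algebraMap Λ S.carrier), hal]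
       exact TrivSqZeroExt.ext (map_zero _) h1
     map_mul' := fun a b => TrivSqZeroExt.ext (map_mul _ _ _) (by
       change D (a * b) = S.res a • D b + MulOpposite.op (S.res b) • D a
       rw [hmul, smul_eq_mul, op_smul_eq_smul, smul_eq_mul])
     map_add' := fun a b => TrivSqZeroExt.ext (map_add _ _ _) (hadd a b)
     commutes' := fun l => TrivSqZeroExt.ext (S.res.commutes l) (hal l) },
   AlgHom.ext fun _ => rfl⟩

/-- A map of coefficient rings is surjective if it is injective on `k[ε]`-points. -/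
theorem surjective_of_injective_dual {R S : CRing Λ k} (f : R.carrier →ₐ[Λ] S.carrier) (hf : S.res.comp f = R.res)
    (hinj : ∀ φ ψ : HomSet S.carrier S.res (dual Λ k), φ.1.comp f = ψ.1.comp f → φ = ψ) :
    Function.Surjective f := by
  haveI := R.isAdicComplete
  letI : Algebra S.carrier k := (S.res : S.carrier →+* k).toAlgebra
  have hal : ∀ s : S.carrier, algebraMap S.carrier k s = S.res s := fun _ => rfl
  haveI : IsScalarTower Λ S.carrier k := IsScalarTower.of_algebraMap_eq fun l => (S.res.commutes l).symm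
  have hsm : ∀ (s : S.carrier) (c : k), s • c = S.res s * c := fun s c => by rw [Algebra.smul_def]; rfl
  have hres : IsScalarTower.toAlgHom Λ S.carrier k = S.res := AlgHom.ext fun _ => rfl
  refine K724.Complete.surjective_of_cotangent (f : R.carrier →+* S.carrier)
    (fun s => K724.Complete.exists_sub_mem R.res R.res_surjective S.res S.res_surjective f hf s) ?_
  refine K724.Deriv.map_sup_eq_of_derivation_injective (k := k) S.res_surjective R.res R.res_surjective f
    (by rw [hres, hf]) ?_
  intro D₁ D₂ h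
  let φ : Derivation Λ S.carrier k → HomSet S.carrier S.res (dual Λ k) := fun D =>
    ofDer S D (map_add D) (fun a b => by rw [D.leibniz, hsm, hsm]) D.map_algebraMap
  have h1 : φ D₁ = φ D₂ := by
    apply hinj
    apply AlgHom.ext
    intro r
    exact TrivSqZeroExt.ext rfl (h r)
  apply Derivation.ext
  intro s
  have h2 : (φ D₁).1 s = (φ D₂).1 s := by rw [h1]
  exact congrArg TrivSqZeroExt.snd h2

/-- A surjective endomorphism of a Noetherian ring is injective. -/
lemma injective_of_surjective_endo {R : Type u} [CommRing R] [IsNoetherianRing R] (f : R →+* R)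
    (hf : Function.Surjective f) : Function.Injective f := by
  rw [RingHom.injective_iff_ker_eq_bot]
  -- the kernels of the powers of `f` stabilise
  let K : ℕ →o Ideal R :=
    { toFun := fun n => RingHom.ker (f ^ n)
      monotone' := monotone_nat_of_le_succ fun n => by
        intro x hx
        rw [RingHom.mem_ker] at hx ⊢
        rw [pow_succ', RingHom.mul_def, RingHom.comp_apply, hx, map_zero] }
  obtain ⟨n, hn⟩ := monotone_stabilizes_iff_noetherian.2 (inferInstance : IsNoetherian R R) K
  rw [eq_bot_iff]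
  intro x hx
  have hfn : Function.Surjective (f ^ n) := by
    have : ∀ m : ℕ, Function.Surjective (f ^ m) := by
      intro m
      induction m with
      | zero => exact Function.surjective_id
      | succ m ih =>
        rw [pow_succ', RingHom.mul_def]
        exact hf.comp ih
    exact this n
  obtain ⟨y, rfl⟩ := hfn x
  have h1 : y ∈ K (n + 1) := by
    change y ∈ RingHom.ker (f ^ (n + 1))
    rw [RingHom.mem_ker, pow_succ', RingHom.mul_def, RingHom.comp_apply]
    exact hx
  rw [← hn (n + 1) (Nat.le_succ n)] at h1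
  exact h1

end Surj

section Main

variable {F : Art Λ k ⥤ Type v}

/-- A versal family all of whose endomorphisms are surjective is minimal. -/
theorem isMinimalVersal_of_endo (h0 : H0 F) {R : CRing Λ k} (ξ : Family R.carrier R.res F) (hξ : IsVersal ξ)
    (hend : ∀ (f : R.carrier →ₐ[Λ] R.carrier) (hf : R.res.comp f = R.res),
      (ξ.along f hf).toFormalElt = ξ.toFormalElt → Function.Surjective f) :
    ξ.IsMinimalVersal := by
  refine ⟨hξ, fun R' u f hf hu => ?_⟩
  obtain ⟨g, hg, hgu⟩ := exists_along_toFormalElt_eq h0 ξ hξ R' u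
  have h1 : (ξ.along (f.comp g) (by rw [← AlgHom.comp_assoc, hf, hg])).toFormalElt = ξ.toFormalElt := by
    rw [← along_along ξ g hg f hf, ← toFormalElt_push, hgu, hu]
  have h2 := hend _ _ h1
  intro y
  obtain ⟨x, hx⟩ := h2 y
  exact ⟨g x, hx⟩

theorem isMinimalVersal_of_isMiniversal (h0 : H0 F) {R : CRing Λ k} (ξ : Family R.carrier R.res F)
    (hξ : IsMiniversal ξ) : ξ.IsMinimalVersal := by
  refine isMinimalVersal_of_endo h0 ξ hξ.1 fun f hf h => ?_
  apply surjective_of_injective_dual f hf
  intro φ ψ hφψ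
  apply hξ.2.1
  have key : ∀ χ : HomSet R.carrier R.res (dual Λ k), ξ.app _ χ =
      ξ.app _ ⟨χ.1.comp f, by rw [← AlgHom.comp_assoc, χ.2, hf]⟩ := fun χ =>
    (app_eq_of_toFormalElt_eq h _ χ).symm
  rw [key φ, key ψ]
  congr 1
  exact Subtype.ext hφψ

theorem isMinimalVersal_unique (h0 : H0 F) {R₁ R₂ : CRing Λ k}
    (ξ₁ : Family R₁.carrier R₁.res F) (ξ₂ : Family R₂.carrier R₂.res F)
    (h₁ : ξ₁.IsMinimalVersal) (h₂ : ξ₂.IsMinimalVersal) :
    ∃ (e : R₁.carrier ≃ₐ[Λ] R₂.carrier) (he : R₂.res.comp (e : R₁.carrier →ₐ[Λ] R₂.carrier) = R₁.res),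
      (ξ₁.along (e : R₁.carrier →ₐ[Λ] R₂.carrier) he).toFormalElt = ξ₂.toFormalElt := by
  obtain ⟨g, hg, hg'⟩ := exists_along_toFormalElt_eq h0 ξ₁ h₁.1 R₂ ξ₂.toFormalElt
  obtain ⟨h, hh, hh'⟩ := exists_along_toFormalElt_eq h0 ξ₂ h₂.1 R₁ ξ₁.toFormalElt
  have hgs : Function.Surjective g := h₂.2 R₁ ξ₁.toFormalElt g hg (by rw [toFormalElt_push, hg'])
  have hhs : Function.Surjective h := h₁.2 R₂ ξ₂.toFormalElt h hh (by rw [toFormalElt_push, hh'])
  have hinj : Function.Injective g := by
    have h3 : Function.Injective ((h.comp g : R₁.carrier →ₐ[Λ] R₁.carrier) : R₁.carrier →+* R₁.carrier) :=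
      injective_of_surjective_endo _ (hhs.comp hgs)
    exact Function.Injective.of_comp (f := h) h3
  exact ⟨AlgEquiv.ofBijective g ⟨hinj, hgs⟩, hg, hg'⟩

end Main

end K726.MinVersal
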