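import Groth.Agent.ArtFun.K726.Basic
import Mathlib.LinearAlgebra.TensorProduct.Basis
import Mathlib.LinearAlgebra.Basis.VectorSpace

/-!
# Small quotients of semismall extensions over a field, cut out by a functional on the kernel
-/

set_option autoImplicit false
set_option linter.unusedSectionVars false
set_option linter.style.haveILetI false
set_option linter.unusedVariables false
universe u v
open CategoryTheory
open scoped TensorProduct

namespace K726.SmallQuot

open ArtFun ArtFun.Art

variable {k : Type u} [Field k]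

/-- On an ideal killed by the maximal ideal, multiplication by `a` is scalar multiplication by `res a`. -/
lemma mul_eq_smul {C' C : Art k k} {p : C' ⟶ C} (hp : IsSemismallExt p) (a : C') {c : C'}
    (hc : c ∈ RingHom.ker p.toAlgHom) : a * c = (C'.res a) • c := by
  have h1 : a - algebraMap k C' (C'.res a) ∈ IsLocalRing.maximalIdeal C' := by
    rw [mem_maximalIdeal_iff, map_sub, AlgHom.commutes]
    exact sub_self _
  have h2 : (a - algebraMap k C' (C'.res a)) * c = 0 := by
    have := hp.2
    rw [Submodule.eq_bot_iff] at this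
    exact this _ (Ideal.mul_mem_mul h1 hc)
  rw [sub_mul, sub_eq_zero] at h2
  rw [h2, Algebra.smul_def]

/-- The kernel of a semismall extension lies in the maximal ideal. -/
lemma ker_le {Λ : Type u} [CommRing Λ] [Algebra Λ k] {C' C : Art Λ k} (p : C' ⟶ C) :
    RingHom.ker p.toAlgHom ≤ IsLocalRing.maximalIdeal C' := by
  intro a ha
  rw [mem_maximalIdeal_iff, ← res_app p a]
  rw [RingHom.mem_ker] at ha
  rw [ha, map_zero]

/-- The kernel ideal of a functional on the kernel of a semismall extension. -/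
def kerFun {C' C : Art k k} {p : C' ⟶ C} (hp : IsSemismallExt p)
    (lam : ↥(RingHom.ker p.toAlgHom) →ₗ[k] k) : Ideal C' where
  carrier := {c | ∃ h : c ∈ RingHom.ker p.toAlgHom, lam ⟨c, h⟩ = 0}
  zero_mem' := ⟨zero_mem _, map_zero lam⟩
  add_mem' := by
    rintro a b ⟨ha, ha'⟩ ⟨hb, hb'⟩
    refine ⟨add_mem ha hb, ?_⟩
    have : (⟨a + b, add_mem ha hb⟩ : ↥(RingHom.ker p.toAlgHom)) = ⟨a, ha⟩ + ⟨b, hb⟩ := rfl
    rw [this, map_add, ha', hb', add_zero]
  smul_mem' := by
    rintro a c ⟨hc, hc'⟩
    refine ⟨Ideal.mul_mem_left _ _ hc, ?_⟩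
    have : (⟨a * c, Ideal.mul_mem_left _ _ hc⟩ : ↥(RingHom.ker p.toAlgHom)) = (C'.res a) • ⟨c, hc⟩ :=
      Subtype.ext (mul_eq_smul hp a hc)
    change lam ⟨a * c, Ideal.mul_mem_left _ _ hc⟩ = 0
    rw [this, map_smul, hc', smul_zero]

lemma mem_kerFun {C' C : Art k k} {p : C' ⟶ C} (hp : IsSemismallExt p)
    (lam : ↥(RingHom.ker p.toAlgHom) →ₗ[k] k) (c : ↥(RingHom.ker p.toAlgHom)) :
    (c : C') ∈ kerFun hp lam ↔ lam c = 0 :=
  ⟨fun ⟨_, h⟩ => h, fun h => ⟨c.2, h⟩⟩

lemma kerFun_le {C' C : Art k k} {p : C' ⟶ C} (hp : IsSemismallExt p)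
    (lam : ↥(RingHom.ker p.toAlgHom) →ₗ[k] k) : kerFun hp lam ≤ RingHom.ker p.toAlgHom :=
  fun _ ⟨h, _⟩ => h

/-- Dividing a semismall extension by the kernel of a nonzero functional on its kernel gives a small extension whose
kernel is identified with the field by the functional. -/
theorem exists_small_quot {C' C : Art k k} (p : C' ⟶ C) (hp : IsSemismallExt p)
    (lam : ↥(RingHom.ker p.toAlgHom) →ₗ[k] k) (hlam : lam ≠ 0) :
    ∃ (K : Ideal C') (hK : K ≤ IsLocalRing.maximalIdeal C') (hKJ : K ≤ RingHom.ker p.toAlgHom)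
      (_ : IsSmallExt (quotFactor hK p hKJ)) (φ : ↥(RingHom.ker (quotFactor hK p hKJ).toAlgHom) ≃ₗ[k] k),
      φ.toLinearMap ∘ₗ (kerToQuot hK p hKJ).restrictScalars k = lam := by
  obtain ⟨j₀, hj₀⟩ : ∃ j, lam j ≠ 0 := by
    by_contra h
    push Not at h
    exact hlam (LinearMap.ext h)
  obtain ⟨j, hj⟩ : ∃ j, lam j = 1 := ⟨(lam j₀)⁻¹ • j₀, by rw [map_smul, smul_eq_mul, inv_mul_cancel₀ hj₀]⟩
  have hKJ := kerFun_le hp lam
  have hK : kerFun hp lam ≤ IsLocalRing.maximalIdeal C' := hKJ.trans (ker_le p)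
  -- the key relation
  have key : ∀ c : ↥(RingHom.ker p.toAlgHom), kerToQuot hK p hKJ c = lam c • kerToQuot hK p hKJ j := by
    intro c
    rw [← sub_eq_zero, ← map_smul, ← map_sub]
    apply Subtype.ext
    apply Ideal.Quotient.eq_zero_iff_mem.2
    rw [mem_kerFun, map_sub, map_smul, hj, smul_eq_mul, mul_one, sub_self]
  have hne : kerToQuot hK p hKJ j ≠ 0 := by
    intro h0
    have := Ideal.Quotient.eq_zero_iff_mem.1 (congrArg Subtype.val h0)
    rw [mem_kerFun, hj] at this
    exact one_ne_zero this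
  have hsurj : ∀ y : ↥(RingHom.ker (quotFactor hK p hKJ).toAlgHom), ∃ c, kerToQuot hK p hKJ c = y := by
    rintro ⟨y, hy⟩
    obtain ⟨c, rfl⟩ := quotMk_surjective C' (kerFun hp lam) hK y
    exact ⟨⟨c, hy⟩, rfl⟩
  have hsmall : IsSmallExt (quotFactor hK p hKJ) := by
    refine ⟨?_, ?_, ?_, ?_⟩
    · intro y
      obtain ⟨x, rfl⟩ := hp.1 y
      exact ⟨quotMk C' (kerFun hp lam) hK x, rfl⟩
    · intro hbot
      apply hne
      apply Subtype.ext
      exact (Submodule.mem_bot _).1 (hbot.le (kerToQuot hK p hKJ j).2)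
    · refine ⟨⟨(kerToQuot hK p hKJ j : _), ?_⟩⟩
      apply le_antisymm
      · intro y hy
        obtain ⟨c, hc⟩ := hsurj ⟨y, hy⟩
        rw [key] at hc
        have hc' := congrArg Subtype.val hc
        change lam c • ((kerToQuot hK p hKJ j) : (quot C' (kerFun hp lam) hK).carrier) = y at hc'
        rw [Algebra.smul_def] at hc'
        rw [← hc']
        exact Ideal.mul_mem_left _ _ (Submodule.mem_span_singleton_self _)
      · rw [Submodule.span_le, Set.singleton_subset_iff]
        exact (kerToQuot hK p hKJ j).2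
    · rw [Submodule.eq_bot_iff]
      intro x hx
      refine Submodule.mul_induction_on hx ?_ ?_
      · intro a ha b hb
        obtain ⟨c, hc⟩ := hsurj ⟨b, hb⟩
        obtain ⟨a, rfl⟩ := quotMk_surjective C' (kerFun hp lam) hK a
        have hb' : b = quotMk C' (kerFun hp lam) hK (c : C') := (congrArg Subtype.val hc).symm
        rw [mem_maximalIdeal_iff, res_app] at ha
        rw [hb', ← map_mul, mul_eq_smul hp a c.2, ha, zero_smul, map_zero]
      · intro a b ha hb
        rw [ha, hb, add_zero]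
  refine ⟨kerFun hp lam, hK, hKJ, hsmall, ?_⟩
  let f : k →ₗ[k] ↥(RingHom.ker (quotFactor hK p hKJ).toAlgHom) :=
    LinearMap.toSpanSingleton k _ (kerToQuot hK p hKJ j)
  have hf : Function.Bijective f := by
    constructor
    · rw [← LinearMap.ker_eq_bot, LinearMap.ker_eq_bot']
      intro c hc
      by_contra hc0
      apply hne
      have : c⁻¹ • f c = 0 := by rw [hc, smul_zero]
      rwa [LinearMap.toSpanSingleton_apply, smul_smul, inv_mul_cancel₀ hc0, one_smul] at this
    · intro y
      obtain ⟨c, hc⟩ := hsurj y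
      exact ⟨lam c, by rw [LinearMap.toSpanSingleton_apply, ← key, hc]⟩
  refine ⟨(LinearEquiv.ofBijective f hf).symm, ?_⟩
  apply LinearMap.ext
  intro c
  change (LinearEquiv.ofBijective f hf).symm (kerToQuot hK p hKJ c) = lam c
  rw [LinearEquiv.symm_apply_eq, LinearEquiv.ofBijective_apply, LinearMap.toSpanSingleton_apply, key]

/-- Two elements of `V ⊗ J` agree as soon as all functionals of `J` say so. -/
lemma eq_of_forall_functional {V J : Type u} [AddCommGroup V] [Module k V] [AddCommGroup J] [Module k J]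
    {x y : V ⊗[k] J} (h : ∀ lam : J →ₗ[k] k, TensorProduct.rid k V (LinearMap.lTensor V lam x) =
      TensorProduct.rid k V (LinearMap.lTensor V lam y)) : x = y := by
  classical
  let b := Module.Basis.ofVectorSpace k J
  apply (TensorProduct.equivFinsuppOfBasisRight (M := V) b).injective
  ext i
  have key : ∀ z : V ⊗[k] J, TensorProduct.equivFinsuppOfBasisRight (M := V) b z i =
      TensorProduct.rid k V (LinearMap.lTensor V (b.coord i) z) := by
    intro z
    induction z using TensorProduct.induction_on with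
    | zero => simp
    | tmul v j => simp
    | add z w hz hw => rw [map_add, Finsupp.add_apply, hz, hw, map_add, map_add]
  rw [key, key]
  exact h _

/-- An element of `V ⊗ J` all of whose components lie in a subspace `Ω` comes from `Ω ⊗ J`. -/
lemma mem_range_rTensor_of_forall_functional {V J : Type u} [AddCommGroup V] [Module k V] [AddCommGroup J] [Module k J]
    (Ω : Submodule k V) (x : V ⊗[k] J)
    (h : ∀ lam : J →ₗ[k] k, TensorProduct.rid k V (LinearMap.lTensor V lam x) ∈ Ω) :
    x ∈ LinearMap.range (LinearMap.rTensor J Ω.subtype) := by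
  classical
  let b := Module.Basis.ofVectorSpace k J
  have key : ∀ (z : V ⊗[k] J) i, TensorProduct.equivFinsuppOfBasisRight (M := V) b z i =
      TensorProduct.rid k V (LinearMap.lTensor V (b.coord i) z) := by
    intro z i
    induction z using TensorProduct.induction_on with
    | zero => simp
    | tmul v j => simp
    | add z w hz hw => rw [map_add, Finsupp.add_apply, hz, hw, map_add, map_add]
  obtain ⟨c, hc⟩ : ∃ c, (TensorProduct.equivFinsuppOfBasisRight (M := V) b).symm c = x :=
    ⟨_, LinearEquiv.symm_apply_apply _ x⟩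
  have hc' : ∀ i, c i ∈ Ω := by
    intro i
    have : c i = TensorProduct.rid k V (LinearMap.lTensor V (b.coord i) x) := by
      rw [← key, ← hc, LinearEquiv.apply_symm_apply]
    rw [this]
    exact h _
  rw [← hc, TensorProduct.equivFinsuppOfBasisRight_symm_apply]
  refine Submodule.sum_mem _ fun i _ => ?_
  exact ⟨(⟨c i, hc' i⟩ : Ω) ⊗ₜ[k] b i, rfl⟩

/-- The component of the obstruction along a nonzero functional is the obstruction of a small quotient. -/
theorem rid_obs {F : Art k k ⥤ Type v} {V : Type u} [AddCommGroup V] [Module k V] (T : ObsTheory F V)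
    {C' C : Art k k} (p : C' ⟶ C) (hp : IsSemismallExt p) (u : F.obj C)
    (lam : ↥(RingHom.ker p.toAlgHom) →ₗ[k] k) (hlam : lam ≠ 0) :
    ∃ (K : Ideal C') (hK : K ≤ IsLocalRing.maximalIdeal C') (hKJ : K ≤ RingHom.ker p.toAlgHom)
      (hs : IsSmallExt (quotFactor hK p hKJ)) (φ : ↥(RingHom.ker (quotFactor hK p hKJ).toAlgHom) ≃ₗ[k] k),
      φ.toLinearMap ∘ₗ (kerToQuot hK p hKJ).restrictScalars k = lam ∧
      TensorProduct.rid k V (LinearMap.lTensor V lam (T.obs p hp u)) =
        TensorProduct.rid k V (LinearMap.lTensor V φ.toLinearMap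
          (T.obs (quotFactor hK p hKJ) hs.isSemismallExt u)) := by
  obtain ⟨K, hK, hKJ, hs, φ, hφ⟩ := exists_small_quot p hp lam hlam
  refine ⟨K, hK, hKJ, hs, φ, hφ, ?_⟩
  rw [T.obs_quot p hp K hK hKJ hs.isSemismallExt u, ← hφ, LinearMap.lTensor_comp]
  rfl

end K726.SmallQuot
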