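import Groth.Agent.ArtFun.K726.Rs
import Groth.Agent.ArtFun.K726.SmallQuot

/-!
# Smoothness of a morphism of deformation functors from an injection of obstruction spaces
-/

set_option autoImplicit false
set_option linter.unusedSectionVars false
set_option linter.style.haveILetI false
universe u v
open CategoryTheory ArtFun ArtFun.Art
open scoped TensorProduct

namespace K726.ObsSmooth

open K726.Desc

variable {Λ : Type u} {k : Type u} [CommRing Λ] [Field k] [Algebra Λ k]
  [IsNoetherianRing Λ] [Module.Finite Λ k]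

/-- If lifts along small extensions of `x` exist as soon as they exist for `φ(x)`, and `φ` is surjective on tangent
spaces, then `φ` is smooth. -/
theorem isSmooth_of_lift {F G : Art Λ k ⥤ Type v} (φ : F ⟶ G) (hF0 : H0 F) (hF2 : Heps F)
    (hG1 : S1 G) (hG2 : Heps G)
    (hT : Function.Surjective (TangentSpace.map φ))
    (hlift : ∀ ⦃B A : Art Λ k⦄ (p : B ⟶ A), IsSmallExt p → ∀ (x : F.obj A) (y : G.obj B),
      φ.app A x = G.map p y → ∃ x' : F.obj B, F.map p x' = x) : IsSmooth φ := by
  apply K724.Smooth.isSmooth_of_smallExt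
  intro B A p hp
  rw [K724.Smooth.relCmp_surjective_iff]
  intro x y hxy
  obtain ⟨x', hx'⟩ := hlift p hp x y hxy
  obtain ⟨P, p₁, p₂, hP⟩ := K724.Basic.exists_isFibreProd p p hp.1
  obtain ⟨r, hr⟩ := K724.Dual.exists_isFibreProd_dual hp hP
  -- the difference of `φ(x')` and `y`
  have hnat : ∀ {C D : Art Λ k} (f : C ⟶ D) (z : F.obj C), G.map f (φ.app C z) = φ.app D (F.map f z) :=
    fun f z => (NatTrans.naturality_apply φ f z).symm
  obtain ⟨z, hz⟩ := hG1 p₁ p₂ p p hP hp.1 ⟨(φ.app B x', y), by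
    change G.map p (φ.app B x') = G.map p y
    rw [hnat, hx', hxy]⟩
  have hz1 : G.map p₁ z = φ.app B x' := congrArg (fun t => t.1.1) hz
  have hz2 : G.map p₂ z = y := congrArg (fun t => t.1.2) hz
  obtain ⟨θ, hθ⟩ := hT (G.map r z)
  change φ.app (dual Λ k) θ = G.map r z at hθ
  obtain ⟨w, hw⟩ := (hF2 p₁ r hr).2 ⟨(x', θ), @Subsingleton.elim _ hF0.2 _ _⟩
  have hw1 : F.map p₁ w = x' := congrArg (fun t => t.1.1) hw
  have hw2 : F.map r w = θ := congrArg (fun t => t.1.2) hw
  have hφw : φ.app P w = z := by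
    apply (hG2 p₁ r hr).1
    apply FibProd.ext
    · change G.map p₁ (φ.app P w) = G.map p₁ z
      rw [hnat, hw1, hz1]
    · change G.map r (φ.app P w) = G.map r z
      rw [hnat, hw2, hθ]
  refine ⟨F.map p₂ w, ?_, ?_⟩
  · rw [← map_comp_apply, ← hP.w, map_comp_apply, hw1, hx']
  · rw [← hnat, hφw, hz2]

end K726.ObsSmooth
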