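import Groth.Prelude.Def_ArtFun5
import Groth.Agent.CalgB.PowSerMap
import Groth.Agent.CalgB.PowSer

/-!
# Power series rings over a coefficient ring, as coefficient rings
-/

set_option autoImplicit false
set_option linter.unusedSectionVars false
set_option linter.style.haveILetI false
universe u v
open CategoryTheory ArtFun ArtFun.Art

namespace K726.PowRing

variable {Λ : Type u} {k : Type u} [CommRing Λ] [Field k] [Algebra Λ k]

/-- The constants. -/
noncomputable def constHom (R : CRing Λ k) (n : ℕ) : R.carrier →ₐ[Λ] MvPowerSeries (Fin n) R.carrier :=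
  IsScalarTower.toAlgHom Λ R.carrier (MvPowerSeries (Fin n) R.carrier)

lemma constHom_apply (R : CRing Λ k) (n : ℕ) (r : R.carrier) : constHom R n r = MvPowerSeries.C r := by
  change algebraMap R.carrier (MvPowerSeries (Fin n) R.carrier) r = _
  rw [MvPowerSeries.algebraMap_apply]; rfl

/-- The constant coefficient. -/
noncomputable def coeffHom (R : CRing Λ k) (n : ℕ) : MvPowerSeries (Fin n) R.carrier →ₐ[Λ] R.carrier where
  __ := MvPowerSeries.constantCoeff (σ := Fin n) (R := R.carrier)
  commutes' l := by
    change MvPowerSeries.constantCoeff (algebraMap Λ (MvPowerSeries (Fin n) R.carrier) l) = _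
    rw [IsScalarTower.algebraMap_apply Λ R.carrier (MvPowerSeries (Fin n) R.carrier), MvPowerSeries.algebraMap_apply]
    exact MvPowerSeries.constantCoeff_C _

lemma coeffHom_apply (R : CRing Λ k) (n : ℕ) (f : MvPowerSeries (Fin n) R.carrier) :
    coeffHom R n f = MvPowerSeries.constantCoeff f := rfl

lemma coeffHom_comp_constHom (R : CRing Λ k) (n : ℕ) : (coeffHom R n).comp (constHom R n) = AlgHom.id Λ _ := by
  apply AlgHom.ext
  intro r
  rw [AlgHom.comp_apply, constHom_apply, coeffHom_apply, MvPowerSeries.constantCoeff_C]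
  rfl

/-- Power series over a coefficient ring. -/
noncomputable abbrev ps (R : CRing Λ k) (n : ℕ) : CRing Λ k :=
  { carrier := MvPowerSeries (Fin n) R.carrier
    res := R.res.comp (coeffHom R n)
    res_surjective := fun c => by
      obtain ⟨r, hr⟩ := R.res_surjective c
      refine ⟨constHom R n r, ?_⟩
      rw [AlgHom.comp_apply, constHom_apply, coeffHom_apply, MvPowerSeries.constantCoeff_C, hr]
    isAdicComplete := by
      haveI := R.isAdicComplete
      exact Groth.Agent.CalgB.PowSer.isAdicComplete_mvPowerSeries n }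

lemma res_comp_constHom (R : CRing Λ k) (n : ℕ) : (ps R n).res.comp (constHom R n) = R.res := by
  change (R.res.comp (coeffHom R n)).comp (constHom R n) = R.res
  rw [AlgHom.comp_assoc, coeffHom_comp_constHom, AlgHom.comp_id]

lemma res_comp_coeffHom (R : CRing Λ k) (n : ℕ) : R.res.comp (coeffHom R n) = (ps R n).res := rfl

section Eval

variable {B : Type u} [CommRing B] [Algebra Λ B] (J : Ideal B) [IsAdicComplete J B]

/-- Evaluation of power series. -/
noncomputable def evalHom (R : CRing Λ k) (n : ℕ) (g : R.carrier →ₐ[Λ] B) (x : Fin n → B) (hx : ∀ i, x i ∈ J) :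
    MvPowerSeries (Fin n) R.carrier →ₐ[Λ] B :=
  letI : Algebra R.carrier B := g.toRingHom.toAlgebra
  haveI : IsScalarTower Λ R.carrier B := IsScalarTower.of_algebraMap_eq fun l => (g.commutes l).symm
  (Groth.Agent.Ega41.PowEval.powEval (R := R.carrier) J x hx).restrictScalars Λ

lemma evalHom_X (R : CRing Λ k) (n : ℕ) (g : R.carrier →ₐ[Λ] B) (x : Fin n → B) (hx : ∀ i, x i ∈ J) (i : Fin n) :
    evalHom J R n g x hx (MvPowerSeries.X i) = x i := by
  letI : Algebra R.carrier B := g.toRingHom.toAlgebra
  exact Groth.Agent.Ega41.PowEval.powEval_X J x hx i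

lemma evalHom_C (R : CRing Λ k) (n : ℕ) (g : R.carrier →ₐ[Λ] B) (x : Fin n → B) (hx : ∀ i, x i ∈ J) (r : R.carrier) :
    evalHom J R n g x hx (MvPowerSeries.C r) = g r := by
  letI : Algebra R.carrier B := g.toRingHom.toAlgebra
  exact Groth.Agent.Ega41.PowEval.powEval_C J x hx r

lemma evalHom_comp_constHom (R : CRing Λ k) (n : ℕ) (g : R.carrier →ₐ[Λ] B) (x : Fin n → B) (hx : ∀ i, x i ∈ J) :
    (evalHom J R n g x hx).comp (constHom R n) = g :=
  AlgHom.ext fun r => by rw [AlgHom.comp_apply, constHom_apply, evalHom_C]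

end Eval

/-- Two maps out of a power series ring into a coefficient ring agree if they agree on constants and variables. -/
lemma hom_ext {B : Type u} [CommRing B] [Algebra Λ B] (J : Ideal B) [IsHausdorff J B] (R : CRing Λ k) (n : ℕ)
    (f g : MvPowerSeries (Fin n) R.carrier →ₐ[Λ] B)
    (hJ : ∀ i, f (MvPowerSeries.X i) ∈ J) (hX : ∀ i, f (MvPowerSeries.X i) = g (MvPowerSeries.X i))
    (hC : f.comp (constHom R n) = g.comp (constHom R n)) : f = g := by
  have := Groth.Agent.CalgB.PowSerMap.ringHom_ext J (f : MvPowerSeries (Fin n) R.carrier →+* B)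
    (g : MvPowerSeries (Fin n) R.carrier →+* B) hJ hX (fun r => by
      have := DFunLike.congr_fun hC r
      rwa [AlgHom.comp_apply, AlgHom.comp_apply, constHom_apply] at this)
  apply AlgHom.ext
  intro x
  exact DFunLike.congr_fun this x

/-- Evaluation is compatible with the augmentations. -/
lemma res_comp_evalHom (R S : CRing Λ k) (n : ℕ) (g : R.carrier →ₐ[Λ] S.carrier) (hg : S.res.comp g = R.res)
    [IsAdicComplete (IsLocalRing.maximalIdeal S.carrier) S.carrier] (x : Fin n → S.carrier)
    (hx : ∀ i, x i ∈ IsLocalRing.maximalIdeal S.carrier) :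
    S.res.comp (evalHom _ R n g x hx) = (ps R n).res := by
  haveI : IsAdicComplete (⊥ : Ideal k) k := inferInstance
  refine hom_ext (⊥ : Ideal k) R n _ _ ?_ ?_ ?_
  · intro i
    rw [AlgHom.comp_apply, evalHom_X]
    exact (Submodule.mem_bot _).2 ((CRing.mem_maximalIdeal_iff S _).1 (hx i))
  · intro i
    rw [AlgHom.comp_apply, evalHom_X, (CRing.mem_maximalIdeal_iff S _).1 (hx i)]
    change 0 = R.res (coeffHom R n (MvPowerSeries.X i))
    rw [coeffHom_apply, MvPowerSeries.constantCoeff_X, map_zero]
  · rw [AlgHom.comp_assoc, evalHom_comp_constHom, hg, res_comp_constHom]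

lemma X_mem (R : CRing Λ k) (n : ℕ) (i : Fin n) :
    (MvPowerSeries.X i : MvPowerSeries (Fin n) R.carrier) ∈ IsLocalRing.maximalIdeal (ps R n).carrier := by
  rw [CRing.mem_maximalIdeal_iff]
  change R.res (coeffHom R n (MvPowerSeries.X i)) = 0
  rw [coeffHom_apply, MvPowerSeries.constantCoeff_X, map_zero]

lemma map_constHom (R : CRing Λ k) (n : ℕ) (I : Ideal R.carrier) :
    I.map (constHom R n) = I.map (MvPowerSeries.C : R.carrier →+* MvPowerSeries (Fin n) R.carrier) :=
  congrArg Ideal.span (Set.image_congr fun x _ => constHom_apply R n x)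

/-- The maximal ideal of a power series ring. -/
lemma maximalIdeal_ps (R : CRing Λ k) (n : ℕ) :
    IsLocalRing.maximalIdeal (ps R n).carrier =
      (IsLocalRing.maximalIdeal R.carrier).map (constHom R n) ⊔
        Ideal.span (Set.range (MvPowerSeries.X : Fin n → MvPowerSeries (Fin n) R.carrier)) := by
  rw [map_constHom]
  exact Groth.Agent.CalgB.PowSerMap.maximalIdeal_eq (Λ := R.carrier) (σ := Fin n)

/-- The base ring as a coefficient ring. -/
noncomputable def baseRing [IsNoetherianRing Λ] [IsLocalRing Λ] [IsAdicComplete (IsLocalRing.maximalIdeal Λ) Λ]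
    (hk : Function.Surjective (algebraMap Λ k)) : CRing Λ k :=
  { carrier := Λ
    res := Algebra.ofId Λ k
    res_surjective := hk
    isAdicComplete := inferInstance }

end K726.PowRing
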