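import Groth.Agent.ArtFun.K726.Retract
import Groth.Agent.ArtFun.K726.PowRing

/-!
# A versal family is a power series extension of any versal retract
-/

set_option autoImplicit false
set_option linter.unusedSectionVars false
set_option linter.style.haveILetI false
universe u v
open CategoryTheory ArtFun ArtFun.Art

namespace K726.PowSplit

open K726.MinVersal K726.PowRing

section MinGen

/-- Minimal generators of a finitely generated ideal of a local ring. -/
theorem exists_min_gen {R : Type*} [CommRing R] [IsLocalRing R] [IsNoetherianRing R] (K : Ideal R) :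
    ∃ (n : ℕ) (x : Fin n → R), Ideal.span (Set.range x) = K ∧
      ∀ c : Fin n → R, ∑ i, c i * x i = 0 → ∀ i, c i ∈ IsLocalRing.maximalIdeal R := by
  classical
  -- a generating family of minimal length
  have hex : ∃ n, ∃ x : Fin n → R, Ideal.span (Set.range x) = K := by
    obtain ⟨s, hs⟩ := IsNoetherian.noetherian K
    refine ⟨s.card, fun i => (s.equivFin.symm i : R), ?_⟩
    have h1 : Set.range (fun i => (s.equivFin.symm i : R)) = (s : Set R) := by
      ext r
      constructor
      · rintro ⟨i, rfl⟩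
        exact (s.equivFin.symm i).2
      · intro hr
        exact ⟨s.equivFin ⟨r, hr⟩, by simp⟩
    rw [h1]
    exact hs
  obtain ⟨N, ⟨x, hx⟩, hN⟩ : ∃ N, (∃ x : Fin N → R, Ideal.span (Set.range x) = K) ∧
      ∀ m < N, ¬ ∃ x : Fin m → R, Ideal.span (Set.range x) = K :=
    ⟨Nat.find hex, Nat.find_spec hex, fun m hm => Nat.find_min hex hm⟩
  refine ⟨N, x, hx, fun c hc i => ?_⟩
  by_contra hi
  have hu : IsUnit (c i) := by
    by_contra h
    exact hi ((IsLocalRing.mem_maximalIdeal _).2 h)
  cases N with
  | zero => exact i.elim0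
  | succ n =>
    apply hN n (Nat.lt_succ_self n)
    -- remove the `i`-th generator
    refine ⟨fun j => x (i.succAbove j), ?_⟩
    apply le_antisymm
    · rw [← hx]
      apply Ideal.span_mono
      rintro _ ⟨j, rfl⟩
      exact ⟨_, rfl⟩
    · rw [← hx, Ideal.span_le]
      rintro _ ⟨j, rfl⟩
      have hne : ∀ j, j ≠ i → x j ∈ Ideal.span (Set.range fun j => x (i.succAbove j)) := by
        intro j hj
        apply Ideal.subset_span
        obtain ⟨l, hl⟩ := Fin.exists_succAbove_eq hj
        exact ⟨l, by rw [← hl]⟩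
      by_cases hj : j = i
      · subst hj
        have h1 : c j * x j = - ∑ l ∈ Finset.univ.erase j, c l * x l := by
          rw [eq_neg_iff_add_eq_zero, Finset.add_sum_erase _ (fun l => c l * x l) (Finset.mem_univ j)]
          exact hc
        have h2 : c j * x j ∈ Ideal.span (Set.range fun l => x (j.succAbove l)) := by
          rw [h1]
          refine (Ideal.neg_mem_iff _).2 (Ideal.sum_mem _ fun l hl => ?_)
          exact Ideal.mul_mem_left _ _ (hne l (Finset.ne_of_mem_erase hl))
        obtain ⟨d, hd⟩ := hu.exists_left_inv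
        have h3 : x j = d * (c j * x j) := by rw [← mul_assoc, hd, one_mul]
        rw [h3]
        exact Ideal.mul_mem_left _ _ h2
      · exact hne j hj

end MinGen

variable {Λ : Type u} {k : Type u} [CommRing Λ] [Field k] [Algebra Λ k]

section Lift

variable {F : Art Λ k ⥤ Type v}

theorem along_congr {R S : CRing Λ k} (ξ : Family R.carrier R.res F) {f g : R.carrier →ₐ[Λ] S.carrier} (h : f = g)
    (hf : S.res.comp f = R.res) (hg : S.res.comp g = R.res) : ξ.along f hf = ξ.along g hg := by
  subst h
  rfl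

/-- Versal families lift formal elements, with a prescribed first step. -/
theorem exists_along_of_trunc_one {R : CRing Λ k} (ξ : Family R.carrier R.res F) (hξ : IsVersal ξ)
    (S : CRing Λ k) (η : FormalElt F S) (h : HomSet R.carrier R.res (S.trunc 1)) (hh : ξ.app _ h = η.elt 1) :
    ∃ (g : R.carrier →ₐ[Λ] S.carrier) (hg : S.res.comp g = R.res), (S.truncHom 1).1.comp g = h.1 ∧
      (ξ.along g hg).toFormalElt = η := by
  have step : ∀ (n : ℕ) (φ : HomSet R.carrier R.res (S.trunc (n + 1))), ξ.app _ φ = η.elt (n + 1) →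
      ∃ ψ : HomSet R.carrier R.res (S.trunc (n + 2)), HomSet.map (S.truncMap (n + 1)) ψ = φ ∧
        ξ.app _ ψ = η.elt (n + 2) := by
    intro n φ hφ
    refine hξ (S.truncMap (n + 1)) (truncMap_surjective S (n + 1)) φ _ ?_
    rw [hφ, η.compat]
  let T : ℕ → Type u := fun n => {φ : HomSet R.carrier R.res (S.trunc (n + 1)) // ξ.app _ φ = η.elt (n + 1)}
  let seq : ∀ n, T n := fun n => Nat.rec (motive := T) ⟨h, hh⟩
    (fun n φ => ⟨(step n φ.1 φ.2).choose, (step n φ.1 φ.2).choose_spec.2⟩) n
  have hseq : ∀ n, HomSet.map (S.truncMap (n + 1)) (seq (n + 1)).1 = (seq n).1 := fun n =>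
    (step n (seq n).1 (seq n).2).choose_spec.1
  obtain ⟨g, hg, hgn⟩ := K723.Formal.exists_glue S (fun n => HomSet.map (S.truncMap n) (seq n).1) (fun n => by
    rw [hseq])
  refine ⟨g, hg, ?_, ?_⟩
  · rw [hgn 1]
    exact congrArg Subtype.val (hseq 0)
  · apply FormalElt.ext'
    intro n
    have h1 : ξ.app _ (HomSet.map (S.truncMap n) (seq n).1) = η.elt n := by
      rw [ξ.natural, (seq n).2, η.compat]
    rw [← h1]
    change ξ.app _ _ = _
    congr 1
    exact Subtype.ext (hgn n)

end Lift

section Main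

variable {F : Art Λ k ⥤ Type v}

theorem main {R A : CRing Λ k} (ξ : Family R.carrier R.res F) (hξ : IsVersal ξ)
    (π : R.carrier →ₐ[Λ] A.carrier) (hπ : A.res.comp π = R.res)
    (s : A.carrier →ₐ[Λ] R.carrier) (hs : R.res.comp s = A.res) (hπs : π.comp s = AlgHom.id Λ _)
    (hfix : ((ξ.along π hπ).along s hs).toFormalElt = ξ.toFormalElt) :
    ∃ (n : ℕ) (e : R.carrier ≃ₐ[Λ] MvPowerSeries (Fin n) A.carrier),
      ∀ a : A.carrier, e (s a) = algebraMap A.carrier (MvPowerSeries (Fin n) A.carrier) a := by
  haveI := R.isAdicComplete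
  obtain ⟨n, x, hx, hmin⟩ := exists_min_gen (RingHom.ker π)
  have hπsa : ∀ a, π (s a) = a := fun a => DFunLike.congr_fun hπs a
  have hkerle : RingHom.ker π ≤ IsLocalRing.maximalIdeal R.carrier := by
    intro r hr
    rw [CRing.mem_maximalIdeal_iff, ← hπ]
    change A.res (π r) = 0
    rw [RingHom.mem_ker.1 hr, map_zero]
  have hxK : ∀ i, π (x i) = 0 := fun i => by
    have : x i ∈ RingHom.ker π := by
      rw [← hx]
      exact Ideal.subset_span ⟨i, rfl⟩
    exact this
  have hxm : ∀ i, x i ∈ IsLocalRing.maximalIdeal R.carrier := fun i => hkerle (hxK i)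
  let P : CRing Λ k := ps A n
  haveI := P.isAdicComplete
  let Φ : P.carrier →ₐ[Λ] R.carrier := evalHom (IsLocalRing.maximalIdeal R.carrier) A n s x hxm
  have hΦres : R.res.comp Φ = P.res := res_comp_evalHom A R n s hs x hxm
  have hΦX : ∀ i, Φ (MvPowerSeries.X i) = x i := fun i => evalHom_X _ A n s x hxm i
  have hΦC : ∀ a, Φ (MvPowerSeries.C a) = s a := fun a => evalHom_C _ A n s x hxm a
  have hΦc : Φ.comp (constHom A n) = s := evalHom_comp_constHom _ A n s x hxm
  -- `Φ` is surjective
  have hΦs : Function.Surjective Φ := by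
    refine K724.Complete.surjective_of_cotangent (Φ : P.carrier →+* R.carrier)
      (fun r => K724.Complete.exists_sub_mem P.res P.res_surjective R.res R.res_surjective Φ hΦres r) ?_
    apply le_antisymm
    · refine sup_le ?_ (Ideal.pow_le_self two_ne_zero)
      exact K724.Complete.map_le_maximalIdeal P.res P.res_surjective R.res R.res_surjective Φ hΦres
    · refine le_trans ?_ le_sup_left
      intro y hy
      have h1 : y = s (π y) + (y - s (π y)) := by ring
      rw [h1]
      refine Ideal.add_mem _ ?_ ?_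
      · rw [← hΦC]
        refine Ideal.mem_map_of_mem (Φ : P.carrier →+* R.carrier) ?_
        rw [CRing.mem_maximalIdeal_iff]
        have h2 := DFunLike.congr_fun (res_comp_constHom A n) (π y)
        rw [AlgHom.comp_apply, constHom_apply] at h2
        refine h2.trans ?_
        have h3 := DFunLike.congr_fun hπ y
        exact h3.trans ((CRing.mem_maximalIdeal_iff R y).1 hy)
      · have h2 : y - s (π y) ∈ RingHom.ker π := by
          rw [RingHom.mem_ker, map_sub, hπsa, sub_self]
        rw [← hx] at h2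
        refine Ideal.span_le.2 ?_ h2
        rintro _ ⟨i, rfl⟩
        rw [← hΦX]
        exact Ideal.mem_map_of_mem (Φ : P.carrier →+* R.carrier) (X_mem A n i)
  -- the kernel of `Φ` is contained in the square of the maximal ideal
  have hker : ∀ f : P.carrier, Φ f = 0 → f ∈ CRing.mpow P 1 := by
    intro f hf
    have h1 : f - MvPowerSeries.C (MvPowerSeries.constantCoeff f) ∈ Ideal.span (Set.range
        (MvPowerSeries.X : Fin n → MvPowerSeries (Fin n) A.carrier)) := by
      rw [Groth.Agent.Ega41.PowComplete.mem_span_X_iff, map_sub, MvPowerSeries.constantCoeff_C, sub_self]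
    obtain ⟨g, hg⟩ := (Ideal.mem_span_range_iff_exists_fun).1 h1
    have h2 : Φ (f - MvPowerSeries.C (MvPowerSeries.constantCoeff f)) = ∑ i, Φ (g i) * x i := by
      rw [← hg, map_sum]
      refine Finset.sum_congr rfl fun i _ => ?_
      rw [map_mul, hΦX]
    have h3 : ∑ i, Φ (g i) * x i = - s (MvPowerSeries.constantCoeff f) := by
      rw [← h2, map_sub, hf, hΦC, zero_sub]
    have h4 : MvPowerSeries.constantCoeff f = 0 := by
      have h5 := congrArg π h3
      rw [map_neg, hπsa, map_sum, Finset.sum_eq_zero (fun i _ => by rw [map_mul, hxK, mul_zero])] at h5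
      exact (neg_eq_zero.1 h5.symm)
    rw [h4, map_zero, neg_zero] at h3
    have h5 : ∀ i, g i ∈ IsLocalRing.maximalIdeal P.carrier := by
      intro i
      rw [CRing.mem_maximalIdeal_iff, ← hΦres]
      exact (CRing.mem_maximalIdeal_iff R _).1 (hmin _ h3 i)
    rw [h4, map_zero, sub_zero] at hg
    rw [← hg]
    refine Ideal.sum_mem _ fun i _ => ?_
    change g i * MvPowerSeries.X i ∈ IsLocalRing.maximalIdeal P.carrier ^ 2
    rw [pow_two]
    exact Ideal.mul_mem_mul (h5 i) (X_mem A n i)
  -- the induced map `R → P / m²`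
  have hdesc : ∃ h : HomSet R.carrier R.res (P.trunc 1), h.1.comp Φ = (P.truncHom 1).1 := by
    have hL : ∀ a ∈ RingHom.ker Φ, (P.truncHom 1).1 a = 0 := fun a ha =>
      Ideal.Quotient.eq_zero_iff_mem.2 (hker a ha)
    let h₀ : R.carrier →ₐ[Λ] P.trunc 1 := (Ideal.Quotient.liftₐ (RingHom.ker Φ) (P.truncHom 1).1 hL).comp
        (Ideal.quotientKerAlgEquivOfSurjective hΦs).symm.toAlgHom
    have h₁ : h₀.comp Φ = (P.truncHom 1).1 := by
      apply AlgHom.ext
      intro p
      have h2 : (Ideal.quotientKerAlgEquivOfSurjective hΦs).symm (Φ p) = Ideal.Quotient.mk _ p := by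
        rw [AlgEquiv.symm_apply_eq]
        rfl
      change Ideal.Quotient.liftₐ (RingHom.ker Φ) (P.truncHom 1).1 hL
        ((Ideal.quotientKerAlgEquivOfSurjective hΦs).symm (Φ p)) = _
      rw [h2]
      rfl
    refine ⟨⟨h₀, ?_⟩, h₁⟩
    apply AlgHom.ext
    intro r
    obtain ⟨p, rfl⟩ := hΦs r
    have h2 := DFunLike.congr_fun h₁ p
    change (P.trunc 1).res (h₀ (Φ p)) = _
    have h3 : h₀ (Φ p) = (P.truncHom 1).1 p := h2
    rw [h3]
    have h4 := DFunLike.congr_fun hΦres p
    exact (DFunLike.congr_fun (P.truncHom 1).2 p).trans h4.symm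
  obtain ⟨h, hh⟩ := hdesc
  let ξP : Family P.carrier P.res F := (ξ.along π hπ).along (constHom A n) (res_comp_constHom A n)
  have hξP : (ξP.along Φ hΦres).toFormalElt = ξ.toFormalElt := by
    rw [← hfix]
    exact congrArg Family.toFormalElt (along_congr (ξ.along π hπ) hΦc (by rw [hΦc, hs]) hs)
  have hhη : ξ.app _ h = ξP.toFormalElt.elt 1 := by
    rw [← app_eq_of_toFormalElt_eq hξP]
    change ξP.app _ _ = ξP.app _ _
    congr 1
    exact Subtype.ext hh
  obtain ⟨g, hg, hg1, -⟩ := exists_along_of_trunc_one ξ hξ P ξP.toFormalElt h hhη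
  -- the composite is an endomorphism of `P` congruent to the identity modulo `m²`
  have hγ : ∀ p : P.carrier, p - g (Φ p) ∈ IsLocalRing.maximalIdeal P.carrier ^ 2 := by
    intro p
    have h1 : (P.truncHom 1).1 (g (Φ p)) = h.1 (Φ p) := DFunLike.congr_fun hg1 (Φ p)
    have h2 : h.1 (Φ p) = (P.truncHom 1).1 p := DFunLike.congr_fun hh p
    exact Ideal.Quotient.eq.1 (h1.trans h2).symm
  have hγres : P.res.comp (g.comp Φ) = P.res := by
    rw [← AlgHom.comp_assoc, hg, hΦres]
  have hγs : Function.Surjective (g.comp Φ) := by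
    refine K724.Complete.surjective_of_cotangent ((g.comp Φ : P.carrier →ₐ[Λ] P.carrier) : P.carrier →+* P.carrier)
      (fun r => K724.Complete.exists_sub_mem P.res P.res_surjective P.res P.res_surjective _ hγres r) ?_
    apply le_antisymm
    · refine sup_le ?_ (Ideal.pow_le_self two_ne_zero)
      exact K724.Complete.map_le_maximalIdeal P.res P.res_surjective P.res P.res_surjective _ hγres
    · intro p hp
      have h1 : p = g (Φ p) + (p - g (Φ p)) := by ring
      rw [h1]
      exact Submodule.add_mem_sup (Ideal.mem_map_of_mem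
        ((g.comp Φ : P.carrier →ₐ[Λ] P.carrier) : P.carrier →+* P.carrier) hp) (hγ p)
  have hγi : Function.Injective ((g.comp Φ : P.carrier →ₐ[Λ] P.carrier) : P.carrier →+* P.carrier) :=
    injective_of_surjective_endo _ hγs
  have hΦi : Function.Injective Φ := Function.Injective.of_comp (f := g) hγi
  refine ⟨n, (AlgEquiv.ofBijective Φ ⟨hΦi, hΦs⟩).symm, fun a => ?_⟩
  rw [AlgEquiv.symm_apply_eq]
  have h1 : algebraMap A.carrier (MvPowerSeries (Fin n) A.carrier) a = MvPowerSeries.C a := constHom_apply A n a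
  rw [h1]
  exact (hΦC a).symm

end Main

end K726.PowSplit
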