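import Groth.Agent.ArtFun.K726.MinVersal
import Groth.Agent.ArtFun.K726.Fit
import Groth.Agent.ArtFun.K723.Length

/-!
# Retracts of coefficient rings and of versal families
-/

set_option autoImplicit false
set_option linter.unusedSectionVars false
set_option linter.style.haveILetI false
universe u v
open CategoryTheory ArtFun ArtFun.Art

namespace K726.Retract

variable {Λ : Type u} {k : Type u} [CommRing Λ] [Field k] [Algebra Λ k]

section Ring

variable (R : CRing Λ k) (A : Type u) [CommRing A] [Algebra Λ A] (π : R.carrier →ₐ[Λ] A) (s : A →ₐ[Λ] R.carrier)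
  (h : π.comp s = AlgHom.id Λ A) (hres : R.res.comp (s.comp π) = R.res)

include h in
theorem pi_s (a : A) : π (s a) = a := DFunLike.congr_fun h a

include h in
theorem surj : Function.Surjective π := fun a => ⟨s a, pi_s R A π s h a⟩

include s in
theorem nontrivial_of : Nontrivial A := (R.res.comp s : A →+* k).domain_nontrivial

include h in
theorem isLocal : IsLocalRing A :=
  haveI := nontrivial_of R A s
  IsLocalRing.of_surjective' (π : R.carrier →+* A) (surj R A π s h)

include h hres in
theorem mem_max_iff [IsLocalRing A] (a : A) : a ∈ IsLocalRing.maximalIdeal A ↔ R.res (s a) = 0 := by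
  have hs : Function.Surjective (R.res.comp s : A →+* k) := by
    intro c
    obtain ⟨r, rfl⟩ := R.res_surjective c
    exact ⟨π r, DFunLike.congr_fun hres r⟩
  rw [← IsLocalRing.eq_maximalIdeal (RingHom.ker_isMaximal_of_surjective _ hs)]
  rfl

include h hres in
theorem map_s_mem [IsLocalRing A] (n : ℕ) (a : A) (ha : a ∈ IsLocalRing.maximalIdeal A ^ n) :
    s a ∈ IsLocalRing.maximalIdeal R.carrier ^ n := by
  have h1 : Ideal.map (s : A →+* R.carrier) (IsLocalRing.maximalIdeal A) ≤ IsLocalRing.maximalIdeal R.carrier := by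
    rw [Ideal.map_le_iff_le_comap]
    intro x hx
    rw [Ideal.mem_comap, CRing.mem_maximalIdeal_iff]
    exact (mem_max_iff R A π s h hres x).1 hx
  refine Ideal.pow_right_mono h1 n ?_
  rw [← Ideal.map_pow]
  exact Ideal.mem_map_of_mem (s : A →+* R.carrier) ha

include h hres in
theorem map_pi_mem [IsLocalRing A] (n : ℕ) (a : R.carrier) (ha : a ∈ IsLocalRing.maximalIdeal R.carrier ^ n) :
    π a ∈ IsLocalRing.maximalIdeal A ^ n := by
  have h1 : Ideal.map (π : R.carrier →+* A) (IsLocalRing.maximalIdeal R.carrier) ≤ IsLocalRing.maximalIdeal A := by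
    rw [Ideal.map_le_iff_le_comap]
    intro x hx
    rw [Ideal.mem_comap, mem_max_iff R A π s h hres]
    have e1 : R.res (s (π x)) = R.res x := DFunLike.congr_fun hres x
    exact e1.trans ((CRing.mem_maximalIdeal_iff R x).1 hx)
  refine Ideal.pow_right_mono h1 n ?_
  rw [← Ideal.map_pow]
  exact Ideal.mem_map_of_mem (π : R.carrier →+* A) ha

include h hres in
theorem complete [IsLocalRing A] : IsAdicComplete (IsLocalRing.maximalIdeal A) A := by
  haveI := R.isAdicComplete
  haveI : IsHausdorff (IsLocalRing.maximalIdeal A) A := ⟨fun x hx => by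
    have h1 : s x = 0 := by
      apply IsHausdorff.haus (I := IsLocalRing.maximalIdeal R.carrier) inferInstance
      intro n
      have h2 := hx n
      rw [SModEq.zero, smul_eq_mul, Ideal.mul_top] at h2 ⊢
      exact map_s_mem R A π s h hres n x h2
    rw [← pi_s R A π s h x, h1, map_zero]⟩
  haveI : IsPrecomplete (IsLocalRing.maximalIdeal A) A := ⟨fun f hf => by
    obtain ⟨L, hL⟩ := IsPrecomplete.prec (I := IsLocalRing.maximalIdeal R.carrier) (M := R.carrier) inferInstance
      (f := fun n => s (f n)) (fun {m n} hmn => by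
        have h2 := hf hmn
        rw [SModEq.sub_mem, smul_eq_mul, Ideal.mul_top] at h2 ⊢
        rw [← map_sub]
        exact map_s_mem R A π s h hres m _ h2)
    refine ⟨π L, fun n => ?_⟩
    have h2 := hL n
    rw [SModEq.sub_mem, smul_eq_mul, Ideal.mul_top] at h2 ⊢
    have h3 := map_pi_mem R A π s h hres n _ h2
    rwa [map_sub, pi_s R A π s h] at h3⟩
  exact {}

/-- A retract of a coefficient ring is a coefficient ring. -/
noncomputable abbrev ofRetract : CRing Λ k :=
  haveI := isLocal R A π s h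
  { carrier := A
    isNoetherianRing := isNoetherianRing_of_surjective R.carrier A (π : R.carrier →+* A) (surj R A π s h)
    res := R.res.comp s
    res_surjective := fun c => by
      obtain ⟨r, hr⟩ := R.res_surjective c
      exact ⟨π r, (DFunLike.congr_fun hres r).trans hr⟩
    isAdicComplete := complete R A π s h hres }

theorem res_comp_pi : (ofRetract R A π s h hres).res.comp π = R.res := hres

theorem res_comp_s : R.res.comp s = (ofRetract R A π s h hres).res := rfl

omit [CommRing A] [Algebra Λ A] in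
/-- The retract defined by an idempotent endomorphism. -/
theorem exists_retract (e : R.carrier →ₐ[Λ] R.carrier) (he : R.res.comp e = R.res) (hidem : ∀ r, e (e r) = e r) :
    ∃ (A : CRing Λ k) (π : R.carrier →ₐ[Λ] A.carrier) (s : A.carrier →ₐ[Λ] R.carrier),
      A.res.comp π = R.res ∧ R.res.comp s = A.res ∧ π.comp s = AlgHom.id Λ _ ∧ s.comp π = e := by
  let A₀ := R.carrier ⧸ RingHom.ker e
  let π : R.carrier →ₐ[Λ] A₀ := Ideal.Quotient.mkₐ Λ (RingHom.ker e)
  let s : A₀ →ₐ[Λ] R.carrier := Ideal.Quotient.liftₐ (RingHom.ker e) e (fun a ha => ha)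
  have hsπ : s.comp π = e := AlgHom.ext fun _ => rfl
  have hπs : π.comp s = AlgHom.id Λ A₀ := by
    apply AlgHom.ext
    intro a
    obtain ⟨r, rfl⟩ := Ideal.Quotient.mk_surjective a
    change Ideal.Quotient.mk (RingHom.ker e) (e r) = Ideal.Quotient.mk (RingHom.ker e) r
    rw [Ideal.Quotient.eq, RingHom.mem_ker, map_sub, hidem, sub_self]
  have hresA : R.res.comp (s.comp π) = R.res := by rw [hsπ, he]
  exact ⟨ofRetract R A₀ π s hπs hresA, π, s, hresA, rfl, hπs, hsπ⟩

omit [CommRing A] [Algebra Λ A] in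
/-- Maps of coefficient rings are local. -/
theorem map_mem_pow {R S : CRing Λ k} (f : R.carrier →ₐ[Λ] S.carrier) (hf : S.res.comp f = R.res) (n : ℕ)
    (x : R.carrier) (hx : x ∈ IsLocalRing.maximalIdeal R.carrier ^ n) :
    f x ∈ IsLocalRing.maximalIdeal S.carrier ^ n := by
  have h1 : Ideal.map (f : R.carrier →+* S.carrier) (IsLocalRing.maximalIdeal R.carrier) ≤
      IsLocalRing.maximalIdeal S.carrier := by
    rw [Ideal.map_le_iff_le_comap]
    intro x hx
    rw [Ideal.mem_comap, CRing.mem_maximalIdeal_iff]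
    have := (CRing.mem_maximalIdeal_iff R x).1 hx
    rw [← hf] at this
    exact this
  refine Ideal.pow_right_mono h1 n ?_
  rw [← Ideal.map_pow]
  exact Ideal.mem_map_of_mem (f : R.carrier →+* S.carrier) hx

end Ring

section Versal

open K726.MinVersal

variable {F : Art Λ k ⥤ Type v}

/-- A retract of a versal family is versal. -/
theorem isVersal_along {R A : CRing Λ k} (ξ : Family R.carrier R.res F) (hξ : IsVersal ξ)
    (π : R.carrier →ₐ[Λ] A.carrier) (hπ : A.res.comp π = R.res)
    (s : A.carrier →ₐ[Λ] R.carrier) (hs : R.res.comp s = A.res) (h : π.comp s = AlgHom.id Λ _)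
    (hfix : (ξ.along (s.comp π) (by rw [← AlgHom.comp_assoc, hs, hπ])).toFormalElt = ξ.toFormalElt) :
    IsVersal (ξ.along π hπ) := by
  intro C B μ hμ u b hu
  obtain ⟨v, hv, hvb⟩ := hξ μ hμ (⟨u.1.comp π, by rw [← AlgHom.comp_assoc, u.2, hπ]⟩ : HomSet R.carrier R.res _) b hu
  refine ⟨⟨v.1.comp s, by rw [← AlgHom.comp_assoc, v.2, hs]⟩, ?_, ?_⟩
  · apply Subtype.ext
    have h1 : μ.toAlgHom.comp v.1 = u.1.comp π := congrArg Subtype.val hv
    change μ.toAlgHom.comp (v.1.comp s) = u.1
    rw [← AlgHom.comp_assoc, h1, AlgHom.comp_assoc, h, AlgHom.comp_id]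
  · rw [← hvb]
    exact app_eq_of_toFormalElt_eq hfix _ v

end Versal

section Proj

open K726.MinVersal K726.Fit

variable {F : Art Λ k ⥤ Type v} [IsNoetherianRing Λ] [Module.Finite Λ k]

/-- The idempotent attached to an endomorphism of a formal element. -/
theorem exists_projection {R : CRing Λ k} (ξ : Family R.carrier R.res F)
    (φ : R.carrier →ₐ[Λ] R.carrier) (hφ : R.res.comp φ = R.res)
    (hfix : (ξ.along φ hφ).toFormalElt = ξ.toFormalElt) :
    ∃ (e : R.carrier →ₐ[Λ] R.carrier) (he : R.res.comp e = R.res), (∀ r, e (e r) = e r) ∧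
      (ξ.along e he).toFormalElt = ξ.toFormalElt ∧
      ∀ (n : ℕ) (x : R.carrier), φ x ∈ CRing.mpow R n → e x ∈ CRing.mpow R n := by
  haveI hart : ∀ n, IsArtinian Λ (R.trunc n) := fun n => K723.Length.isArtinian Λ k (R.trunc n)
  haveI hnoe : ∀ n, IsNoetherian Λ (R.trunc n) := fun n => K723.Length.isNoetherian Λ k (R.trunc n)
  haveI := K723.Length.isArtinian_base Λ k
  haveI : IsNoetherian Λ k := inferInstance
  let φn : ∀ n, R.trunc n ⟶ R.trunc n := fun n => CRing.truncMapOfHom φ hφ n
  -- the projections on the truncations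
  have hresfit : ∀ n, (R.trunc n).res.comp (fit (φn n).toAlgHom) = (R.trunc n).res := by
    intro n
    apply AlgHom.ext
    intro x
    have h1 := fit_map (φn n).toAlgHom (AlgHom.id Λ k) (R.trunc n).res (fun x => res_app (φn n) x) x
    refine h1.trans ?_
    refine fit_eq (AlgHom.id Λ k) ⟨fun j => ⟨(R.trunc n).res x, ?_⟩, 0, rfl⟩
    exact Function.iterate_fixed rfl j
  let fitHom : ∀ n, R.trunc n ⟶ R.trunc n := fun n => ⟨fit (φn n).toAlgHom, hresfit n⟩
  let en : ∀ n, HomSet R.carrier R.res (R.trunc n) := fun n => HomSet.map (fitHom n) (R.truncHom n)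
  have hcompat : ∀ n, HomSet.map (R.truncMap n) (en (n + 1)) = en n := by
    intro n
    apply Subtype.ext
    apply AlgHom.ext
    intro r
    refine fit_map (φn (n + 1)).toAlgHom (φn n).toAlgHom (R.truncMap n) (fun x => ?_) ((R.truncHom (n + 1)).1 r)
    exact DFunLike.congr_fun (congrArg Hom.toAlgHom (CRing.truncMapOfHom_truncMap φ hφ n)) x
  obtain ⟨e, he, hen⟩ := K723.Formal.exists_glue R en hcompat
  have hen' : ∀ n x, (R.truncHom n).1 (e x) = fit (φn n).toAlgHom ((R.truncHom n).1 x) := fun n x =>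
    DFunLike.congr_fun (hen n) x
  refine ⟨e, he, ?_, ?_, ?_⟩
  · intro r
    apply K723.Formal.eq_of_forall_trunc
    intro n
    rw [hen', hen', fit_fit]
  · -- the formal element is fixed
    apply FormalElt.ext'
    intro n
    have h1 : F.map (φn n) (ξ.app _ (R.truncHom n)) = ξ.app _ (R.truncHom n) := by
      have := congrArg (fun t => t.elt n) hfix
      refine Eq.trans ?_ this
      rw [← ξ.natural]
      rfl
    let pw : ℕ → (R.trunc n ⟶ R.trunc n) := fun j => Nat.rec (𝟙 _) (fun _ g => φn n ≫ g) j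
    have hpw : ∀ j x, (pw j) x = (φn n).toAlgHom^[j] x := by
      intro j
      induction j with
      | zero => intro x; rfl
      | succ j ih =>
        intro x
        rw [Function.iterate_succ_apply]
        exact ih _
    have hpwF : ∀ j, F.map (pw j) (ξ.app _ (R.truncHom n)) = ξ.app _ (R.truncHom n) := by
      intro j
      induction j with
      | zero => exact K724.Basic.map_id_apply F _ _
      | succ j ih =>
        change F.map (φn n ≫ pw j) _ = _
        rw [← K724.Basic.map_comp_apply, h1, ih]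
    obtain ⟨j, hj⟩ := exists_fit_iterate (φn n).toAlgHom
    have h2 : pw j ≫ fitHom n = pw j := by
      apply hom_ext
      apply AlgHom.ext
      intro x
      change fit (φn n).toAlgHom ((pw j) x) = (pw j) x
      rw [hpw, hj]
    have h3 : F.map (fitHom n) (ξ.app _ (R.truncHom n)) = ξ.app _ (R.truncHom n) := by
      conv_lhs => rw [← hpwF j]
      rw [K724.Basic.map_comp_apply, h2, hpwF]
    refine Eq.trans ?_ h3
    rw [← ξ.natural]
    change ξ.app _ _ = ξ.app _ _
    congr 1
    exact Subtype.ext (hen n)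
  · intro n x hx
    have h1 : (R.truncHom n).1 (e x) = 0 := by
      rw [hen', fit_eq_zero_iff]
      exact ⟨1, Ideal.Quotient.eq_zero_iff_mem.2 hx⟩
    exact Ideal.Quotient.eq_zero_iff_mem.1 h1

/-- Every versal family retracts onto a minimal versal family. -/
theorem exists_minimal (h0 : H0 F) {R : CRing Λ k} (ξ : Family R.carrier R.res F) (hξ : IsVersal ξ) :
    ∃ (A : CRing Λ k) (π : R.carrier →ₐ[Λ] A.carrier) (hπ : A.res.comp π = R.res)
      (s : A.carrier →ₐ[Λ] R.carrier) (hs : R.res.comp s = A.res), π.comp s = AlgHom.id Λ _ ∧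
      (ξ.along π hπ).IsMinimalVersal ∧ ((ξ.along π hπ).along s hs).toFormalElt = ξ.toFormalElt := by
  let S : Set (Ideal R.carrier) := {I | ∃ (e : R.carrier →ₐ[Λ] R.carrier) (he : R.res.comp e = R.res),
    (∀ r, e (e r) = e r) ∧ (ξ.along e he).toFormalElt = ξ.toFormalElt ∧ RingHom.ker e = I}
  have hS : S.Nonempty := ⟨_, AlgHom.id Λ _, AlgHom.comp_id _, fun _ => rfl, rfl, rfl⟩
  obtain ⟨I, ⟨e, he, hidem, hfix, hI⟩, hmax⟩ := set_has_maximal_iff_noetherian.2
    (inferInstance : IsNoetherian R.carrier R.carrier) S hS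
  obtain ⟨A, π, s, hπA, hsA, hπs, hsπ⟩ := exists_retract R e he hidem
  have hkerπ : ∀ x, π x = 0 ↔ e x = 0 := by
    intro x
    rw [← hsπ]
    refine ⟨fun h => by rw [AlgHom.comp_apply, h, map_zero], fun h => ?_⟩
    have h1 : π (s (π x)) = π x := DFunLike.congr_fun hπs _
    rw [← h1]
    have h2 : s (π x) = 0 := h
    rw [h2, map_zero]
  have hfix₁ : (ξ.along (s.comp π) (by rw [← AlgHom.comp_assoc, hsA, hπA])).toFormalElt = ξ.toFormalElt := by
    rw [← hfix]
    congr 2
  have hfix' : ((ξ.along π hπA).along s hsA).toFormalElt = ξ.toFormalElt := hfix₁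
  have hv : IsVersal (ξ.along π hπA) := isVersal_along ξ hξ π hπA s hsA hπs hfix₁
  refine ⟨A, π, hπA, s, hsA, hπs, ?_, hfix'⟩
  refine isMinimalVersal_of_endo h0 _ hv fun θ hθ hθfix => ?_
  -- the endomorphism `s θ π` of `R`
  let φ : R.carrier →ₐ[Λ] R.carrier := (s.comp θ).comp π
  have hφ : R.res.comp φ = R.res := by
    change (R.res.comp (s.comp θ)).comp π = _
    rw [← AlgHom.comp_assoc, hsA, hθ, hπA]
  have hφfix : (ξ.along φ hφ).toFormalElt = ξ.toFormalElt := by
    have h1 := toFormalElt_along_eq hθfix s hsA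
    exact h1.trans hfix'
  obtain ⟨e', he', hidem', hfixe', hker'⟩ := exists_projection ξ φ hφ hφfix
  have hle : I ≤ RingHom.ker e' := by
    intro x hx
    rw [← hI] at hx
    have hx' : π x = 0 := (hkerπ x).2 hx
    have h1 : φ x = 0 := by
      change s (θ (π x)) = 0
      rw [hx', map_zero, map_zero]
    rw [RingHom.mem_ker]
    apply K723.Formal.eq_of_forall_trunc
    intro n
    rw [map_zero]
    refine Ideal.Quotient.eq_zero_iff_mem.2 (hker' n x ?_)
    rw [h1]
    exact Ideal.zero_mem _
  have heq : I = RingHom.ker e' := by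
    by_contra hne
    exact hmax _ ⟨e', he', hidem', hfixe', rfl⟩ (lt_of_le_of_ne hle hne)
  have hinj : ∀ (n : ℕ) (a : A.carrier), θ a ∈ IsLocalRing.maximalIdeal A.carrier ^ n →
      1 ≤ n → a ∈ IsLocalRing.maximalIdeal A.carrier ^ n := by
    intro n a ha hn
    obtain ⟨n, rfl⟩ := Nat.exists_eq_add_of_le' hn
    have h1 : φ (s a) ∈ CRing.mpow R n := by
      change s (θ (π (s a))) ∈ _
      rw [show π (s a) = a from DFunLike.congr_fun hπs a]
      exact map_mem_pow s hsA (n + 1) _ ha
    have h2 := hker' n _ h1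
    have h3 : π (s a - e' (s a)) = 0 := by
      rw [hkerπ]
      have : s a - e' (s a) ∈ I := by
        rw [heq, RingHom.mem_ker, map_sub, hidem', sub_self]
      rw [← hI] at this
      exact this
    rw [map_sub, sub_eq_zero, show π (s a) = a from DFunLike.congr_fun hπs a] at h3
    rw [h3]
    exact map_mem_pow π hπA (n + 1) _ h2
  haveI := A.isAdicComplete
  refine K724.Complete.surjective_of_cotangent (θ : A.carrier →+* A.carrier)
    (fun a => K724.Complete.exists_sub_mem A.res A.res_surjective A.res A.res_surjective θ hθ a) ?_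
  have hθ2 : ∀ y : A.carrier, ∃ x, y - θ x ∈ IsLocalRing.maximalIdeal A.carrier ^ 2 := by
    haveI : IsArtinian Λ (A.trunc 1) := K723.Length.isArtinian Λ k (A.trunc 1)
    let t := (CRing.truncMapOfHom θ hθ 1).toAlgHom
    have ht : Function.Injective t.toLinearMap := by
      rw [injective_iff_map_eq_zero]
      intro a ha
      obtain ⟨x, rfl⟩ := Ideal.Quotient.mk_surjective a
      have h1 : θ x ∈ CRing.mpow A 1 := Ideal.Quotient.eq_zero_iff_mem.1 ha
      exact Ideal.Quotient.eq_zero_iff_mem.2 (hinj 2 x h1 (by norm_num))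
    have hts := IsArtinian.surjective_of_injective_endomorphism t.toLinearMap ht
    intro y
    obtain ⟨x, hx⟩ := hts (Ideal.Quotient.mk _ y)
    obtain ⟨x, rfl⟩ := Ideal.Quotient.mk_surjective x
    have h1 : Ideal.Quotient.mk (CRing.mpow A 1) (θ x) = Ideal.Quotient.mk (CRing.mpow A 1) y := hx
    refine ⟨x, ?_⟩
    exact Ideal.Quotient.eq.1 h1.symm
  apply le_antisymm
  · refine sup_le ?_ (Ideal.pow_le_self two_ne_zero)
    exact K724.Complete.map_le_maximalIdeal A.res A.res_surjective A.res A.res_surjective θ hθ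
  · intro y hy
    obtain ⟨x, hx⟩ := hθ2 y
    have hxm : x ∈ IsLocalRing.maximalIdeal A.carrier := by
      rw [CRing.mem_maximalIdeal_iff, ← hθ]
      have h1 : A.res (y - θ x) = 0 := (CRing.mem_maximalIdeal_iff A _).1 (Ideal.pow_le_self two_ne_zero hx)
      rw [map_sub, (CRing.mem_maximalIdeal_iff A y).1 hy, zero_sub, neg_eq_zero] at h1
      exact h1
    have h2 : y = θ x + (y - θ x) := by ring
    rw [h2]
    exact Submodule.add_mem_sup (Ideal.mem_map_of_mem (θ : A.carrier →+* A.carrier) hxm) hx

end Proj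

end K726.Retract
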