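import Groth.Prelude.Def_ArtFun3
import Groth.Agent.ArtFun.K724.Basic
import Groth.Agent.ArtFun.K724.Smooth
import Groth.Agent.ArtFun.K724.Dual
import Groth.Agent.ArtFun.K726.Desc
import Mathlib.RingTheory.Flat.FaithfullyFlat.Basic

/-!
# From the conditions on small extensions to (RS); the one-point criterion; smoothness from obstruction theories
-/

set_option autoImplicit false
set_option linter.unusedSectionVars false
set_option linter.style.haveILetI false
universe u v
open CategoryTheory ArtFun ArtFun.Art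

namespace K726.Rs

open K726.Desc

variable {Λ : Type u} {k : Type u} [CommRing Λ] [Field k] [Algebra Λ k]
  [IsNoetherianRing Λ] [Module.Finite Λ k]

/-- Elements with the same image under a small extension are related by a point of the self fibre product; over `k[ε]` the
first component and the tangent component determine the point. -/
theorem cmp_injective_small {F : Art Λ k ⥤ Type v} (h1 : S1 F) (h2 : Heps F) (h4 : HSq F)
    {B A A' A'' : Art Λ k} {p' : B ⟶ A'} {p'' : B ⟶ A''} {f' : A' ⟶ A} {f'' : A'' ⟶ A}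
    (h : IsFibreProd p' p'' f' f'') (hf : IsSmallExt f'') : Function.Injective (cmp F h) := by
  intro z w hzw
  have hz' : F.map p' z = F.map p' w := congrArg (fun t => t.1.1) hzw
  have hz'' : F.map p'' z = F.map p'' w := congrArg (fun t => t.1.2) hzw
  have hp' : Function.Surjective p' := K724.Basic.IsFibreProd.surjective_fst h hf.1
  obtain ⟨Q, π₁, π₂, hQ⟩ := K724.Basic.exists_isFibreProd p' p' hp'
  obtain ⟨P, p₁, p₂, hP⟩ := K724.Basic.exists_isFibreProd f'' f'' hf.1
  obtain ⟨q, hq⟩ := K724.Dual.exists_isFibreProd_dual hf hP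
  have hw1 : π₁ ≫ p' = π₂ ≫ p' := hQ.w
  obtain ⟨r, hr₁, hr₂⟩ := Desc.exists_lift hP (π₁ ≫ p'') (π₂ ≫ p'') (by
    rw [Category.assoc, Category.assoc, ← h.w, ← Category.assoc, hw1, Category.assoc])
  -- the square for `Q` over `k[ε]`
  have hQd : IsFibreProd π₁ (r ≫ q) (toBase B) (toBase (dual Λ k)) := by
    refine ⟨by rw [eq_toBase (π₁ ≫ _), eq_toBase ((r ≫ q) ≫ _)], ?_, ?_⟩
    · intro x y hx hy
      apply hQ.inj x y hx
      apply h.inj
      · have e1 : ∀ x : Q, p' (π₂ x) = p' (π₁ x) := fun x => (hQ.w_apply x).symm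
        rw [e1, e1, hx]
      · have e2 : r x = r y := by
          apply hq.inj
          · have e3 : ∀ x : Q, p₁ (r x) = p'' (π₁ x) := fun x => by
              change (r ≫ p₁) x = (π₁ ≫ p'') x
              rw [hr₁]
            rw [e3, e3, hx]
          · exact hy
        have e4 : ∀ x : Q, p'' (π₂ x) = p₂ (r x) := fun x => by
          change (π₂ ≫ p'') x = (r ≫ p₂) x
          rw [hr₂]
        rw [e4, e4, e2]
    · intro b d hbd
      obtain ⟨y, hy1, hy2⟩ := hq.surj (p'' b) d (by
        rw [← hbd]
        exact res_app p'' b)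
      have e5 : f'' (p₂ y) = f' (p' b) := by
        rw [← hP.w_apply, hy1, ← h.w_apply]
      obtain ⟨b', hb1, hb2⟩ := h.surj (p' b) (p₂ y) e5.symm
      obtain ⟨x, hx1, hx2⟩ := hQ.surj b b' hb1.symm
      refine ⟨x, hx1, ?_⟩
      have e6 : r x = y := by
        apply hP.inj
        · have e3 : p₁ (r x) = p'' (π₁ x) := by
            change (r ≫ p₁) x = (π₁ ≫ p'') x
            rw [hr₁]
          rw [e3, hx1, hy1]
        · have e4 : p₂ (r x) = p'' (π₂ x) := by
            change (r ≫ p₂) x = (π₂ ≫ p'') x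
            rw [hr₂]
          rw [e4, hx2, hb2]
      change q (r x) = d
      rw [e6, hy2]
  obtain ⟨Δ, hΔ₁, hΔ₂⟩ := Desc.exists_lift hQ (𝟙 B) (𝟙 B) rfl
  obtain ⟨y, hy⟩ := h1 π₁ π₂ p' p' hQ hp' ⟨(z, w), hz'⟩
  have hy1 : F.map π₁ y = z := congrArg (fun t => t.1.1) hy
  have hy2 : F.map π₂ y = w := congrArg (fun t => t.1.2) hy
  -- the image of `y` in `F(P)` is diagonal
  have hry : F.map r y = F.map r (F.map Δ z) := by
    apply (h4 p₁ p₂ f'' hP hf).1
    apply FibProd.ext
    · change F.map p₁ (F.map r y) = F.map p₁ (F.map r (F.map Δ z))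
      rw [← map_comp_apply F r, ← map_comp_apply F r, hr₁, map_comp_apply F, map_comp_apply F, hy1,
        ← map_comp_apply F Δ, hΔ₁, map_id_apply]
    · change F.map p₂ (F.map r y) = F.map p₂ (F.map r (F.map Δ z))
      rw [← map_comp_apply F r, ← map_comp_apply F r, hr₂, map_comp_apply F, map_comp_apply F, hy2,
        ← map_comp_apply F Δ, hΔ₂, map_id_apply, hz'']
  have hyΔ : y = F.map Δ z := by
    apply (h2 π₁ (r ≫ q) hQd).1
    apply FibProd.ext
    · change F.map π₁ y = F.map π₁ (F.map Δ z)
      rw [hy1, ← map_comp_apply F Δ, hΔ₁, map_id_apply]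
    · change F.map (r ≫ q) y = F.map (r ≫ q) (F.map Δ z)
      rw [map_comp_apply F r, map_comp_apply F r, hry]
  rw [← hy2, hyΔ, ← map_comp_apply F Δ, hΔ₂, map_id_apply]

theorem cmp_injective {F : Art Λ k ⥤ Type v} (h1 : S1 F) (h2 : Heps F) (h4 : HSq F)
    {A A'' : Art Λ k} (f'' : A'' ⟶ A) (hf : Function.Surjective f'') :
    ∀ {B A' : Art Λ k} (p' : B ⟶ A') (p'' : B ⟶ A'') (f' : A' ⟶ A)
    (h : IsFibreProd p' p'' f' f''), Function.Injective (cmp F h) := by
  refine K724.Basic.surjective_induction (fun A A'' f'' => ∀ {B A' : Art Λ k} (p' : B ⟶ A') (p'' : B ⟶ A'')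
    (f' : A' ⟶ A) (h : IsFibreProd p' p'' f' f''), Function.Injective (cmp F h)) ?_ ?_ f'' hf
  · intro A A'' e he B A' p' p'' f' h z w hzw
    have hz' : F.map p' z = F.map p' w := congrArg (fun t => t.1.1) hzw
    have hbij : Function.Bijective p' := by
      have he' := K724.Basic.bijective_of_isIso e
      refine ⟨?_, K724.Basic.IsFibreProd.surjective_fst h he'.2⟩
      intro x y hxy
      apply h.inj x y hxy
      apply he'.1
      rw [← h.w_apply, ← h.w_apply, hxy]
    haveI := K724.Basic.isIso_of_bijective p' hbij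
    exact (K724.Smooth.map_bijective_of_isIso F p').1 hz'
  · intro A A₁ A'' p q hp hq ih B A' p' p'' f' h z w hzw
    have hz' : F.map p' z = F.map p' w := congrArg (fun t => t.1.1) hzw
    have hz'' : F.map p'' z = F.map p'' w := congrArg (fun t => t.1.2) hzw
    obtain ⟨B₁, s', s₁, hB₁⟩ := K724.Basic.exists_isFibreProd f' q hq
    obtain ⟨t, ht1, ht2⟩ := Desc.exists_lift hB₁ p' (p'' ≫ p) (by rw [h.w, Category.assoc])
    have hB : IsFibreProd t p'' s₁ p := by
      refine ⟨by rw [ht2], ?_, ?_⟩
      · intro x y hx hy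
        apply h.inj x y _ hy
        have e1 : ∀ x : B, p' x = s' (t x) := fun x => by
          change p' x = (t ≫ s') x
          rw [ht1]
        rw [e1, e1, hx]
      · intro b₁ a'' hba
        obtain ⟨b, hb1, hb2⟩ := h.surj (s' b₁) a'' (by
          change f' (s' b₁) = q (p a'')
          rw [← hba, hB₁.w_apply])
        refine ⟨b, ?_, hb2⟩
        apply hB₁.inj
        · change (t ≫ s') b = s' b₁
          rw [ht1, hb1]
        · change (t ≫ s₁) b = s₁ b₁
          rw [ht2, hba, ← hb2]
          rfl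
    apply cmp_injective_small h1 h2 h4 hB hp
    apply FibProd.ext
    · change F.map t z = F.map t w
      apply ih s' s₁ f' hB₁
      apply FibProd.ext
      · change F.map s' (F.map t z) = F.map s' (F.map t w)
        rw [← map_comp_apply F, ← map_comp_apply F, ht1, hz']
      · change F.map s₁ (F.map t z) = F.map s₁ (F.map t w)
        rw [← map_comp_apply F, ← map_comp_apply F, ht2, map_comp_apply F, map_comp_apply F, hz'']
    · exact hz''

/-- A functor satisfying (H₁), (H₂) with a one-point tangent space is injective along surjections. -/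
theorem map_injective_of_subsingleton {F : Art Λ k ⥤ Type v} (h1 : S1 F) (h2 : Heps F)
    (ht : Subsingleton (TangentSpace F)) {A B : Art Λ k} (p : B ⟶ A) (hp : Function.Surjective p) :
    Function.Injective (F.map p) := by
  refine K724.Basic.surjective_induction (fun A B p => Function.Injective (F.map p)) ?_ ?_ p hp
  · intro A B e he
    exact (K724.Smooth.map_bijective_of_isIso F e).1
  · intro A B C p q hp hq ih
    have hp' : Function.Injective (F.map p) := by
      intro z w hzw
      obtain ⟨P, p₁, p₂, hP⟩ := K724.Basic.exists_isFibreProd p p hp.1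
      obtain ⟨r, hr⟩ := K724.Dual.exists_isFibreProd_dual hp hP
      obtain ⟨Δ, hΔ₁, hΔ₂⟩ := Desc.exists_lift hP (𝟙 C) (𝟙 C) rfl
      obtain ⟨y, hy⟩ := h1 p₁ p₂ p p hP hp.1 ⟨(z, w), hzw⟩
      have hy1 : F.map p₁ y = z := congrArg (fun t => t.1.1) hy
      have hy2 : F.map p₂ y = w := congrArg (fun t => t.1.2) hy
      have hyΔ : y = F.map Δ z := by
        apply (h2 p₁ r hr).1
        apply FibProd.ext
        · change F.map p₁ y = F.map p₁ (F.map Δ z)
          rw [hy1, ← map_comp_apply F Δ, hΔ₁, map_id_apply]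
        · exact @Subsingleton.elim _ ht _ _
      rw [← hy2, hyΔ, ← map_comp_apply F Δ, hΔ₂, map_id_apply]
    intro z w hzw
    rw [map_comp_apply, map_comp_apply] at hzw
    exact hp' (ih hzw)

end K726.Rs
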