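import Groth.Agent.ArtFun.K726.MinVersal
import Groth.Agent.ArtFun.K726.PowRing
import Groth.Agent.ArtFun.K724.Smooth

/-!
# Families over power series rings bijective on tangent spaces are hulls, if a hull exists
-/

set_option autoImplicit false
set_option linter.unusedSectionVars false
set_option linter.style.haveILetI false
universe u v
open CategoryTheory ArtFun ArtFun.Art

namespace K726.SmoothHull

variable {Λ : Type u} {k : Type u} [CommRing Λ] [Field k] [Algebra Λ k]
variable {F : Art Λ k ⥤ Type v}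

/-- A functor with a miniversal family satisfies `H0`. -/
theorem h0_of_isMiniversal {R : Type u} [CommRing R] [Algebra Λ R] {resR : R →ₐ[Λ] k}
    (ξ : Family R resR F) (hξ : IsMiniversal ξ) : H0 F := by
  refine ⟨⟨ξ.app _ ⟨resR, AlgHom.id_comp _⟩⟩, ⟨?_⟩⟩
  -- the section `k → k[ε]` of the augmentation
  have hsec : baseToDual ≫ toBase (dual Λ k) = 𝟙 (base Λ k) := by
    rw [eq_toBase (baseToDual ≫ toBase (dual Λ k)), eq_toBase (𝟙 (base Λ k))]
  have key : ∀ x : F.obj (base Λ k), ∃ φ : HomSet R resR (base Λ k), ξ.app _ φ = x := by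
    intro x
    obtain ⟨φ, hφ⟩ := hξ.2.2 (F.map baseToDual x)
    refine ⟨HomSet.map (toBase (dual Λ k)) φ, ?_⟩
    rw [ξ.natural, hφ, K724.Basic.map_comp_apply, hsec, K724.Basic.map_id_apply]
  intro x y
  obtain ⟨φ, rfl⟩ := key x
  obtain ⟨ψ, rfl⟩ := key y
  congr 1
  apply Subtype.ext
  exact φ.2.trans ψ.2.symm

/-- Transport of miniversality along an isomorphism of coefficient rings. -/
theorem isMiniversal_along {R S : CRing Λ k} (ξ : Family R.carrier R.res F) (hξ : IsMiniversal ξ)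
    (e : R.carrier ≃ₐ[Λ] S.carrier) (he : S.res.comp (e : R.carrier →ₐ[Λ] S.carrier) = R.res) :
    IsMiniversal (ξ.along (e : R.carrier →ₐ[Λ] S.carrier) he) := by
  have he' : R.res.comp (e.symm : S.carrier →ₐ[Λ] R.carrier) = S.res := by
    rw [← he, AlgHom.comp_assoc]
    apply AlgHom.ext
    intro s
    simp
  refine ⟨?_, ?_, ?_⟩
  · intro B A μ hμ φ y hy
    obtain ⟨ψ, hψ1, hψ2⟩ := hξ.1 μ hμ ⟨φ.1.comp (e : R.carrier →ₐ[Λ] S.carrier),
      by rw [← AlgHom.comp_assoc, φ.2, he]⟩ y hy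
    refine ⟨⟨ψ.1.comp (e.symm : S.carrier →ₐ[Λ] R.carrier), by rw [← AlgHom.comp_assoc, ψ.2, he']⟩, ?_, ?_⟩
    · apply Subtype.ext
      have h1 : μ.toAlgHom.comp ψ.1 = φ.1.comp (e : R.carrier →ₐ[Λ] S.carrier) := congrArg Subtype.val hψ1
      change μ.toAlgHom.comp (ψ.1.comp (e.symm : S.carrier →ₐ[Λ] R.carrier)) = φ.1
      rw [← AlgHom.comp_assoc, h1]
      apply AlgHom.ext
      intro s
      simp
    · rw [← hψ2]
      change ξ.app B _ = ξ.app B ψ
      congr 1
      apply Subtype.ext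
      apply AlgHom.ext
      intro s
      simp
  · intro φ ψ h
    have h1 := hξ.2.1 h
    have h2 := congrArg Subtype.val h1
    apply Subtype.ext
    apply AlgHom.ext
    intro s
    have h3 := DFunLike.congr_fun h2 (e.symm s)
    simpa using h3
  · intro y
    obtain ⟨φ, hφ⟩ := hξ.2.2 y
    refine ⟨⟨φ.1.comp (e.symm : S.carrier →ₐ[Λ] R.carrier), by rw [← AlgHom.comp_assoc, φ.2, he']⟩, ?_⟩
    rw [← hφ]
    change ξ.app _ _ = ξ.app _ φ
    congr 1
    apply Subtype.ext
    apply AlgHom.ext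
    intro s
    simp

/-- A family is determined by its components; two families with the same formal element are versal together. -/
theorem isMiniversal_congr {R : CRing Λ k} {ξ₁ ξ₂ : Family R.carrier R.res F}
    (h : ξ₁.toFormalElt = ξ₂.toFormalElt) (h1 : IsMiniversal ξ₁) : IsMiniversal ξ₂ := by
  have : ξ₁ = ξ₂ := by
    have h2 := MinVersal.app_eq_of_toFormalElt_eq h
    cases ξ₁; cases ξ₂
    congr 1
    funext A φ
    exact h2 A φ
  rw [← this]
  exact h1

/-- Maps from `Λ[[t]]`-like rings lift along surjections of coefficient rings. -/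
theorem exists_section_of_powerSeries [IsNoetherianRing Λ] [IsLocalRing Λ]
    [IsAdicComplete (IsLocalRing.maximalIdeal Λ) Λ] (hk : Function.Surjective (algebraMap Λ k))
    {R S : CRing Λ k} (n : ℕ) (e : R.carrier ≃ₐ[Λ] MvPowerSeries (Fin n) Λ)
    (g : S.carrier →ₐ[Λ] R.carrier) (hg : R.res.comp g = S.res) (hgs : Function.Surjective g) :
    ∃ (σ : R.carrier →ₐ[Λ] S.carrier), S.res.comp σ = R.res ∧ g.comp σ = AlgHom.id Λ _ := by
  haveI := S.isAdicComplete
  haveI := R.isAdicComplete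
  -- `X_i` is mapped to the maximal ideal
  have hX : ∀ i : Fin n, R.res (e.symm (MvPowerSeries.X i)) = 0 := by
    intro i
    have : (MvPowerSeries.X i : MvPowerSeries (Fin n) Λ) ∈ IsLocalRing.maximalIdeal (MvPowerSeries (Fin n) Λ) := by
      rw [Groth.Agent.CalgB.PowSerMap.mem_maximalIdeal_iff, MvPowerSeries.constantCoeff_X]
      exact zero_mem _
    rw [← CRing.mem_maximalIdeal_iff, IsLocalRing.mem_maximalIdeal, mem_nonunits_iff]
    intro hu
    rw [IsLocalRing.mem_maximalIdeal, mem_nonunits_iff] at this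
    apply this
    have h1 := hu.map e
    rwa [AlgEquiv.apply_symm_apply] at h1
  choose s hs using fun i : Fin n => hgs (e.symm (MvPowerSeries.X i))
  have hs0 : ∀ i, s i ∈ IsLocalRing.maximalIdeal S.carrier := fun i => by
    rw [CRing.mem_maximalIdeal_iff, ← hg, AlgHom.comp_apply, hs, hX]
  let τ : MvPowerSeries (Fin n) Λ →ₐ[Λ] S.carrier :=
    Groth.Agent.Ega41.PowEval.powEval (R := Λ) (IsLocalRing.maximalIdeal S.carrier) s hs0
  have hτX : ∀ i, τ (MvPowerSeries.X i) = s i := fun i => Groth.Agent.Ega41.PowEval.powEval_X _ s hs0 i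
  have hgτ : g.comp τ = (e.symm : MvPowerSeries (Fin n) Λ →ₐ[Λ] R.carrier) := by
    have h1 := Groth.Agent.CalgB.PowSerMap.ringHom_ext (IsLocalRing.maximalIdeal R.carrier)
      ((g.comp τ : MvPowerSeries (Fin n) Λ →ₐ[Λ] R.carrier) : MvPowerSeries (Fin n) Λ →+* R.carrier)
      ((e.symm : MvPowerSeries (Fin n) Λ →ₐ[Λ] R.carrier) : MvPowerSeries (Fin n) Λ →+* R.carrier)
      (fun i => by
        change g (τ (MvPowerSeries.X i)) ∈ _
        rw [hτX, hs, CRing.mem_maximalIdeal_iff]
        exact hX i)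
      (fun i => by
        change g (τ (MvPowerSeries.X i)) = e.symm (MvPowerSeries.X i)
        rw [hτX, hs])
      (fun r => by
        have h2 : (MvPowerSeries.C r : MvPowerSeries (Fin n) Λ) = algebraMap Λ (MvPowerSeries (Fin n) Λ) r := by
          rw [MvPowerSeries.algebraMap_apply]; rfl
        change (g.comp τ) (MvPowerSeries.C r) = (e.symm : MvPowerSeries (Fin n) Λ →ₐ[Λ] R.carrier) (MvPowerSeries.C r)
        rw [h2, AlgHom.commutes, AlgHom.commutes])
    apply AlgHom.ext
    intro x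
    exact DFunLike.congr_fun h1 x
  have hge : g.comp (τ.comp (e : R.carrier →ₐ[Λ] MvPowerSeries (Fin n) Λ)) = AlgHom.id Λ _ := by
    rw [← AlgHom.comp_assoc, hgτ]
    apply AlgHom.ext
    intro r
    simp
  refine ⟨τ.comp (e : R.carrier →ₐ[Λ] MvPowerSeries (Fin n) Λ), ?_, hge⟩
  rw [← hg, AlgHom.comp_assoc, hge, AlgHom.comp_id]

theorem main [IsNoetherianRing Λ] [IsLocalRing Λ]
    [IsAdicComplete (IsLocalRing.maximalIdeal Λ) Λ] (hk : Function.Surjective (algebraMap Λ k))
    (hF : HasHull F) (R : CRing Λ k) (n : ℕ) (e : R.carrier ≃ₐ[Λ] MvPowerSeries (Fin n) Λ)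
    (ξ : Family R.carrier R.res F) (hξ : Function.Bijective (ξ.app (dual Λ k))) : IsMiniversal ξ := by
  obtain ⟨⟨S, η, hη⟩⟩ := hF
  have h0 := h0_of_isMiniversal η hη
  obtain ⟨g, hg, hgξ⟩ := MinVersal.exists_along_toFormalElt_eq h0 η hη.1 R ξ.toFormalElt
  have happ : ∀ A (φ : HomSet R.carrier R.res A), ξ.app A φ =
      η.app A ⟨φ.1.comp g, by rw [← AlgHom.comp_assoc, φ.2, hg]⟩ := fun A φ =>
    (MinVersal.app_eq_of_toFormalElt_eq hgξ A φ).symm
  -- the tangent map of `g` is bijective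
  have hgs : Function.Surjective g := by
    apply MinVersal.surjective_of_injective_dual g hg
    intro φ ψ h
    apply hξ.1
    rw [happ, happ]
    congr 1
    exact Subtype.ext h
  obtain ⟨σ, hσ, hgσ⟩ := exists_section_of_powerSeries hk n e g hg hgs
  have hσs : Function.Surjective σ := by
    apply MinVersal.surjective_of_injective_dual σ hσ
    intro φ ψ h
    -- `φ = a ∘ g` and `ψ = b ∘ g` on the level of `k[ε]`-points
    obtain ⟨a, ha⟩ := hξ.2 (η.app _ φ)
    obtain ⟨b, hb⟩ := hξ.2 (η.app _ ψ)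
    rw [happ] at ha hb
    have ha' := congrArg Subtype.val (hη.2.1 ha)
    have hb' := congrArg Subtype.val (hη.2.1 hb)
    change a.1.comp g = φ.1 at ha'
    change b.1.comp g = ψ.1 at hb'
    rw [← ha', ← hb', AlgHom.comp_assoc, hgσ, AlgHom.comp_assoc, hgσ, AlgHom.comp_id, AlgHom.comp_id] at h
    apply Subtype.ext
    rw [← ha', ← hb', h]
  have hginj : Function.Injective g := by
    intro x y hxy
    obtain ⟨x, rfl⟩ := hσs x
    obtain ⟨y, rfl⟩ := hσs y
    have h1 : ∀ z, g (σ z) = z := fun z => DFunLike.congr_fun hgσ z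
    rw [h1, h1] at hxy
    rw [hxy]
  have := isMiniversal_along η hη (AlgEquiv.ofBijective g ⟨hginj, hgs⟩) hg
  exact isMiniversal_congr hgξ this

end K726.SmoothHull
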