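import Groth.Agent.Deform.K682.T1Lift
import Groth.Agent.Deform.K680.Hull
import Groth.Agent.ArtFun.K724.Basic
import Groth.Agent.ArtFun.K723.PowSmooth

/-!
# The `T¹`-lifting criterion for functors of Artinian rings
-/

set_option autoImplicit false
set_option linter.unusedSectionVars false
set_option linter.style.haveILetI false
universe u v

namespace K726.T1

open MvPowerSeries IsLocalRing K682.PowLift K682.T1Lift

/-- The kernel of a minimal presentation is stable under partial derivatives if the `T¹`-lifting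
property holds. -/
theorem pderiv_mem {k : Type u} [Field k] (R : ArtFun.CRing k k)
    (h : ∀ (A : ArtFun.Art k k) (M M' : Type u) [AddCommGroup M] [Module (↥A) M] [Module (↥A)ᵐᵒᵖ M]
        [IsCentralScalar (↥A) M] [Module k M] [IsScalarTower k (↥A) M] [IsScalarTower k (↥A)ᵐᵒᵖ M]
        [AddCommGroup M'] [Module (↥A) M'] [Module (↥A)ᵐᵒᵖ M'] [IsCentralScalar (↥A) M'] [Module k M']
        [IsScalarTower k (↥A) M'] [IsScalarTower k (↥A)ᵐᵒᵖ M'] [Module.Finite (↥A) M] [Module.Finite (↥A) M']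
        (f : M' →ₗ[↥A] M),
        Function.Surjective f →
          ∀ φ : R.carrier →ₐ[k] TrivSqZeroExt (↥A) M,
            ∃ ψ : R.carrier →ₐ[k] TrivSqZeroExt (↥A) M',
              ∀ r : R.carrier, (ψ r).fst = (φ r).fst ∧ f (ψ r).snd = (φ r).snd)
    {n : ℕ} (Φ : MvPowerSeries (Fin n) k →ₐ[k] R.carrier) (hΦ : Function.Surjective Φ)
    (hX : ∀ i, Φ (X i) ∈ maximalIdeal R.carrier) (hres : ∀ f, R.res (Φ f) = constantCoeff f)
    (hmin : ∀ f, Φ f = 0 → ∀ i, constantCoeff (pderiv k i f) = 0)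
    (g : MvPowerSeries (Fin n) k) (hg : Φ g = 0) (i : Fin n) : Φ (pderiv k i g) = 0 := by
  have hcompl := R.isAdicComplete
  refine IsHausdorff.haus (I := maximalIdeal R.carrier) inferInstance _ fun N => ?_
  rw [SModEq.zero, smul_eq_mul, Ideal.mul_top]
  refine Ideal.pow_le_pow_right (Nat.le_succ N) ?_
  -- work over `A = R / m^(N+1)`
  let A : ArtFun.Art k k := R.trunc N
  let q : R.carrier →ₐ[k] A := Ideal.Quotient.mkₐ k (R.mpow N)
  have hq0 : ∀ r, q r = 0 → r ∈ maximalIdeal R.carrier ^ (N + 1) := fun r hr =>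
    Ideal.Quotient.eq_zero_iff_mem.1 hr
  have hqm : ∀ r ∈ maximalIdeal R.carrier, q r ∈ maximalIdeal A := by
    intro r hr
    rw [ArtFun.Art.mem_maximalIdeal_iff]
    exact (R.mem_maximalIdeal_iff r).1 hr
  let w : MvPowerSeries (Fin n) k → (Fin n → A) := fun g i => q (Φ (pderiv k i g))
  let W : Submodule A (Fin n → A) := Submodule.span A {x | ∃ g, Φ g = 0 ∧ w g = x}
  have hwW : ∀ g, Φ g = 0 → w g ∈ W := fun g hg => Submodule.subset_span ⟨g, hg, rfl⟩
  have hwadd : ∀ a b, w (a + b) = w a + w b := fun a b => by ext i; simp [w]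
  have hwsmul : ∀ (r : k) a, w (r • a) = r • w a := fun r a => by ext i; simp [w]
  have hwmul : ∀ a b, w (a * b) = q (Φ a) • w b + q (Φ b) • w a := fun a b => by
    ext i
    simp only [w, Derivation.leibniz, map_add, smul_eq_mul, map_mul, Pi.add_apply, Pi.smul_apply]
  let δ : MvPowerSeries (Fin n) k →ₗ[k] ((Fin n → A) ⧸ W) :=
    { toFun := fun a => W.mkQ (w a)
      map_add' := fun a b => by rw [hwadd, map_add]
      map_smul' := fun r a => by rw [hwsmul]; rfl }
  let Δ : MvPowerSeries (Fin n) k →ₐ[k] TrivSqZeroExt A ((Fin n → A) ⧸ W) :=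
    mkHom (q.comp Φ) δ (fun a b => by
      change W.mkQ (w (a * b)) = q (Φ a) • W.mkQ (w b) + q (Φ b) • W.mkQ (w a)
      rw [hwmul, map_add, map_smul, map_smul])
  have hΔ1 : ∀ a, (Δ a).fst = q (Φ a) := fun a => mkHom_fst _ _ _ a
  have hΔ2 : ∀ a, (Δ a).snd = W.mkQ (w a) := fun a => mkHom_snd _ _ _ a
  obtain ⟨φ, hφ⟩ := exists_factor Φ hΦ Δ (fun s hs => by
    ext
    · rw [hΔ1, hs]; simp
    · rw [hΔ2, TrivSqZeroExt.snd_zero]
      exact (Submodule.Quotient.mk_eq_zero W).2 (hwW s hs))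
  obtain ⟨ψ, hψ⟩ := h A ((Fin n → A) ⧸ W) (Fin n → A) W.mkQ W.mkQ_surjective φ
  let e : Fin n → (Fin n → A) := fun i => (ψ (Φ (X i))).snd
  let δ₂ : MvPowerSeries (Fin n) k →ₗ[k] (Fin n → A) :=
    { toFun := fun a => ∑ i, w a i • e i
      map_add' := fun a b => by
        rw [hwadd, ← Finset.sum_add_distrib]
        exact Finset.sum_congr rfl fun i _ => by rw [Pi.add_apply, add_smul]
      map_smul' := fun r a => by
        rw [hwsmul, RingHom.id_apply, Finset.smul_sum]
        exact Finset.sum_congr rfl fun i _ => by rw [Pi.smul_apply, smul_assoc] }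
  let Ψ₂ : MvPowerSeries (Fin n) k →ₐ[k] TrivSqZeroExt A (Fin n → A) :=
    mkHom (q.comp Φ) δ₂ (fun a b => by
      change ∑ i, w (a * b) i • e i = q (Φ a) • ∑ i, w b i • e i + q (Φ b) • ∑ i, w a i • e i
      rw [hwmul, Finset.smul_sum, Finset.smul_sum, ← Finset.sum_add_distrib]
      refine Finset.sum_congr rfl fun i _ => ?_
      rw [Pi.add_apply, Pi.smul_apply, Pi.smul_apply, add_smul, smul_assoc, smul_assoc])
  obtain ⟨N', hN'⟩ := IsArtinianRing.isNilpotent_jacobson_bot (R := A)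
  rw [IsLocalRing.jacobson_eq_maximalIdeal ⊥ bot_ne_top] at hN'
  have hwX : ∀ i, w (X i) = Pi.single i 1 := by
    intro i
    ext j
    simp only [w]
    by_cases hij : j = i
    · subst hij; simp
    · rw [pderiv_X_of_ne (by tauto)]
      simp [hij]
  have hΨ : ψ.comp Φ = Ψ₂ := by
    refine algHom_ext (idl (Fin n → A) (maximalIdeal A)) (N' * 2) (idl_pow _ N' hN') _ _ ?_ ?_
    · intro i
      change (ψ (Φ (X i))).fst ∈ maximalIdeal A
      rw [(hψ _).1, hφ, hΔ1]
      exact hqm _ (hX i)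
    · intro i
      ext j
      · change (ψ (Φ (X i))).fst = _
        rw [(hψ _).1, hφ, hΔ1, mkHom_fst]
        rfl
      · change (ψ (Φ (X i))).snd j = _
        rw [mkHom_snd]
        change e i j = (∑ l, w (X i) l • e l) j
        rw [hwX, Finset.sum_eq_single i]
        · simp
        · intro l _ hl
          rw [Pi.single_eq_of_ne hl, zero_smul]
        · intro h
          exact absurd (Finset.mem_univ _) h
  -- the vectors `e i` are the standard basis modulo `W`
  have he : ∀ i, e i - Pi.single i 1 ∈ W := by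
    intro i
    have h1 : W.mkQ (e i) = W.mkQ (Pi.single i 1) := by
      rw [(hψ _).2, hφ, hΔ2, hwX]
    rw [← sub_eq_zero, ← map_sub] at h1
    exact (Submodule.Quotient.mk_eq_zero W).1 h1
  have hrel : ∀ g, Φ g = 0 → ∑ i, w g i • e i = 0 := by
    intro g hg
    have h1 : (ψ.comp Φ) g = 0 := by rw [AlgHom.comp_apply, hg, map_zero]
    rw [hΨ] at h1
    have h2 := congrArg TrivSqZeroExt.snd h1
    rw [mkHom_snd] at h2
    exact h2
  have hW : W ≤ maximalIdeal A • W := by
    refine Submodule.span_le.2 ?_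
    rintro _ ⟨g, hg, rfl⟩
    have h1 : w g = - ∑ i, w g i • (e i - Pi.single i 1) := by
      simp only [smul_sub, Finset.sum_sub_distrib, hrel g hg]
      ext j
      simp [Finset.sum_apply, Pi.single_apply]
    rw [h1]
    refine Submodule.neg_mem _ (Submodule.sum_mem _ fun i _ => Submodule.smul_mem_smul ?_ (he i))
    refine hqm _ ?_
    rw [R.mem_maximalIdeal_iff, hres]
    exact hmin g hg i
  have hW0 : W = ⊥ := by
    refine Submodule.eq_bot_of_le_smul_of_le_jacobson_bot (maximalIdeal A) W (IsNoetherian.noetherian W) hW ?_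
    exact (IsLocalRing.jacobson_eq_maximalIdeal ⊥ bot_ne_top).ge
  have h5 : w g = 0 := by
    have := hwW g hg
    rw [hW0, Submodule.mem_bot] at this
    exact this
  exact hq0 _ (congrFun h5 i)


section Obj

open CategoryTheory ArtFun ArtFun.Art

variable {k : Type u} [Field k]

section

variable (A : Art k k) (M : Type u) [AddCommGroup M] [Module (↥A) M] [Module (↥A)ᵐᵒᵖ M]
  [IsCentralScalar (↥A) M] [Module k M] [IsScalarTower k (↥A) M] [IsScalarTower k (↥A)ᵐᵒᵖ M] [Module.Finite (↥A) M]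

/-- The split square-zero extension of an object by a finite module. -/
noncomputable abbrev sqz : Art k k :=
  haveI : Module.Finite A (TrivSqZeroExt A M) := inferInstanceAs (Module.Finite A (A × M))
  haveI : IsNoetherianRing (TrivSqZeroExt A M) :=
    isNoetherian_of_tower A (isNoetherian_of_isNoetherianRing_of_finite A _)
  K724.Basic.mkObj (TrivSqZeroExt A M) (A.res.comp (TrivSqZeroExt.fstHom k A M))
    (fun c => by
      obtain ⟨a, ha⟩ := A.res_surjective c
      exact ⟨TrivSqZeroExt.inl a, ha⟩)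
    (fun s hs => by
      obtain ⟨n, hn⟩ := K724.Basic.isNilpotent_of_res_eq_zero A s.fst hs
      refine ⟨n * 2, ?_⟩
      rw [pow_mul, pow_two]
      have h1 : (s ^ n).fst = 0 := by rw [TrivSqZeroExt.fst_pow, hn]
      ext
      · simp [hn]
      · simp [hn])

noncomputable abbrev sqzFst : sqz A M ⟶ A := ⟨TrivSqZeroExt.fstHom k A M, rfl⟩

noncomputable abbrev sqzInl : A ⟶ sqz A M := ⟨TrivSqZeroExt.inlAlgHom k A M, AlgHom.ext fun _ => rfl⟩

theorem sqzInl_fst : sqzInl A M ≫ sqzFst A M = 𝟙 A := hom_ext (AlgHom.ext fun _ => rfl)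

theorem ker_sqzFst : RingHom.ker (sqzFst A M).toAlgHom * RingHom.ker (sqzFst A M).toAlgHom = ⊥ := by
  rw [eq_bot_iff, Ideal.mul_le]
  intro a ha b hb
  have ha' : TrivSqZeroExt.fst a = 0 := ha
  have hb' : TrivSqZeroExt.fst b = 0 := hb
  rw [Ideal.mem_bot]
  apply TrivSqZeroExt.ext
  · change TrivSqZeroExt.fst a * TrivSqZeroExt.fst b = 0
    rw [ha', zero_mul]
  · change TrivSqZeroExt.fst a • TrivSqZeroExt.snd b + MulOpposite.op (TrivSqZeroExt.fst b) • TrivSqZeroExt.snd a = 0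
    rw [ha', hb', zero_smul, op_smul_eq_smul, zero_smul, zero_add]

end

section

variable (A : Art k k) {M M' : Type u} [AddCommGroup M] [Module (↥A) M] [Module (↥A)ᵐᵒᵖ M]
  [IsCentralScalar (↥A) M] [Module k M] [IsScalarTower k (↥A) M] [IsScalarTower k (↥A)ᵐᵒᵖ M] [Module.Finite (↥A) M]
  [AddCommGroup M'] [Module (↥A) M'] [Module (↥A)ᵐᵒᵖ M'] [IsCentralScalar (↥A) M'] [Module k M']
  [IsScalarTower k (↥A) M'] [IsScalarTower k (↥A)ᵐᵒᵖ M'] [Module.Finite (↥A) M']

/-- The underlying algebra map of `sqzMap`. -/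
noncomputable def sqzAlg (f : M' →ₗ[↥A] M) : TrivSqZeroExt A M' →ₐ[k] TrivSqZeroExt A M :=
  K682.PowLift.mkHom (TrivSqZeroExt.fstHom k A M')
    { toFun := fun s => f s.snd
      map_add' := fun a b => by rw [TrivSqZeroExt.snd_add, map_add]
      map_smul' := fun c a => by
        rw [TrivSqZeroExt.snd_smul, RingHom.id_apply, ← algebraMap_smul A c, map_smul, algebraMap_smul] }
    (fun a b => by
      change f (a * b).snd = a.fst • f b.snd + b.fst • f a.snd
      rw [TrivSqZeroExt.snd_mul, map_add, map_smul, op_smul_eq_smul, map_smul])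

theorem sqzAlg_fst (f : M' →ₗ[↥A] M) (s : TrivSqZeroExt A M') : (sqzAlg A f s).fst = s.fst :=
  K682.PowLift.mkHom_fst _ _ _ s

theorem sqzAlg_snd (f : M' →ₗ[↥A] M) (s : TrivSqZeroExt A M') : (sqzAlg A f s).snd = f s.snd :=
  K682.PowLift.mkHom_snd _ _ _ s

/-- Functoriality of the split square-zero extension in the module. -/
noncomputable def sqzMap (f : M' →ₗ[↥A] M) : sqz A M' ⟶ sqz A M :=
  ⟨sqzAlg A f, AlgHom.ext fun s => congrArg A.res (sqzAlg_fst A f s)⟩

theorem sqzMap_fst_apply (f : M' →ₗ[↥A] M) (s : sqz A M') :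
    TrivSqZeroExt.fst ((sqzMap A f) s : TrivSqZeroExt A M) = TrivSqZeroExt.fst s :=
  sqzAlg_fst A f s

theorem sqzMap_snd_apply (f : M' →ₗ[↥A] M) (s : sqz A M') :
    TrivSqZeroExt.snd ((sqzMap A f) s : TrivSqZeroExt A M) = f (TrivSqZeroExt.snd s) :=
  sqzAlg_snd A f s

theorem sqzMap_fst (f : M' →ₗ[↥A] M) : sqzMap A f ≫ sqzFst A M = sqzFst A M' :=
  hom_ext (AlgHom.ext fun s => sqzMap_fst_apply A f s)

theorem sqzInl_map (f : M' →ₗ[↥A] M) : sqzInl A M' ≫ sqzMap A f = sqzInl A M := by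
  apply hom_ext
  apply AlgHom.ext
  intro a
  apply TrivSqZeroExt.ext
  · exact sqzMap_fst_apply A f _
  · refine (sqzMap_snd_apply A f _).trans ?_
    exact map_zero f

theorem sqzMap_surjective (f : M' →ₗ[↥A] M) (hf : Function.Surjective f) : Function.Surjective (sqzMap A f) := by
  intro x
  obtain ⟨y, hy⟩ := hf (TrivSqZeroExt.snd x)
  refine ⟨((TrivSqZeroExt.fst x, y) : A × M'), ?_⟩
  apply TrivSqZeroExt.ext
  · exact sqzMap_fst_apply A f _
  · exact (sqzMap_snd_apply A f _).trans hy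

end

/-- Any two `k`-algebra maps from a coefficient `k`-algebra to `k` agree. -/
theorem res_unique (R : CRing k k) (χ : R.carrier →ₐ[k] k) : χ = R.res := by
  apply AlgHom.ext
  intro r
  have h1 : (RingHom.ker (χ : R.carrier →+* k)).IsMaximal :=
    RingHom.ker_isMaximal_of_surjective _ (fun c => ⟨algebraMap k _ c, by simp⟩)
  have h2 : r - algebraMap k R.carrier (R.res r) ∈ maximalIdeal R.carrier := by
    rw [R.mem_maximalIdeal_iff, map_sub, AlgHom.commutes, sub_eq_zero]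
    rfl
  rw [← IsLocalRing.eq_maximalIdeal h1] at h2
  have h3 : χ (r - algebraMap k R.carrier (R.res r)) = 0 := h2
  rw [map_sub, AlgHom.commutes, sub_eq_zero] at h3
  exact h3

/-- The `T¹`-lifting criterion. -/
theorem main [CharZero k] (F : Art k k ⥤ Type v) [TangentStr F] (h0 : H0 F)
    (hRS : (∀ ⦃B A A' A'' : Art k k⦄ (p' : B ⟶ A') (p'' : B ⟶ A'') (f' : A' ⟶ A) (f'' : A'' ⟶ A)
        (h : IsFibreProd p' p'' f' f''), Function.Surjective f'' → Function.Bijective (cmp F h)))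
    (hfin : Hfin F)
    (hT1 : ∀ ⦃A A' A'' : Art k k⦄ (π' : A' ⟶ A) (i' : A ⟶ A') (π'' : A'' ⟶ A) (i'' : A ⟶ A'')
        (q : A'' ⟶ A'), i' ≫ π' = 𝟙 A → i'' ≫ π'' = 𝟙 A →
        RingHom.ker π'.toAlgHom * RingHom.ker π'.toAlgHom = ⊥ →
        RingHom.ker π''.toAlgHom * RingHom.ker π''.toAlgHom = ⊥ →
        q ≫ π' = π'' → i'' ≫ q = i' → Function.Surjective q → Function.Surjective (F.map q)) :
    IsSmoothFunctor F := by
  have hbar : Hbar F := fun B A A' A'' p' p'' f' f'' h hf => (hRS p' p'' f' f'' h hf.1).2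
  have heps : Heps F := fun B A' p' p'' h => hRS p' p'' _ _ h (dual k k).res_surjective
  have hsq : HSq F := fun B A A' p₁ p₂ f h hf => hRS p₁ p₂ f f h hf.1
  obtain ⟨⟨R, ξ, hξ⟩⟩ := K680.Hull.isProrepresentable_of Function.surjective_id F h0 hbar heps hfin hsq
  obtain ⟨Φ, hΦ, hX, hres, hmin⟩ := @K682.T1Lift.exists_presentation k _ R.carrier _ _ _ _ R.isAdicComplete R.res
  have hinj : ∀ f, Φ f = 0 → f = 0 := by
    refine K682.T1Lift.eq_zero_of_pderiv (fun f => Φ f = 0) (fun f hf => ?_) ?_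
    · rw [← hres, hf, map_zero]
    · intro g hg i
      refine pderiv_mem R ?_ Φ hΦ hX hres hmin g hg i
      intro A M M' _ _ _ _ _ _ _ _ _ _ _ _ _ _ _ _ f hf φ
      have h1 := hT1 (sqzFst A M) (sqzInl A M) (sqzFst A M') (sqzInl A M') (sqzMap A f)
        (sqzInl_fst A M) (sqzInl_fst A M') (ker_sqzFst A M) (ker_sqzFst A M') (sqzMap_fst A f) (sqzInl_map A f)
        (sqzMap_surjective A f hf)
      let φ' : HomSet R.carrier R.res (sqz A M) := ⟨φ, res_unique R _⟩
      obtain ⟨y, hy⟩ := h1 (ξ.app _ φ')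
      obtain ⟨ψ, rfl⟩ := (hξ _).2 y
      rw [← ξ.natural] at hy
      have h2 := (hξ _).1 hy
      refine ⟨ψ.1, fun r => ?_⟩
      have h3 : (sqzMap A f) (ψ.1 r) = φ r := DFunLike.congr_fun (congrArg Subtype.val h2) r
      constructor
      · rw [← h3]
        exact (sqzMap_fst_apply A f _).symm
      · rw [← h3]
        exact (sqzMap_snd_apply A f _).symm
  have hsm := K723.PowSmooth.isSmoothFunctor _ (R.res.comp Φ)
  have hΦi : Function.Injective Φ := (injective_iff_map_eq_zero Φ).2 hinj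
  let e := AlgEquiv.ofBijective Φ ⟨hΦi, hΦ⟩
  have hes : ∀ r, Φ (e.symm r) = r := fun r => e.apply_symm_apply r
  intro B A μ hμ a
  obtain ⟨φ, rfl⟩ := (hξ A).2 a
  obtain ⟨ψ, hψ⟩ := hsm μ hμ ⟨φ.1.comp Φ, by rw [← AlgHom.comp_assoc, φ.2]⟩
  refine ⟨ξ.app B ⟨ψ.1.comp e.symm.toAlgHom, ?_⟩, ?_⟩
  · rw [← AlgHom.comp_assoc, ψ.2]
    apply AlgHom.ext
    intro r
    exact congrArg R.res (hes r)
  · rw [← ξ.natural]
    congr 1
    apply Subtype.ext
    apply AlgHom.ext
    intro r
    have h1 := DFunLike.congr_fun (congrArg Subtype.val hψ) (e.symm r)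
    have h2 : φ.1 (Φ (e.symm r)) = φ.1 r := by rw [hes]
    exact h1.trans h2

end Obj

end K726.T1
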