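import Groth.Agent.ArtFun.K726.MinVersal
import Groth.Agent.ArtFun.K724.Basic

/-!
# Lifting property of versal families along surjections of coefficient rings
-/

set_option autoImplicit false
set_option linter.unusedSectionVars false
universe u v
open CategoryTheory ArtFun ArtFun.Art

namespace K726.VersalLift

variable {Λ : Type u} {k : Type u} [CommRing Λ] [Field k] [Algebra Λ k]

open K724.Basic K726.MinVersal

/-- `map` on points of a coefficient ring is functorial. -/
lemma homSet_map_map {R : Type u} [CommRing R] [Algebra Λ R] {resR : R →ₐ[Λ] k} {A B C : Art Λ k}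
    (f : A ⟶ B) (g : B ⟶ C) (x : HomSet R resR A) : HomSet.map g (HomSet.map f x) = HomSet.map (f ≫ g) x :=
  Subtype.ext (AlgHom.ext fun _ => rfl)

lemma mem_mpow_of_surjective {A' A : CRing Λ k} (g : A'.carrier →ₐ[Λ] A.carrier) (hg : A.res.comp g = A'.res)
    (hgs : Function.Surjective g) (n : ℕ) (a : A.carrier) (ha : a ∈ CRing.mpow A n) :
    ∃ b ∈ CRing.mpow A' n, g b = a := by
  have hmax : Ideal.map (g : A'.carrier →+* A.carrier) (IsLocalRing.maximalIdeal A'.carrier) =
      IsLocalRing.maximalIdeal A.carrier := by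
    apply le_antisymm
    · rw [Ideal.map_le_iff_le_comap]
      intro x hx
      rw [Ideal.mem_comap, CRing.mem_maximalIdeal_iff]
      have := (CRing.mem_maximalIdeal_iff A' x).1 hx
      rw [← hg] at this
      exact this
    · intro x hx
      obtain ⟨y, rfl⟩ := hgs x
      refine Ideal.mem_map_of_mem (g : A'.carrier →+* A.carrier) ?_
      rw [CRing.mem_maximalIdeal_iff, ← hg]
      exact (CRing.mem_maximalIdeal_iff A _).1 hx
  have h1 : CRing.mpow A n = Ideal.map (g : A'.carrier →+* A.carrier) (CRing.mpow A' n) := by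
    change IsLocalRing.maximalIdeal A.carrier ^ (n + 1) = _
    rw [← hmax]
    exact (Ideal.map_pow _ _ _).symm
  rw [h1] at ha
  obtain ⟨b, hb, hba⟩ := (Ideal.mem_map_iff_of_surjective (g : A'.carrier →+* A.carrier) hgs).1 ha
  exact ⟨b, hb, hba⟩

theorem main [IsNoetherianRing Λ] [Module.Finite Λ k]
    {F : Art Λ k ⥤ Type v}
    (hRS : ∀ ⦃B A A₁ A₂ : Art Λ k⦄ (p₁ : B ⟶ A₁) (p₂ : B ⟶ A₂) (f₁ : A₁ ⟶ A) (f₂ : A₂ ⟶ A)
        (h : IsFibreProd p₁ p₂ f₁ f₂), Function.Surjective f₂ → Function.Bijective (cmp F h))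
    (R : CRing Λ k) (ξ : Family R.carrier R.res F) (hξ : IsVersal ξ)
    (A' A : CRing Λ k) (g : A'.carrier →ₐ[Λ] A.carrier) (hg : A.res.comp g = A'.res)
    (hgs : Function.Surjective g) (η' : FormalElt F A')
    (φ : R.carrier →ₐ[Λ] A.carrier) (hφ : A.res.comp φ = R.res)
    (hsq : (ξ.along φ hφ).toFormalElt = η'.push g hg) :
    ∃ (ψ : R.carrier →ₐ[Λ] A'.carrier) (hψ : A'.res.comp ψ = R.res),
      g.comp ψ = φ ∧ (ξ.along ψ hψ).toFormalElt = η' := by
  let φn : ∀ n, HomSet R.carrier R.res (A.trunc n) := fun n =>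
    ⟨(A.truncHom n).1.comp φ, by rw [← AlgHom.comp_assoc, (A.truncHom n).2, hφ]⟩
  have hφn : ∀ n, ξ.app _ (φn n) = F.map (CRing.truncMapOfHom g hg n) (η'.elt n) := fun n =>
    congrArg (fun t => t.elt n) hsq
  have hφc : ∀ n, HomSet.map (A.truncMap n) (φn (n + 1)) = φn n := fun n =>
    Subtype.ext (AlgHom.ext fun _ => rfl)
  have step : ∀ (n : ℕ) (ψ : HomSet R.carrier R.res (A'.trunc n)),
      HomSet.map (CRing.truncMapOfHom g hg n) ψ = φn n → ξ.app _ ψ = η'.elt n →
      ∃ ψ' : HomSet R.carrier R.res (A'.trunc (n + 1)), HomSet.map (A'.truncMap n) ψ' = ψ ∧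
        HomSet.map (CRing.truncMapOfHom g hg (n + 1)) ψ' = φn (n + 1) ∧ ξ.app _ ψ' = η'.elt (n + 1) := by
    intro n ψ h1 h2
    obtain ⟨B, p₁, p₂, hB⟩ := exists_isFibreProd (CRing.truncMapOfHom g hg n) (A.truncMap n)
      (truncMap_surjective A n)
    obtain ⟨q, hq1, hq2⟩ := IsFibreProd.exists_lift hB (A'.truncMap n) (CRing.truncMapOfHom g hg (n + 1))
      (CRing.truncMapOfHom_truncMap g hg n).symm
    have hq : Function.Surjective q := by
      intro b
      obtain ⟨x, hx⟩ := Ideal.Quotient.mk_surjective (p₁ b)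
      obtain ⟨y, hy⟩ := Ideal.Quotient.mk_surjective (p₂ b)
      have hxy : Ideal.Quotient.mk (CRing.mpow A n) (g x) = Ideal.Quotient.mk (CRing.mpow A n) y := by
        have := hB.w_apply b
        rw [← hx, ← hy] at this
        exact this
      rw [Ideal.Quotient.eq] at hxy
      obtain ⟨z, hz, hzg⟩ := mem_mpow_of_surjective g hg hgs n _ hxy
      refine ⟨Ideal.Quotient.mk _ (x - z), hB.inj _ _ ?_ ?_⟩
      · have e1 : p₁ (q (Ideal.Quotient.mk (CRing.mpow A' (n + 1)) (x - z))) =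
            (q ≫ p₁) (Ideal.Quotient.mk (CRing.mpow A' (n + 1)) (x - z)) := rfl
        rw [e1, hq1, ← hx]
        change Ideal.Quotient.mk (CRing.mpow A' n) (x - z) = Ideal.Quotient.mk (CRing.mpow A' n) x
        rw [Ideal.Quotient.eq]
        have : x - z - x = -z := by ring
        rw [this]
        exact Ideal.neg_mem_iff _ |>.2 hz
      · have e1 : p₂ (q (Ideal.Quotient.mk (CRing.mpow A' (n + 1)) (x - z))) =
            (q ≫ p₂) (Ideal.Quotient.mk (CRing.mpow A' (n + 1)) (x - z)) := rfl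
        rw [e1, hq2, ← hy]
        change Ideal.Quotient.mk (CRing.mpow A (n + 1)) (g (x - z)) = Ideal.Quotient.mk (CRing.mpow A (n + 1)) y
        rw [map_sub, hzg, sub_sub_cancel]
    have e : HomSet.map (CRing.truncMapOfHom g hg n) ψ = HomSet.map (A.truncMap n) (φn (n + 1)) := by
      rw [h1, hφc]
    let χ := IsFibreProd.lift hB ψ (φn (n + 1)) e
    have hχ1 : HomSet.map p₁ χ = ψ := IsFibreProd.lift_fst hB ψ (φn (n + 1)) e
    have hχ2 : HomSet.map p₂ χ = φn (n + 1) := IsFibreProd.lift_snd hB ψ (φn (n + 1)) e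
    have key : ξ.app B χ = F.map q (η'.elt (n + 1)) := by
      apply (hRS p₁ p₂ _ _ hB (truncMap_surjective A n)).1
      apply FibProd.ext
      · change F.map p₁ (ξ.app B χ) = F.map p₁ (F.map q (η'.elt (n + 1)))
        rw [← ξ.natural, hχ1, h2, K724.Basic.map_comp_apply, hq1, η'.compat]
      · change F.map p₂ (ξ.app B χ) = F.map p₂ (F.map q (η'.elt (n + 1)))
        rw [← ξ.natural, hχ2, hφn, K724.Basic.map_comp_apply, hq2]
    obtain ⟨ψ', h3, h4⟩ := hξ q hq χ _ key.symm
    refine ⟨ψ', ?_, ?_, h4⟩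
    · rw [← hχ1, ← h3, homSet_map_map, hq1]
    · rw [← hχ2, ← h3, homSet_map_map, hq2]
  have hbase : ∃ ψ : HomSet R.carrier R.res (A'.trunc 0),
      HomSet.map (CRing.truncMapOfHom g hg 0) ψ = φn 0 ∧ ξ.app _ ψ = η'.elt 0 := by
    have hbij : Function.Bijective (CRing.truncMapOfHom g hg 0) := by
      constructor
      · intro a b hab
        obtain ⟨x, rfl⟩ := Ideal.Quotient.mk_surjective a
        obtain ⟨y, rfl⟩ := Ideal.Quotient.mk_surjective b
        have h1 : Ideal.Quotient.mk (CRing.mpow A 0) (g x) = Ideal.Quotient.mk (CRing.mpow A 0) (g y) := hab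
        rw [Ideal.Quotient.eq] at h1
        refine Ideal.Quotient.eq.2 ?_
        change _ ∈ IsLocalRing.maximalIdeal _ ^ (0 + 1) at h1
        change _ ∈ IsLocalRing.maximalIdeal _ ^ (0 + 1)
        rw [zero_add, pow_one, CRing.mem_maximalIdeal_iff, ← map_sub] at h1
        rw [zero_add, pow_one, CRing.mem_maximalIdeal_iff, ← hg]
        exact h1
      · intro a
        obtain ⟨x, rfl⟩ := Ideal.Quotient.mk_surjective a
        obtain ⟨y, rfl⟩ := hgs x
        exact ⟨Ideal.Quotient.mk _ y, rfl⟩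
    haveI := isIso_of_bijective _ hbij
    refine ⟨HomSet.map (inv (CRing.truncMapOfHom g hg 0)) (φn 0), ?_, ?_⟩
    · rw [homSet_map_map, IsIso.inv_hom_id]
      exact Subtype.ext (AlgHom.ext fun _ => rfl)
    · rw [ξ.natural, hφn, K724.Basic.map_comp_apply, IsIso.hom_inv_id, K724.Basic.map_id_apply]
  obtain ⟨ψ₀, h01, h02⟩ := hbase
  let T : ℕ → Type u := fun n => {ψ : HomSet R.carrier R.res (A'.trunc n) //
    HomSet.map (CRing.truncMapOfHom g hg n) ψ = φn n ∧ ξ.app _ ψ = η'.elt n}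
  let seq : ∀ n, T n := fun n => Nat.rec (motive := T) ⟨ψ₀, h01, h02⟩
    (fun n ψ => ⟨(step n ψ.1 ψ.2.1 ψ.2.2).choose, (step n ψ.1 ψ.2.1 ψ.2.2).choose_spec.2⟩) n
  have hseq : ∀ n, HomSet.map (A'.truncMap n) (seq (n + 1)).1 = (seq n).1 := fun n =>
    (step n (seq n).1 (seq n).2.1 (seq n).2.2).choose_spec.1
  obtain ⟨ψ, hψ, hψn⟩ := K723.Formal.exists_glue A' (fun n => (seq n).1) hseq
  refine ⟨ψ, hψ, ?_, ?_⟩
  · apply K723.Formal.hom_ext_trunc
    intro n
    have h1 : (A.truncHom n).1.comp (g.comp ψ) =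
        (CRing.truncMapOfHom g hg n).toAlgHom.comp ((A'.truncHom n).1.comp ψ) := AlgHom.ext fun _ => rfl
    rw [h1, hψn n]
    exact congrArg Subtype.val (seq n).2.1
  · apply FormalElt.ext'
    intro n
    rw [← (seq n).2.2]
    change ξ.app _ _ = _
    congr 1
    exact Subtype.ext (hψn n)

end K726.VersalLift
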